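import Cfsg.Agent.H44.OrbitTree
import Cfsg.Agent.H44.M22Data

/-!
Orbits of the two-point stabiliser in the group of the code on octads and pairs.
-/

set_option autoImplicit false

namespace Cfsg.Agent.H44

open Cfsg Cfsg.Agent.Golay
open scoped Pointwise

/-- The fixed points 23 and 0. -/
def maskTwo : ℕ := 0 ||| 2 ^ 23 ||| 2 ^ 0

/-- Octads through both fixed points. -/
def hexList : List ℕ := octadList.filter fun m => m.testBit 23 && m.testBit 0

/-- Octads through the first fixed point only. -/
def hepTwoList : List ℕ := octadList.filter fun m => m.testBit 23 && !m.testBit 0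

def hexRoot : ℕ := 8391797

def hepTwoRoot : ℕ := 8394986

/-- The pair `{1, 2}`. -/
def duadRoot : ℕ := 6

/-- A pair lies with the root pair in an octad through both fixed points. -/
def duadProp (t : ℕ) : Bool := hexList.any fun o => (duadRoot ||| t) &&& o == duadRoot ||| t

/-- Pairs avoiding both fixed points. -/
def duadList : List ℕ :=
  ((List.range 23).flatMap fun j => (List.range j).map fun i => 2 ^ i ||| 2 ^ j).filter
    fun t => !t.testBit 0

def duadKey (t : ℕ) : ℕ := 2 * popCnt (t &&& duadRoot) + (duadProp t).toNat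

lemma hex_cert : checkClasses [] maskTwo hexTransGens (fun _ => 0) hexList hexTransTrees = true ∧
    hexList.contains hexRoot = true := by
  decide +kernel

lemma hex_orb_cert :
    checkClasses [hexRoot] maskTwo hexOrbGens (fun m => popCnt (m &&& hexRoot)) hexList
      hexOrbTrees = true ∧
    (hexList.filter fun m => popCnt (m &&& hexRoot) == 2).length = 16 ∧
    (hexList.filter fun m => popCnt (m &&& hexRoot) == 4).length = 60 := by
  decide +kernel

lemma hepTwo_cert :
    checkClasses [] maskTwo hep2TransGens (fun _ => 0) hepTwoList hep2TransTrees = true ∧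
    hepTwoList.contains hepTwoRoot = true ∧ hepTwoList.length = 176 := by
  decide +kernel

lemma hepTwo_orb_cert :
    checkClasses [hepTwoRoot] maskTwo hep2OrbGens (fun m => popCnt (m &&& hepTwoRoot)) hepTwoList
      hep2OrbTrees = true ∧
    (hepTwoList.filter fun m => popCnt (m &&& hepTwoRoot) == 2).length = 70 ∧
    (hepTwoList.filter fun m => popCnt (m &&& hepTwoRoot) == 4).length = 105 := by
  decide +kernel

lemma duad_cert :
    checkClasses [duadRoot] maskTwo duadOrbGens duadKey duadList duadOrbTrees = true ∧
    (duadList.filter fun t => (t &&& duadRoot == 0) && duadProp t).length = 30 ∧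
    (duadList.filter fun t => (t &&& duadRoot == 0) && !duadProp t).length = 160 ∧
    isIncr (duadList.filter fun t => t &&& duadRoot == 0) = true := by
  decide +kernel

lemma maskTwo_bits : maskTwo.testBit 23 = true ∧ maskTwo.testBit 0 = true := by decide

lemma stab_maskTwo {E : List ℕ} {σ : Equiv.Perm GolayPt} (hσ : σ ∈ stabGrp E maskTwo) :
    σ (pt 23) = pt 23 ∧ σ (pt 0) = pt 0 :=
  ⟨stabGrp_fix hσ (by norm_num) maskTwo_bits.1, stabGrp_fix hσ (by norm_num) maskTwo_bits.2⟩

lemma mem_hexList {s : Finset GolayPt} :
    maskOf s ∈ hexList ↔ s ∈ octads ∧ pt 23 ∈ s ∧ pt 0 ∈ s := by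
  simp [hexList, List.mem_filter, mem_octads_iff, pt_mem_iff]

lemma mem_hepTwoList {s : Finset GolayPt} :
    maskOf s ∈ hepTwoList ↔ s ∈ octads ∧ pt 23 ∈ s ∧ pt 0 ∉ s := by
  simp [hepTwoList, List.mem_filter, mem_octads_iff, pt_mem_iff]

lemma octadList_ptSet_maskOf {r : ℕ} (h : r ∈ octadList) : maskOf (ptSet r) = r :=
  maskOf_ptSet (octadList_lt h)

end Cfsg.Agent.H44
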