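import Cfsg.Agent.H44.Centralizer
import Cfsg.Agent.H44.M22Orbits

/-!
The two-point stabiliser in the group of the code has no subgroup of order 7920 or 2112.
-/

set_option autoImplicit false

set_option Elab.async false

namespace Cfsg.Agent.H44

open Cfsg Cfsg.Agent.Golay
open scoped Pointwise

/-- An element of order 5 normalising the subgroup of order 11. -/
def fiveElt : ℕ := 977012746031610721494999636274064416

/-- An element squaring `fiveElt` by conjugation. -/
def fiveConj : ℕ := 972326803059349338069391454701259424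

/-- An element of order 7 generated by the two normalisers. -/
def sevenWord : ℕ := (tblMul m22Elt fiveConj)

/-- Witness octads for the centraliser of `fiveElt`. -/
def fiveWit : List ℕ :=
  [0, 0, 0, 5279, 0, 0, 5279, 10558, 10558, 5279, 5279, 5279, 10558, 5279, 10558, 5279, 10558,
  5279, 0, 0, 5279, 10558, 5279, 5279, 5279, 5279, 0, 0, 5279, 5279, 0, 0, 5279, 10558, 5279,
  10558, 5279, 10558, 5279, 5279, 5279, 5279, 0, 0, 5279, 5279, 0, 0, 5279, 5279, 5279, 5279, 0,
  0, 5279, 5279, 5279, 5279, 5279, 5279, 5279, 5279, 5279, 5279, 5279, 5279, 5279, 5279, 5279,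
  5279, 10558, 10558, 0, 0, 0, 0, 5279, 5279, 5279, 5279, 0, 0, 5279, 10558, 0, 0, 10558, 5279,
  5279, 5279, 5279, 10558, 5279, 10558, 5279, 5279, 10558, 5279, 0, 0, 5279, 5279, 5279, 10558,
  5279, 5279, 0, 0, 10558, 5279, 0, 0, 5279, 10558, 0, 5279, 5279, 5279, 10558, 5279, 5279, 5279,
  0, 0, 10558, 10558, 0, 0, 5279, 5279, 5279, 5279, 0, 0, 5279, 5279, 5279, 5279, 5279, 5279,
  5279, 5279, 5279, 5279, 5279, 5279, 5279, 5279, 5279, 5279, 5279, 5279, 0, 0, 0, 0, 5279, 5279,
  5279, 5279, 5279, 5279, 5279, 2101096, 5279, 5279, 5279, 5279, 0, 0, 5279, 10558, 5279, 10558,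
  0, 0, 0, 0, 10558, 10558, 5279, 5279, 5279, 10558, 5279, 10558, 5279, 5279, 0, 0, 5279, 5279,
  5279, 5279, 5279, 5279, 5279, 5279, 0, 0, 5279, 5279, 5279, 5279, 5279, 5279, 10558, 5279,
  5279, 5279, 0, 0, 5279, 5279, 5279, 5279, 5279, 5279, 10558, 10558, 0, 0, 0, 0, 0, 0, 5279,
  5279, 10558, 5279, 5279, 5279, 10558, 5279, 10558, 5279, 0, 0, 10558, 5279, 10558, 10558, 0, 0,
  5279, 5279, 0, 0, 5279, 5279, 5279, 5279, 0, 0, 5279, 5279, 5279, 5279, 5279, 5279, 5279, 5279,
  5279, 5279, 5279, 5279, 5279, 5279, 5279, 5279, 5279, 5279, 0, 0, 0, 0, 5279, 5279, 5279, 5279,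
  5279, 5279, 5279, 5279, 10558, 10558, 5279, 5279, 0, 0, 5279, 5279, 5279, 2101096, 0, 0, 0, 0,
  5279, 5279, 5279, 10558, 5279, 10558, 5279, 10558, 5279, 5279, 0, 0, 5279, 5279, 5279, 5279,
  5279, 10558, 5279, 5279, 0, 0, 5279, 5279, 5279, 5279, 5279, 5279, 5279, 10558, 0, 0, 5279,
  5279, 5279, 5279, 0, 0, 0, 0, 5279, 5279, 5279, 10558, 5279, 5279, 5279, 10558, 10558, 10558,
  0, 0, 5279, 5279, 5279, 5279, 5279, 2101096, 5279, 10558, 0, 0, 0, 0, 5279, 10558, 0, 0, 5279,
  10558, 5279, 5279, 5279, 10558, 0, 5279, 10558, 5279, 10558, 5279, 0, 0, 5279, 5279, 5279,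
  5279, 5279, 5279, 0, 0, 5279, 5279, 0, 0, 5279, 10558, 10558, 5279, 5279, 10558, 10558, 5279,
  5279, 5279, 10558, 5279, 5279, 5279, 5279, 5279, 5279, 5279, 0, 0, 10558, 5279, 10558, 5279,
  10558, 5279, 5279, 5279, 0, 0, 0, 0, 0, 0, 5279, 5279, 5279, 5279, 10558, 10558, 5279, 5279,
  10558, 5279, 0, 0, 5279, 5279, 5279, 5279, 10558, 5279, 10558, 10558, 10558, 5279, 10558, 5279,
  0, 0, 5279, 5279, 5279, 5279, 5279, 5279, 5279, 5279, 0, 0, 0, 0, 0, 0, 5279, 5279, 10558,
  5279, 5279, 5279, 10558, 5279, 5279, 5279, 0, 0, 5279, 5279, 5279, 5279, 10558, 5279, 5279,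
  5279, 5279, 5279, 10558, 5279, 0, 0, 10558, 5279, 10558, 5279, 5279, 5279, 5279, 5279, 0, 0, 0,
  0, 0, 0, 10558, 10558, 5279, 5279, 5279, 5279, 10558, 5279, 5279, 5279, 0, 0, 5279, 5279, 0, 0,
  5279, 10558, 0, 0, 0, 5279, 10558, 5279, 5279, 5279, 5279, 10558, 5279, 5279, 5279, 5279, 0, 0,
  5279, 5279, 5279, 10558, 5279, 10558, 0, 0, 10558, 5279, 0, 0, 10558, 5279, 5279, 10558, 5279,
  5279, 10558, 5279, 10558, 10558, 5279, 10558, 5279, 5279, 5279, 5279, 0, 0, 5279, 10558, 5279,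
  5279, 0, 0, 0, 0, 5279, 5279, 5279, 5279, 5279, 10558, 5279, 5279, 5279, 5279, 0, 0, 5279,
  5279, 5279, 2101096, 5279, 5279, 5279, 10558, 0, 0, 0, 0, 10558, 5279, 0, 0, 5279, 10558,
  10558, 5279, 5279, 5279, 5279, 10558, 10558, 5279, 5279, 5279, 0, 0, 5279, 10558, 5279, 5279,
  5279, 10558, 0, 0, 10558, 5279, 0, 0, 0, 5279, 5279, 10558, 5279, 5279, 5279, 5279, 5279, 5279,
  0, 0, 5279, 5279, 0, 0, 5279, 5279, 5279, 5279, 0, 0, 5279, 5279, 5279, 5279, 5279, 5279, 5279,
  5279, 5279, 5279, 5279, 5279, 10558, 10558, 5279, 5279, 5279, 5279, 0, 0, 0, 0, 5279, 5279,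
  5279, 5279, 5279, 5279, 0, 0, 5279, 5279, 0, 0, 5279, 5279, 5279, 5279, 0, 0, 5279, 5279, 5279,
  5279, 10558, 10558, 5279, 5279, 5279, 5279, 5279, 5279, 5279, 5279, 5279, 5279, 5279, 5279, 0,
  0, 0, 0, 5279, 5279, 5279, 5279, 10558, 10558, 5279, 5279, 5279, 5279, 10558, 5279, 5279, 5279,
  0, 0, 10558, 5279, 5279, 5279, 10558, 5279, 5279, 5279, 0, 0, 0, 0, 0, 0, 5279, 5279, 5279,
  5279, 5279, 5279, 5279, 5279, 10558, 5279, 0, 0, 10558, 5279, 5279, 5279, 5279, 5279, 5279,
  5279, 5279, 2101096, 0, 0, 5279, 10558, 5279, 5279, 0, 0, 0, 0, 5279, 5279, 5279, 10558, 5279,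
  5279, 5279, 5279, 5279, 5279, 0, 0, 10558, 10558, 5279, 10558, 5279, 5279, 5279, 10558, 0, 0]

lemma checkCands_take_drop (F X p : ℕ) (reps : List ℕ) : ∀ (n : ℕ) (L : List (List ℕ)) (w : List ℕ),
    checkCands F X p reps L w =
      (checkCands F X p reps (L.take n) w && checkCands F X p reps (L.drop n) (w.drop n))
  | 0, L, w => by simp [checkCands]
  | n + 1, [], w => by simp [checkCands]
  | n + 1, a :: t, w => by
    simp only [List.take_succ_cons, List.drop_succ_cons, checkCands]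
    rw [checkCands_take_drop F X p reps n t w.tail, List.drop_tail]
    simp only [Bool.and_assoc]

/-- The candidate images for the partial centraliser check. -/
def fiveCands : List (List ℕ) := (choices ([2, 3, 1].map fun r =>
      (maskElems (cellOf (fixedSets [] maskTwo) r)).filter fun j =>
        (app fiveElt j == j) == (app fiveElt r == r)))

lemma five_cands_a : checkCands maskTwo fiveElt 5 [2, 3, 1] ((fiveCands.take 400).take 200) fiveWit = true := by
  decide +kernel

lemma five_cands_b : checkCands maskTwo fiveElt 5 [2, 3, 1] ((fiveCands.take 400).drop 200) (fiveWit.drop 200) = true := by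
  decide +kernel

lemma five_cands_c : checkCands maskTwo fiveElt 5 [2, 3, 1] ((fiveCands.drop 400).take 200) (fiveWit.drop 400) = true := by
  decide +kernel

lemma five_cands_d : checkCands maskTwo fiveElt 5 [2, 3, 1] ((fiveCands.drop 400).drop 200) ((fiveWit.drop 400).drop 200) = true := by
  decide +kernel

lemma five_cands_rest : (inStab [] maskTwo fiveElt && ([2, 3, 1].all fun r => r < 24) &&
    isTrivialStab [] (maskTwo ||| srcMask (cyclePairs fiveElt 5 [2, 3, 1] [2, 3, 1]))) = true := by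
  decide +kernel

lemma five_partial : checkPartialCent [] maskTwo fiveElt 5 [2, 3, 1] fiveWit = true := by
  show (_ && checkCands maskTwo fiveElt 5 [2, 3, 1] fiveCands fiveWit) = true
  rw [five_cands_rest, checkCands_take_drop _ _ _ _ 400,
    checkCands_take_drop _ _ _ _ 200 (fiveCands.take 400),
    checkCands_take_drop _ _ _ _ 200 (fiveCands.drop 400),
    five_cands_a, five_cands_b, five_cands_c, five_cands_d]
  rfl

lemma m22_index_cert :
    checkPartialCent [] maskTwo fiveElt 5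
      [2, 3, 1] fiveWit = true ∧
    inStab [] maskTwo fiveConj = true ∧ inStab [] maskTwo m22Elt = true ∧
    ((List.range 11).any fun k =>
      tblEq (tblMul fiveElt m22Elt) (tblMul (mkTbl 24 fun i => iterTbl m22Elt k i) fiveElt)) = true ∧
    tblEq (tblMul fiveConj fiveElt) (tblMul (tblMul fiveElt fiveElt) fiveConj) = true ∧
    ((List.range 24).all fun i => iterTbl fiveElt 5 i == i) = true ∧
    ((List.range 24).all fun i => app fiveElt i == i) = false ∧
    ((List.range 24).all fun i => iterTbl m22Elt 11 i == i) = true ∧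
    ((List.range 24).all fun i => app m22Elt i == i) = false ∧
    ((List.range 24).all fun i => iterTbl sevenWord 7 i == i) = true ∧
    ((List.range 24).all fun i => app sevenWord i == i) = false := by
  refine ⟨five_partial, ?_⟩
  decide +kernel

/-- The group of the two fixed points. -/
noncomputable def baseTwentyTwo : Subgroup (Equiv.Perm GolayPt) := stabGrp [] maskTwo

lemma baseTwentyTwo_eq : baseTwentyTwo = Spor.M22 := spor_M22_eq.symm

lemma card_baseTwentyTwo : Nat.card baseTwentyTwo = 443520 := by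
  rw [baseTwentyTwo_eq, card_spor_M22]

lemma mem_normalizer_of_conj {P : Type*} [Group P] [Finite P] {x y : P}
    (h : ∃ k : ℕ, y * x = x ^ k * y) :
    y ∈ Subgroup.normalizer ((Subgroup.zpowers x : Subgroup P) : Set P) := by
  obtain ⟨k, hk⟩ := h
  have hyx : y * x * y⁻¹ = x ^ k := by rw [hk, mul_inv_cancel_right]
  have hmap : (Subgroup.zpowers x).map (MulAut.conj y).toMonoidHom = Subgroup.zpowers x := by
    refine Subgroup.eq_of_le_of_card_ge ?_ ?_
    · rw [MonoidHom.map_zpowers, Subgroup.zpowers_le]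
      show y * x * y⁻¹ ∈ _
      rw [hyx]
      exact Subgroup.npow_mem_zpowers x k
    · rw [Subgroup.card_map_of_injective (MulAut.conj y).injective]
  rw [Subgroup.mem_normalizer_iff]
  intro z
  conv_rhs => rw [← hmap]
  rw [Subgroup.mem_map]
  constructor
  · exact fun hz => ⟨z, hz, rfl⟩
  · rintro ⟨w, hw, he⟩
    have : w = z := (MulAut.conj y).injective he
    exact this ▸ hw

lemma normIn_card_eleven {H : Subgroup (Equiv.Perm GolayPt)} (hH : H ≤ baseTwentyTwo) :
    Nat.card (normIn H (mkPerm m22Elt)) ∣ 110 := by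
  obtain ⟨-, hcent, -⟩ := m22_facts
  have ho : orderOf (mkPerm m22Elt) = 11 := orderOf_mkPerm (by norm_num)
    (validT_of_inM24 (by
      have := m22_index_cert.2.2.1
      simp only [inStab, Bool.and_eq_true] at this; exact this.1.1))
    m22_index_cert.2.2.2.2.2.2.2.1 m22_index_cert.2.2.2.2.2.2.2.2.1
  exact card_normIn_dvd (by norm_num) ho fun σ hσ hc =>
    centralizer_le_of_check hcent (hH hσ) hc

lemma normIn_card_five {H : Subgroup (Equiv.Perm GolayPt)} (hH : H ≤ baseTwentyTwo) :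
    Nat.card (normIn H (mkPerm fiveElt)) ∣ 20 := by
  have hs : inStab [] maskTwo fiveElt = true := by
    have h := m22_index_cert.1
    simp only [checkPartialCent, Bool.and_eq_true] at h
    exact h.1.1.1
  have ho : orderOf (mkPerm fiveElt) = 5 := orderOf_mkPerm (by norm_num)
    (validT_of_inM24 (by simp only [inStab, Bool.and_eq_true] at hs; exact hs.1.1))
    m22_index_cert.2.2.2.2.2.1 m22_index_cert.2.2.2.2.2.2.1
  exact card_normIn_dvd (by norm_num) ho fun σ hσ hc =>
    centralizer_le_of_partial m22_index_cert.1 (hH hσ) hc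

lemma eq_fifty_five : ∀ a ∈ Nat.divisors 110, ∀ m ∈ [443520, 7920],
    a ∣ m → m / a % 11 = 1 → a = 55 := by
  decide +kernel

lemma eq_twenty : ∀ a ∈ Nat.divisors 20, ∀ m ∈ [443520, 7920],
    a ∣ m → m / a % 5 = 1 → a = 20 := by
  decide +kernel

lemma no_2112 : ∀ a ∈ Nat.divisors 110, a ∣ 2112 → 2112 / a % 11 ≠ 1 := by
  decide +kernel

/-- The normaliser in `H` is the whole normaliser. -/
lemma normIn_le {P : Type*} [Group P] [Finite P] {G H : Subgroup P} {x : P} (hH : H ≤ G)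
    (h : Nat.card (normIn G x) = Nat.card (normIn H x)) : normIn G x ≤ H := by
  have e : normIn H x = normIn G x :=
    Subgroup.eq_of_le_of_card_ge (inf_le_inf_right _ hH) h.le
  rw [← e]
  exact inf_le_left

theorem card_ne_of_le {H : Subgroup (Equiv.Perm GolayPt)} (hH : H ≤ baseTwentyTwo) :
    Nat.card H ≠ 7920 ∧ Nat.card H ≠ 2112 := by
  obtain ⟨c5, cz, c11, cnorm, cconj, o5, n5, o11, n11, o7, n7⟩ := m22_index_cert
  have hin : ∀ {t : ℕ}, inStab [] maskTwo t = true → validT t = true ∧ mkPerm t ∈ baseTwentyTwo :=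
    fun {t} h => ⟨validT_of_inM24 (by simp only [inStab, Bool.and_eq_true] at h; exact h.1.1),
      mem_stabGrp_of_inStab h⟩
  have hs5 : inStab [] maskTwo fiveElt = true := by
    simp only [checkPartialCent, Bool.and_eq_true] at c5
    exact c5.1.1.1
  obtain ⟨hv11, hm11⟩ := hin c11
  obtain ⟨hv5, hm5⟩ := hin hs5
  obtain ⟨hvz, hmz⟩ := hin cz
  have ho11 := orderOf_mkPerm (p := 11) (by norm_num) hv11 o11 n11
  have ho5 := orderOf_mkPerm (p := 5) (by norm_num) hv5 o5 n5
  constructor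
  all_goals intro hcard
  all_goals have hp2 : ¬ 11 ^ 2 ∣ Nat.card baseTwentyTwo := by rw [card_baseTwentyTwo]; norm_num
  all_goals have hpd : 11 ∣ Nat.card H := by rw [hcard]; norm_num
  all_goals obtain ⟨H', hH', hc', hx, -⟩ :=
    exists_conj_mem (p := 11) (by norm_num) ho11 hm11 hp2 hH hpd
  all_goals rw [hcard] at hc'
  · obtain ⟨n, hn, hmod⟩ := sylow_normIn (p := 11) (by norm_num) ho11 hx (by rw [hc']; norm_num)
    obtain ⟨N, hN, hmodN⟩ := sylow_normIn (p := 11) (by norm_num) ho11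
      (hm11 : mkPerm m22Elt ∈ baseTwentyTwo) (by rw [card_baseTwentyTwo]; norm_num)
    rw [hc'] at hn
    rw [card_baseTwentyTwo] at hN
    have aG : Nat.card (normIn baseTwentyTwo (mkPerm m22Elt)) = 55 :=
      eq_fifty_five _ (Nat.mem_divisors.2 ⟨normIn_card_eleven le_rfl, by norm_num⟩) 443520
        (by simp) ⟨N, by rw [← hN, mul_comm]⟩
        (by rw [← hN, Nat.mul_div_cancel _ Nat.card_pos]; exact hmodN)
    have aH : Nat.card (normIn H' (mkPerm m22Elt)) = 55 :=
      eq_fifty_five _ (Nat.mem_divisors.2 ⟨normIn_card_eleven hH', by norm_num⟩) 7920 (by simp)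
        ⟨n, by rw [← hn, mul_comm]⟩
        (by rw [← hn, Nat.mul_div_cancel _ Nat.card_pos]; exact hmod)
    have h5 : mkPerm fiveElt ∈ H' := by
      refine normIn_le hH' (aG.trans aH.symm) ⟨hm5, mem_normalizer_of_conj ?_⟩
      obtain ⟨k, -, hk⟩ := List.any_eq_true.1 cnorm
      obtain ⟨hvk, hek⟩ := validT_of_pointwise (T := mkTbl 24 fun i => iterTbl m22Elt k i)
        (mkPerm m22Elt ^ k) fun i hi => by
          rw [app_mkTbl (f := fun i => iterTbl m22Elt k i) hi fun j hj => ?_, iterTbl_spec hv11 k hi]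
          rw [iterTbl_spec hv11 k hj]
          exact (idx_lt _).trans (by norm_num)
      refine ⟨k, ?_⟩
      have e := mkPerm_eq_of_tblEq (tblMul_spec hv5 hv11).1 (tblMul_spec hvk hv5).1 hk
      rwa [(tblMul_spec hv5 hv11).2, (tblMul_spec hvk hv5).2, hek] at e
    obtain ⟨n', hn', hmod'⟩ := sylow_normIn (p := 5) (by norm_num) ho5 h5 (by rw [hc']; norm_num)
    obtain ⟨N', hN', hmodN'⟩ := sylow_normIn (p := 5) (by norm_num) ho5
      (hm5 : mkPerm fiveElt ∈ baseTwentyTwo) (by rw [card_baseTwentyTwo]; norm_num)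
    rw [hc'] at hn'
    rw [card_baseTwentyTwo] at hN'
    have bG : Nat.card (normIn baseTwentyTwo (mkPerm fiveElt)) = 20 :=
      eq_twenty _ (Nat.mem_divisors.2 ⟨normIn_card_five le_rfl, by norm_num⟩) 443520 (by simp)
        ⟨N', by rw [← hN', mul_comm]⟩
        (by rw [← hN', Nat.mul_div_cancel _ Nat.card_pos]; exact hmodN')
    have bH : Nat.card (normIn H' (mkPerm fiveElt)) = 20 :=
      eq_twenty _ (Nat.mem_divisors.2 ⟨normIn_card_five hH', by norm_num⟩) 7920 (by simp)
        ⟨n', by rw [← hn', mul_comm]⟩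
        (by rw [← hn', Nat.mul_div_cancel _ Nat.card_pos]; exact hmod')
    have hzH : mkPerm fiveConj ∈ H' := by
      refine normIn_le hH' (bG.trans bH.symm) ⟨hmz, mem_normalizer_of_conj ⟨2, ?_⟩⟩
      obtain ⟨hv2, he2⟩ := tblMul_spec hv5 hv5
      have e := mkPerm_eq_of_tblEq (tblMul_spec hvz hv5).1 (tblMul_spec hv2 hvz).1 cconj
      rwa [(tblMul_spec hvz hv5).2, (tblMul_spec hv2 hvz).2, he2, ← pow_two] at e
    have hword : validT sevenWord = true ∧ mkPerm sevenWord ∈ H' := by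
      obtain ⟨hv, he⟩ := tblMul_spec hv11 hvz
      exact ⟨hv, by rw [sevenWord, he]; exact mul_mem hx hzH⟩
    have h7 : 7 ∣ Nat.card H' := by
      have := orderOf_dvd_natCard (⟨mkPerm sevenWord, hword.2⟩ : H')
      rwa [← Subgroup.orderOf_coe, orderOf_mkPerm (p := 7) (by norm_num) hword.1 o7 n7] at this
    rw [hc'] at h7
    norm_num at h7
  · obtain ⟨n, hn, hmod⟩ := sylow_normIn (p := 11) (by norm_num) ho11 hx (by rw [hc']; norm_num)
    rw [hc'] at hn
    exact no_2112 _ (Nat.mem_divisors.2 ⟨normIn_card_eleven hH', by norm_num⟩)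
      ⟨n, by rw [← hn, mul_comm]⟩ (by rw [← hn, Nat.mul_div_cancel _ Nat.card_pos]; exact hmod)

end Cfsg.Agent.H44
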