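import Cfsg.Agent.Golay.Transport

/-!
Orbit certificates inside stabilisers in the group of the code: a list of steps
`(child, parent, generator)` shows that every listed mask is an image of the root.
-/

set_option autoImplicit false

namespace Cfsg.Agent.H44

open Cfsg Cfsg.Agent.Golay
open scoped Pointwise

/-- Check steps `(child, parent, generator index)` against the masks reached so far. -/
def checkSteps (gens : List ℕ) : List ℕ → List (ℕ × ℕ × ℕ) → Bool
  | _, [] => true
  | known, (c, p, i) :: rest =>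
      decide (i < gens.length) && known.contains p && (tblImg (gens.getD i 0) p == c) &&
        checkSteps gens (c :: known) rest

theorem reach_of_checkSteps {E : List ℕ} {F : ℕ} {gens : List ℕ}
    (hg : ∀ t ∈ gens, inStab E F t = true) (r : ℕ) :
    ∀ (known : List ℕ) (L : List (ℕ × ℕ × ℕ)), checkSteps gens known L = true →
      (∀ m ∈ known, ∃ σ ∈ stabGrp E F, σ • ptSet r = ptSet m) →
      ∀ c ∈ known ++ L.map (fun s => s.1), ∃ σ ∈ stabGrp E F, σ • ptSet r = ptSet c
  | known, [], _, hk, c, hc => hk c (by simpa using hc)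
  | known, (a, p, i) :: rest, h, hk, c, hc => by
    simp only [checkSteps, Bool.and_eq_true, decide_eq_true_eq, List.contains_iff_mem] at h
    obtain ⟨⟨⟨hi, hp⟩, hC⟩, hrest⟩ := h
    refine reach_of_checkSteps hg r (a :: known) rest hrest ?_ c ?_
    · intro m hm
      rcases List.mem_cons.1 hm with rfl | hm
      · obtain ⟨σ, hσ, hσr⟩ := hk p hp
        have ht : gens.getD i 0 ∈ gens := by
          rw [List.getD_eq_getElem _ _ hi]; exact List.getElem_mem hi
        have hs := hg _ ht
        have hv : validT (gens.getD i 0) = true := by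
          simp only [inStab, Bool.and_eq_true] at hs
          exact validT_of_inM24 hs.1.1
        refine ⟨mkPerm (gens.getD i 0) * σ, mul_mem (mem_stabGrp_of_inStab hs) hσ, ?_⟩
        rw [mul_smul, hσr, ← ptSet_tblImg hv, eq_of_beq hC]
      · exact hk m hm
    · simp only [List.mem_append, List.map_cons, List.mem_cons] at hc ⊢
      rcases hc with hc | hc | hc
      · exact Or.inl (Or.inr hc)
      · exact Or.inl (Or.inl hc)
      · exact Or.inr hc

/-- Certificate for the orbits of `stabGrp E F` on a list of masks: one tree `(k, root, steps)`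
for each value `k` of an invariant `key`. -/
def checkClasses (E : List ℕ) (F : ℕ) (gens : List ℕ) (key : ℕ → ℕ) (targets : List ℕ)
    (cls : List (ℕ × ℕ × List (ℕ × ℕ × ℕ))) : Bool :=
  gens.all (inStab E F) && (targets.all fun m => (cls.map fun c => c.1).contains (key m)) &&
    cls.all fun c => checkSteps gens [c.2.1] c.2.2 &&
      (targets.filter fun m => key m == c.1).all fun m =>
        (c.2.1 :: c.2.2.map fun s => s.1).contains m

theorem exists_smul_of_classes {E : List ℕ} {F : ℕ} {gens : List ℕ} {key : ℕ → ℕ}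
    {targets : List ℕ} {cls : List (ℕ × ℕ × List (ℕ × ℕ × ℕ))}
    (h : checkClasses E F gens key targets cls = true) {m m' : ℕ}
    (hm : m ∈ targets) (hm' : m' ∈ targets) (hk : key m = key m') :
    ∃ σ ∈ stabGrp E F, σ • ptSet m = ptSet m' := by
  simp only [checkClasses, Bool.and_eq_true, List.all_eq_true, List.contains_iff_mem,
    List.mem_map, List.mem_filter, beq_iff_eq] at h
  obtain ⟨⟨hg, hkeys⟩, hcls⟩ := h
  obtain ⟨c, hc, hck⟩ := hkeys m hm
  obtain ⟨hsteps, hcov⟩ := hcls c hc
  have hr := reach_of_checkSteps hg c.2.1 [c.2.1] c.2.2 hsteps (by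
    intro x hx
    rw [List.mem_singleton] at hx
    exact ⟨1, one_mem _, by rw [hx, one_smul]⟩)
  obtain ⟨σ, hσ, hσm⟩ := hr m (by simpa using hcov m ⟨hm, hck.symm⟩)
  obtain ⟨τ, hτ, hτm⟩ := hr m' (by simpa using hcov m' ⟨hm', (hck.trans hk).symm⟩)
  exact ⟨τ * σ⁻¹, mul_mem hτ (inv_mem hσ), by rw [← hσm, mul_smul, inv_smul_smul, hτm]⟩

lemma exists_smul_of_classes' {E : List ℕ} {F : ℕ} {gens : List ℕ} {key : ℕ → ℕ}
    {targets : List ℕ} {cls : List (ℕ × ℕ × List (ℕ × ℕ × ℕ))}
    (h : checkClasses E F gens key targets cls = true) {s s' : Finset GolayPt}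
    (hs : maskOf s ∈ targets) (hs' : maskOf s' ∈ targets)
    (hk : key (maskOf s) = key (maskOf s')) :
    ∃ σ ∈ stabGrp E F, σ • s = s' := by
  obtain ⟨σ, hσ, h⟩ := exists_smul_of_classes h hs hs' hk
  exact ⟨σ, hσ, by simpa using h⟩

/-! ### Counting -/

lemma ncard_maskOf_mem {l : List ℕ} (hl : l.Nodup) (hlt : ∀ m ∈ l, m < 2 ^ 24) :
    {s : Finset GolayPt | maskOf s ∈ l}.ncard = l.length := by
  rw [← ncard_ptSet_image hl hlt]
  congr 1
  ext s
  constructor
  · exact fun h => ⟨maskOf s, h, ptSet_maskOf s⟩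
  · rintro ⟨m, hm, rfl⟩
    show maskOf (ptSet m) ∈ l
    rw [maskOf_ptSet (hlt m hm)]
    exact hm

lemma octadList_incr : isIncr octadList = true := by decide +kernel

lemma octadList_nodup : octadList.Nodup := isIncr_nodup octadList_incr

/-- Count octads with a property recognised on masks. -/
lemma ncard_octads_filter {P : Finset GolayPt → Prop} (p : ℕ → Bool)
    (h : ∀ s, P s ↔ p (maskOf s) = true) :
    {s | s ∈ octads ∧ P s}.ncard = (octadList.filter p).length := by
  rw [← ncard_maskOf_mem (octadList_nodup.filter p)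
    fun m hm => octadList_lt (List.mem_filter.1 hm).1]
  congr 1
  ext s
  simp [mem_octads_iff, h, List.mem_filter]

lemma wordList_nodup (k : ℕ) : (wordList k).Nodup := codeList_nodup.filter _

lemma wordList_lt {k m : ℕ} (hm : m ∈ wordList k) : m < 2 ^ 24 :=
  codeList_lt (mem_wordList.1 hm).1

/-- Count dodecads with a property recognised on masks. -/
lemma ncard_dodecads_filter {P : Finset GolayPt → Prop} (p : ℕ → Bool)
    (h : ∀ s, P s ↔ p (maskOf s) = true) :
    {s | s ∈ dodecads ∧ P s}.ncard = ((wordList 12).filter p).length := by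
  rw [← ncard_maskOf_mem ((wordList_nodup 12).filter p)
    fun m hm => wordList_lt (List.mem_filter.1 hm).1]
  congr 1
  ext s
  simp [dodecads, mem_wordsOfWeight_iff, h, List.mem_filter]

/-! ### Masks -/

lemma mem_iff_testBit {p : GolayPt} {s : Finset GolayPt} :
    p ∈ s ↔ (maskOf s).testBit (idx p) = true := by
  rw [← mem_ptSet, ptSet_maskOf]

lemma pt_mem_iff {i : ℕ} (hi : i < 24) {s : Finset GolayPt} :
    pt i ∈ s ↔ (maskOf s).testBit i = true := by
  rw [mem_iff_testBit, idx_pt i hi]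

lemma card_inter_ptSet (o : ℕ) (s : Finset GolayPt) :
    (ptSet o ∩ s).card = popCnt (maskOf s &&& o) := by
  rw [← card_ptSet, ptSet_and, ptSet_maskOf, Finset.inter_comm]

/-! ### Transport along a permutation -/

lemma ncard_eq_of_perm {β : Type*} [MulAction (Equiv.Perm GolayPt) β]
    (g : Equiv.Perm GolayPt) {S T : Set β} (h : ∀ s, g • s ∈ T ↔ s ∈ S) :
    S.ncard = T.ncard := by
  have : T = (fun s => g • s) '' S := by
    ext t
    constructor
    · intro ht
      exact ⟨g⁻¹ • t, (h _).1 (by rwa [smul_inv_smul]), smul_inv_smul g t⟩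
    · rintro ⟨s, hs, rfl⟩; exact (h s).2 hs
  rw [this, Set.ncard_image_of_injective _ (MulAction.injective g)]

lemma smul_mem_octads_iff {σ : Equiv.Perm GolayPt} (hσ : σ ∈ M24) {s : Finset GolayPt} :
    σ • s ∈ octads ↔ s ∈ octads :=
  ⟨fun h => by simpa using smul_mem_octads (inv_mem hσ) h, smul_mem_octads hσ⟩

lemma smul_mem_dodecads_iff {σ : Equiv.Perm GolayPt} (hσ : σ ∈ M24) {s : Finset GolayPt} :
    σ • s ∈ dodecads ↔ s ∈ dodecads :=
  ⟨fun h => by simpa using smul_mem_dodecads (inv_mem hσ) h, smul_mem_dodecads hσ⟩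

lemma apply_mem_smul_iff (σ : Equiv.Perm GolayPt) {p : GolayPt} {s : Finset GolayPt} :
    σ p ∈ σ • s ↔ p ∈ s :=
  Finset.smul_mem_smul_finset_iff σ

lemma card_inter_smul (σ : Equiv.Perm GolayPt) (s t : Finset GolayPt) :
    ((σ • s) ∩ (σ • t)).card = (s ∩ t).card := by
  rw [← Finset.smul_finset_inter, Finset.card_smul_finset]

lemma stabGrp_fix {E : List ℕ} {F : ℕ} {σ : Equiv.Perm GolayPt} (hσ : σ ∈ stabGrp E F)
    {i : ℕ} (hi : i < 24) (h : F.testBit i = true) : σ (pt i) = pt i :=
  hσ.2.2 _ (by rw [mem_ptSet, idx_pt i hi]; exact h)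

/-- Conjugate a base-point fixing element back. -/
lemma conj_apply_eq (g σ : Equiv.Perm GolayPt) {p q : GolayPt} (hg : g p = q) (hσ : σ q = q) :
    (g⁻¹ * σ * g) p = p := by
  rw [Equiv.Perm.mul_apply, Equiv.Perm.mul_apply, hg, hσ, ← hg, ← Equiv.Perm.mul_apply,
    inv_mul_cancel, Equiv.Perm.one_apply]

lemma conj_smul_eq {G β : Type*} [Group G] [MulAction G β] (g σ : G) {a b a' b' : β}
    (ha : g • a = a') (hb : g • b = b') (h : σ • a' = b') : (g⁻¹ * σ * g) • a = b := by
  rw [mul_smul, mul_smul, ha, h, inv_smul_eq_iff, hb]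

lemma conj_mem_M24 {g σ : Equiv.Perm GolayPt} (hg : g ∈ M24) (hσ : σ ∈ M24) :
    g⁻¹ * σ * g ∈ M24 :=
  mul_mem (mul_mem (inv_mem hg) hσ) hg

lemma exists_M24_point (x : GolayPt) {i : ℕ} :
    ∃ g ∈ M24, g x = pt i := by
  obtain ⟨g, hg⟩ := exists_M24_map_points (k := 1) (by norm_num)
    (a := ![x]) (b := ![pt i]) (Function.injective_of_subsingleton _)
    (Function.injective_of_subsingleton _)
  exact ⟨g, g.2, hg 0⟩

lemma exists_M24_two_points {p q : GolayPt} (hpq : p ≠ q) {i j : ℕ} (hi : i < 24) (hj : j < 24)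
    (hij : i ≠ j) : ∃ g ∈ M24, g p = pt i ∧ g q = pt j := by
  have h' : pt i ≠ pt j := fun h => hij ((pt_inj hi hj).1 h)
  obtain ⟨g, hg⟩ := exists_M24_map_points (k := 2) (by norm_num)
    (a := ![p, q]) (b := ![pt i, pt j])
    (by intro a b; fin_cases a <;> fin_cases b <;> simp [hpq, hpq.symm])
    (by intro a b; fin_cases a <;> fin_cases b <;> simp [h', h'.symm])
  exact ⟨g, g.2, hg 0, hg 1⟩

/-- Conjugation identifies a subgroup of the group of the code with a stabiliser of base data. -/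
noncomputable def conjEquivStab {g : Equiv.Perm GolayPt} (hg : g ∈ M24) (A : Subgroup M24)
    (B : Subgroup (Equiv.Perm GolayPt)) (hB : B ≤ M24)
    (h : ∀ x : M24, x ∈ A ↔ g * (x : Equiv.Perm GolayPt) * g⁻¹ ∈ B) : A ≃* B where
  toFun a := ⟨g * ((a : M24) : Equiv.Perm GolayPt) * g⁻¹, (h a).1 a.2⟩
  invFun b := ⟨⟨g⁻¹ * (b : Equiv.Perm GolayPt) * g, conj_mem_M24 hg (hB b.2)⟩, (h _).2 (by
    show g * (g⁻¹ * (b : Equiv.Perm GolayPt) * g) * g⁻¹ ∈ B
    rw [show g * (g⁻¹ * (b : Equiv.Perm GolayPt) * g) * g⁻¹ = b by group]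
    exact b.2)⟩
  left_inv a := Subtype.ext (Subtype.ext (by
    show g⁻¹ * (g * ((a : M24) : Equiv.Perm GolayPt) * g⁻¹) * g = _; group))
  right_inv b := Subtype.ext (by
    show g * (g⁻¹ * (b : Equiv.Perm GolayPt) * g) * g⁻¹ = _; group)
  map_mul' a b := Subtype.ext (by
    show g * (((a : M24) : Equiv.Perm GolayPt) * ((b : M24) : Equiv.Perm GolayPt)) * g⁻¹ = _
    simp only [Subgroup.coe_mul]; group)

lemma conj_smul_iff {G β : Type*} [Group G] [MulAction G β] (g x : G) {a a' : β} (ha : g • a = a') :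
    (g * x * g⁻¹) • a' = a' ↔ x • a = a := by
  rw [← ha, mul_smul, mul_smul, inv_smul_smul, smul_left_cancel_iff]

end Cfsg.Agent.H44
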