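import Cfsg.Agent.H44.TTBlocks

/-!
Fischer's lemma: in a class of 3-transpositions of a group without solvable normal subgroups,
the members commuting with a given one (other than itself) are connected by non-commuting pairs.
-/

set_option autoImplicit false

namespace Cfsg.Agent.H44

variable {G : Type*} [Group G] {D : Set G}

/-- Members with the same commuting set form a block system. -/
def twinBlocks (hD : IsThreeTranspositionClass D) : TTBlocks D where
  r u v := u ∈ D ∧ v ∈ D ∧ ∀ w ∈ D, Commute u w ↔ Commute v w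
  refl hu := ⟨hu, hu, fun _ _ => Iff.rfl⟩
  symm h := ⟨h.2.1, h.1, fun w hw => (h.2.2 w hw).symm⟩
  trans h h' := ⟨h.1, h'.2.1, fun w hw => (h.2.2 w hw).trans (h'.2.2 w hw)⟩
  conj g {u v} h := by
    refine ⟨tt_invariant hD g h.1, tt_invariant hD g h.2.1, fun w hw => ?_⟩
    have hw' := h.2.2 (g⁻¹ * w * g⁻¹⁻¹) (tt_invariant hD g⁻¹ hw)
    rw [← commute_conj_iff g u, ← commute_conj_iff g v,
      show g * (g⁻¹ * w * g⁻¹⁻¹) * g⁻¹ = w by group] at hw'
    exact hw'
  mem h := ⟨h.1, h.2.1⟩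
  const {u v w} h hw _ := by
    constructor
    · exact fun e => ((h.2.2 w hw).1 e.symm).symm
    · exact fun e => ((h.2.2 w hw).2 e.symm).symm

/-- Without solvable normal subgroups, a member is determined by its commuting set. -/
theorem tt_eq_of_commute_subset [Finite G] (hD : IsThreeTranspositionClass D)
    (hsol : ∀ N : Subgroup G, N.Normal → Group.IsSolvable ↥N → N = ⊥) {u v : G} (hu : u ∈ D)
    (hv : v ∈ D) (h : ∀ w ∈ D, Commute u w → Commute v w) : u = v := by
  have hsolv : ∀ a ∈ D, Group.IsSolvable ((twinBlocks hD).blockSub a) := fun a _ =>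
    (twinBlocks hD).isSolvable_blockSub_of_commute a fun b c hb hc =>
      ((hb.2.2 c hc.2.1).1 ((hc.2.2 c hc.2.1).2 (Commute.refl c)))
  refine (twinBlocks hD).eq_of_rel hD hsol hsolv ⟨hu, hv, fun w hw => ⟨h w hw, ?_⟩⟩
  obtain ⟨g, hg⟩ := tt_class_conj hD hu hv
  set A : Set G := {q | q ∈ D ∧ Commute u q}
  set B : Set G := {q | q ∈ D ∧ Commute v q}
  have hsub : A ⊆ B := fun q hq => ⟨hq.1, h q hq.1 hq.2⟩
  have himg : B ⊆ (fun q => g * q * g⁻¹) '' A := by
    intro q hq
    refine ⟨g⁻¹ * q * g⁻¹⁻¹, ⟨tt_invariant hD g⁻¹ hq.1, ?_⟩, by group⟩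
    rw [← commute_conj_iff g, hg, show g * (g⁻¹ * q * g⁻¹⁻¹) * g⁻¹ = q by group]
    exact hq.2
  have hle : B.ncard ≤ A.ncard :=
    (Set.ncard_le_ncard himg (Set.toFinite _)).trans (Set.ncard_image_le (Set.toFinite _))
  have heq := Set.eq_of_subset_of_ncard_le hsub hle (Set.toFinite _)
  intro hvw
  exact ((heq ▸ (show w ∈ B from ⟨hw, hvw⟩) : w ∈ A)).2

/-- The non-commuting graph on the members commuting with `u`. -/
def dxAdj (D : Set G) (u p q : G) : Prop :=
  (p ∈ D ∧ p ≠ u ∧ Commute u p) ∧ (q ∈ D ∧ q ≠ u ∧ Commute u q) ∧ ¬ Commute p q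

/-- The component of `y` in that graph. -/
def dxComp (D : Set G) (u y : G) : Set G := {w | Relation.ReflTransGen (dxAdj D u) y w}

/-- `y` is a member other than `u` commuting with it. -/
def InDx (D : Set G) (u y : G) : Prop := y ∈ D ∧ y ≠ u ∧ Commute u y

theorem dxComp_mem {u y w : G} (hy : InDx D u y) (hw : w ∈ dxComp D u y) : InDx D u w := by
  induction hw with
  | refl => exact hy
  | tail _ h _ => exact h.2.1

theorem dxComp_closed {u y w q : G} (hy : InDx D u y) (hw : w ∈ dxComp D u y) (hq : InDx D u q)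
    (h : ¬ Commute w q) : q ∈ dxComp D u y :=
  Relation.ReflTransGen.tail hw ⟨dxComp_mem hy hw, hq, h⟩

theorem dxComp_symm {u y w : G} (hw : w ∈ dxComp D u y) : y ∈ dxComp D u w := by
  induction hw with
  | refl => exact Relation.ReflTransGen.refl
  | tail _ h ih => exact Relation.ReflTransGen.head ⟨h.2.1, h.1, fun e => h.2.2 e.symm⟩ ih

theorem dxComp_eq {u y w : G} (hw : w ∈ dxComp D u y) : dxComp D u w = dxComp D u y :=
  Set.ext fun _ => ⟨fun h => Relation.ReflTransGen.trans hw h,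
    fun h => Relation.ReflTransGen.trans (dxComp_symm hw) h⟩

theorem InDx.conj (hD : IsThreeTranspositionClass D) (g : G) {u y : G} (h : InDx D u y) :
    InDx D (g * u * g⁻¹) (g * y * g⁻¹) :=
  ⟨tt_invariant hD g h.1, fun e => h.2.1 (mul_left_cancel (mul_right_cancel e)),
    (commute_conj_iff g u y).2 h.2.2⟩

theorem dxComp_conj (hD : IsThreeTranspositionClass D) (g : G) {u y w : G}
    (h : w ∈ dxComp D u y) : g * w * g⁻¹ ∈ dxComp D (g * u * g⁻¹) (g * y * g⁻¹) :=
  Relation.ReflTransGen.lift (fun q => g * q * g⁻¹)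
    (fun _ _ hab => ⟨InDx.conj hD g hab.1, InDx.conj hD g hab.2.1,
      fun e => hab.2.2 ((commute_conj_iff g _ _).1 e)⟩) _ _ h

/-- A component of largest possible size. -/
def IsMaxComp (D : Set G) (u y : G) : Prop :=
  u ∈ D ∧ InDx D u y ∧
    ∀ p z, p ∈ D → InDx D p z → (dxComp D p z).ncard ≤ (dxComp D u y).ncard

theorem IsMaxComp.conj [Finite G] (hD : IsThreeTranspositionClass D) (g : G) {u y : G}
    (h : IsMaxComp D u y) : IsMaxComp D (g * u * g⁻¹) (g * y * g⁻¹) := by
  refine ⟨tt_invariant hD g h.1, h.2.1.conj hD g, fun p z hp hz => (h.2.2 p z hp hz).trans ?_⟩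
  refine Set.ncard_le_ncard_of_injOn (fun q => g * q * g⁻¹) (fun w hw => dxComp_conj hD g hw)
    (fun a _ b _ e => mul_left_cancel (mul_right_cancel e)) (Set.toFinite _)

/-- The members commuting with a whole component. -/
def compCent (D : Set G) (u y : G) : Set G := {e | e ∈ D ∧ ∀ w ∈ dxComp D u y, Commute e w}

theorem self_mem_compCent {u y : G} (h : IsMaxComp D u y) : u ∈ compCent D u y :=
  ⟨h.1, fun _ hw => (dxComp_mem h.2.1 hw).2.2⟩

section
variable [Finite G] (hD : IsThreeTranspositionClass D)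
  (hsol : ∀ N : Subgroup G, N.Normal → Group.IsSolvable ↥N → N = ⊥)
include hD hsol

theorem maxComp_disjoint {u y w : G} (h : IsMaxComp D u y) (hw : w ∈ dxComp D u y) :
    w ∉ compCent D u y := by
  intro hc
  have hone : dxComp D u w = {w} := by
    refine Set.eq_singleton_iff_unique_mem.2 ⟨Relation.ReflTransGen.refl, fun q hq => ?_⟩
    induction hq with
    | refl => rfl
    | @tail a b hab hstep ih =>
      subst ih
      exact absurd (hc.2 b (Relation.ReflTransGen.trans hw (Relation.ReflTransGen.single hstep)))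
        hstep.2.2
  have hk : (dxComp D u y).ncard = 1 := by rw [← dxComp_eq hw, hone, Set.ncard_singleton]
  have hwd := dxComp_mem h.2.1 hw
  refine hwd.2.1 (tt_eq_of_commute_subset hD hsol h.1 hwd.1 fun q hq huq => ?_).symm
  by_contra hwq
  have hqu : q ≠ u := by rintro rfl; exact hwq hwd.2.2.symm
  have hqmem : q ∈ dxComp D u w :=
    dxComp_closed hwd Relation.ReflTransGen.refl ⟨hq, hqu, huq⟩ hwq
  rw [hone] at hqmem
  exact hwq (hqmem ▸ Commute.refl w)

theorem compCent_spec {u y e : G} (h : IsMaxComp D u y) (he : e ∈ compCent D u y) :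
    IsMaxComp D e y ∧ dxComp D e y = dxComp D u y ∧
      ∀ q ∈ D, Commute e q → q ∈ dxComp D u y ∨ q ∈ compCent D u y := by
  have hne : ∀ w ∈ dxComp D u y, InDx D e w := fun w hw =>
    ⟨(dxComp_mem h.2.1 hw).1, fun q => maxComp_disjoint hD hsol h hw (q ▸ he), he.2 w hw⟩
  have hy : InDx D e y := hne y Relation.ReflTransGen.refl
  have hsub : dxComp D u y ⊆ dxComp D e y := by
    intro w hw
    induction hw with
    | refl => exact Relation.ReflTransGen.refl
    | @tail a b hab hstep ih =>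
      exact dxComp_closed hy ih (hne b (Relation.ReflTransGen.tail hab hstep)) hstep.2.2
  have heq := (Set.eq_of_subset_of_ncard_le hsub (h.2.2 e y he.1 hy) (Set.toFinite _)).symm
  refine ⟨⟨he.1, hy, fun p z hp hz => heq ▸ h.2.2 p z hp hz⟩, heq, fun q hq heq' => ?_⟩
  by_cases hqe : q = e
  · exact Or.inr (hqe ▸ he)
  by_cases hqK : q ∈ dxComp D u y
  · exact Or.inl hqK
  refine Or.inr ⟨hq, fun w hw => ?_⟩
  by_contra hc
  exact hqK (heq ▸ dxComp_closed hy (hsub hw) ⟨hq, hqe, heq'⟩ fun e' => hc e'.symm)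

end

/-- Two non-commuting members centralizing a common largest component. -/
def DxLink (D : Set G) (e f : G) : Prop :=
  ¬ Commute e f ∧ ∃ p z, IsMaxComp D p z ∧ e ∈ compCent D p z ∧ f ∈ compCent D p z

theorem DxLink.symm {e f : G} (h : DxLink D e f) : DxLink D f e := by
  obtain ⟨hc, p, z, hm, he, hf⟩ := h
  exact ⟨fun q => hc q.symm, p, z, hm, hf, he⟩

theorem DxLink.conj [Finite G] (hD : IsThreeTranspositionClass D) (g : G) {e f : G}
    (h : DxLink D e f) : DxLink D (g * e * g⁻¹) (g * f * g⁻¹) := by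
  obtain ⟨hc, p, z, hm, he, hf⟩ := h
  have key : ∀ q ∈ compCent D p z, g * q * g⁻¹ ∈ compCent D (g * p * g⁻¹) (g * z * g⁻¹) := by
    intro q hq
    refine ⟨tt_invariant hD g hq.1, fun w hw => ?_⟩
    have h1 := dxComp_conj hD g⁻¹ hw
    rw [show g⁻¹ * (g * p * g⁻¹) * g⁻¹⁻¹ = p by group,
      show g⁻¹ * (g * z * g⁻¹) * g⁻¹⁻¹ = z by group] at h1
    have h2 := (commute_conj_iff g _ _).2 (hq.2 _ h1)
    rwa [show g * (g⁻¹ * w * g⁻¹⁻¹) * g⁻¹ = w by group] at h2
  exact ⟨fun q => hc ((commute_conj_iff g e f).1 q), _, _, hm.conj hD g, key e he, key f hf⟩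

section
variable [Finite G] (hD : IsThreeTranspositionClass D)
  (hsol : ∀ N : Subgroup G, N.Normal → Group.IsSolvable ↥N → N = ⊥)
include hD hsol

theorem compCent_link {u y e f : G} (h : IsMaxComp D u y) (he : e ∈ compCent D u y)
    (hl : DxLink D e f) : f ∈ compCent D u y := by
  obtain ⟨hc, p, z, hm, he', hf⟩ := hl
  obtain ⟨hm1, hK1, -⟩ := compCent_spec hD hsol hm he'
  obtain ⟨-, hK, hor⟩ := compCent_spec hD hsol h he
  have hzD := hm1.2.1
  by_cases hz : z ∈ dxComp D u y
  · have : dxComp D p z = dxComp D u y := by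
      rw [← hK1, ← hK]; rw [← hK] at hz; exact dxComp_eq hz
    exact ⟨hf.1, this ▸ hf.2⟩
  rcases hor z hzD.1 hzD.2.2 with h1 | h1
  · exact absurd h1 hz
  obtain ⟨-, -, hor'⟩ := compCent_spec hD hsol h h1
  rcases hor' f hf.1 (hf.2 z Relation.ReflTransGen.refl).symm with h2 | h2
  · exact absurd (he.2 f h2) hc
  · exact h2

/-- The block system given by linked members. -/
def linkBlocks : TTBlocks D where
  r e f := e ∈ D ∧ f ∈ D ∧ Relation.ReflTransGen (DxLink D) e f
  refl he := ⟨he, he, Relation.ReflTransGen.refl⟩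
  symm {e f} h := by
    refine ⟨h.2.1, h.1, ?_⟩
    have h' := h.2.2
    induction h' with
    | refl => exact Relation.ReflTransGen.refl
    | @tail a b hab hstep ih =>
      obtain ⟨-, p, z, hm, ha, -⟩ := id hstep
      exact Relation.ReflTransGen.head hstep.symm (ih ⟨h.1, ha.1, hab⟩)
  trans h h' := ⟨h.1, h'.2.1, h.2.2.trans h'.2.2⟩
  conj g {e f} h :=
    ⟨tt_invariant hD g h.1, tt_invariant hD g h.2.1,
      Relation.ReflTransGen.lift (fun q => g * q * g⁻¹) (fun _ _ => DxLink.conj hD g) _ _ h.2.2⟩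
  mem h := ⟨h.1, h.2.1⟩
  const {u v w} h hw hn := by
    have key : ∀ b c, Relation.ReflTransGen (DxLink D) u b → DxLink D b c →
        Commute w b → Commute w c := by
      intro b c hub hbc hwb
      obtain ⟨-, p, z, hm, hb, hc⟩ := id hbc
      rcases (compCent_spec hD hsol hm hb).2.2 w hw hwb.symm with h1 | h1
      · exact (hc.2 w h1).symm
      · by_contra hwc
        exact hn ⟨h.1, hw, (hub.tail hbc).tail ⟨fun e => hwc e.symm, p, z, hm, hc, h1⟩⟩
    have h' := h.2.2
    clear h
    rename_i hu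
    induction h' with
    | refl => exact Iff.rfl
    | @tail b c hub hbc ih =>
      exact ih.trans ⟨key b c hub hbc, key c b (hub.tail hbc) hbc.symm⟩

/-- Fischer's lemma. -/
theorem dx_connected {x y y' : G} (hx : x ∈ D) (hy : InDx D x y) (hy' : InDx D x y') :
    Relation.ReflTransGen (dxAdj D x) y y' := by
  classical
  by_contra hnc
  obtain ⟨⟨p, z⟩, hpz, hmax⟩ := Set.exists_max_image {q : G × G | q.1 ∈ D ∧ InDx D q.1 q.2}
    (fun q => (dxComp D q.1 q.2).ncard) (Set.toFinite _) ⟨(x, y), hx, hy⟩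
  have hM : IsMaxComp D p z := ⟨hpz.1, hpz.2, fun a b ha hb => hmax (a, b) ⟨ha, hb⟩⟩
  obtain ⟨g, hg⟩ := tt_class_conj hD hpz.1 hx
  have hMx := hM.conj hD g
  rw [hg] at hMx
  set k := g * z * g⁻¹
  have hxc := self_mem_compCent hMx
  obtain ⟨-, -, hor⟩ := compCent_spec hD hsol hMx hxc
  obtain ⟨w, hw, hwK⟩ : ∃ w, InDx D x w ∧ w ∉ dxComp D x k := by
    by_contra hall
    push Not at hall
    exact hnc ((dxComp_symm (hall y hy)).trans (hall y' hy'))
  have hwc : w ∈ compCent D x k := (hor w hw.1 hw.2.2).resolve_left hwK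
  obtain ⟨b, hb, hxb⟩ : ∃ b ∈ compCent D x k, ¬ Commute x b := by
    by_contra hall
    push Not at hall
    refine hw.2.1 (tt_eq_of_commute_subset hD hsol hw.1 hx fun q hq hwq => ?_)
    rcases (compCent_spec hD hsol hMx hwc).2.2 q hq hwq with h1 | h1
    · exact (dxComp_mem hMx.2.1 h1).2.2
    · exact hall q h1
  let S := linkBlocks hD hsol
  have hk := hMx.2.1
  have hne : ¬ S.r x k := by
    intro hr
    obtain ⟨-, -, hl⟩ := (show x ∈ D ∧ k ∈ D ∧ Relation.ReflTransGen (DxLink D) x k from hr)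
    refine maxComp_disjoint hD hsol hMx Relation.ReflTransGen.refl ?_
    have key : ∀ e, Relation.ReflTransGen (DxLink D) x e → e ∈ compCent D x k := by
      intro e he
      induction he with
      | refl => exact hxc
      | tail _ hstep ih => exact compCent_link hD hsol hMx ih hstep
    exact key k hl
  have hxb' : S.r x b :=
    show x ∈ D ∧ b ∈ D ∧ Relation.ReflTransGen (DxLink D) x b from ⟨hx, hb.1, Relation.ReflTransGen.single ⟨hxb, x, k, hMx, hxc, hb⟩⟩
  exact hxb (S.eq_of_rel hD hsol (S.isSolvable_blockSub hD hx hk.1 hne hk.2.2.symm) hxb' ▸ Commute.refl x)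

/-- The members commuting with `x` are conjugate under the subgroup they generate. -/
theorem dx_conjugate {x y y' : G} (hx : x ∈ D) (hy : InDx D x y) (hy' : InDx D x y') :
    ∃ g ∈ Subgroup.closure {q : G | q ∈ D ∧ q ≠ x ∧ Commute x q}, g * y * g⁻¹ = y' := by
  have h := dx_connected hD hsol hx hy hy'
  induction h with
  | refl => exact ⟨1, one_mem _, by group⟩
  | @tail a b hab hstep ih =>
    obtain ⟨g, hg, hga⟩ := ih (dxComp_mem hy hab)
    refine ⟨a * b * g, mul_mem (mul_mem (Subgroup.subset_closure hstep.1)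
      (Subgroup.subset_closure hstep.2.1)) hg, ?_⟩
    rw [show a * b * g * y * (a * b * g)⁻¹ = a * b * (g * y * g⁻¹) * b⁻¹ * a⁻¹ by group, hga,
      tt_inv hD.1 hstep.1.1, tt_inv hD.1 hstep.2.1.1]
    calc a * b * a * b * a = (a * b * a) * b * a := by group
      _ = b * a * b * b * a := by rw [tt_braid hD.1 hstep.1.1 hstep.2.1.1 hstep.2.2]
      _ = b * (a * (b * b) * a) := by group
      _ = b := by rw [tt_mul_self hD.1 hstep.2.1.1, mul_one, tt_mul_self hD.1 hstep.1.1, mul_one]

end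

end Cfsg.Agent.H44
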