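import Cfsg.Agent.Orthogonal.Det
import Cfsg.Agent.Orthogonal.StdForms
import Cfsg.Prelude.Def_SporadicB

/-! Orthogonal transvections over the field with two elements. -/

set_option autoImplicit false

namespace Cfsg.Agent.H44

open QuadraticMap Module Matrix Orthogonal

variable {ι : Type} [Fintype ι] [DecidableEq ι] {Q : QuadraticForm (ZMod 2) (ι → ZMod 2)}

theorem f2_cases (c : ZMod 2) : c = 0 ∨ c = 1 := by revert c; decide

theorem f2_ne {c : ZMod 2} (h : c ≠ 0) : c = 1 := (f2_cases c).resolve_left h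

/-- In the isometry group over the field with two elements, the elements with `g - 1` of rank one
are the reflections in non-singular vectors. -/
theorem rank_sub_one_iff (hQ : Nondeg Q) (g : Cfsg.isometryGroup (ZMod 2) (⇑Q)) :
    (((g : GL ι (ZMod 2)) : Matrix ι ι (ZMod 2)) - 1).rank = 1 ↔
      ∃ v, Q v = 1 ∧ toO Q g = rO Q v := by
  constructor
  · intro hr
    obtain ⟨w, hw0, hspan⟩ := finrank_eq_one_iff'.1 (show finrank (ZMod 2)
      (LinearMap.range (((g : GL ι (ZMod 2)) : Matrix ι ι (ZMod 2)) - 1).mulVecLin) = 1 from hr)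
    set v : ι → ZMod 2 := (w : ι → ZMod 2) with hv
    have hv0 : v ≠ 0 := fun h => hw0 (Subtype.ext h)
    have himg : ∀ x, ∃ c : ZMod 2, (toO Q g : (ι → ZMod 2) ≃ₗ[ZMod 2] (ι → ZMod 2)) x = x + c • v := by
      intro x
      obtain ⟨c, hc⟩ := hspan ⟨_, LinearMap.mem_range_self _ x⟩
      refine ⟨c, ?_⟩
      have hc' : c • v = (((g : GL ι (ZMod 2)) : Matrix ι ι (ZMod 2)) - 1).mulVec x :=
        congrArg Subtype.val hc
      rw [hc', Matrix.sub_mulVec, Matrix.one_mulVec, toO_apply, add_sub_cancel]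
    obtain ⟨x0, hx0⟩ : ∃ x0, (toO Q g : (ι → ZMod 2) ≃ₗ[ZMod 2] (ι → ZMod 2)) x0 = x0 + v := by
      obtain ⟨x, hx⟩ := w.2
      refine ⟨x, ?_⟩
      rw [hv, ← hx, toO_apply, Matrix.mulVecLin_apply, Matrix.sub_mulVec, Matrix.one_mulVec,
        add_sub_cancel]
    have hpol : ∀ x, (toO Q g : (ι → ZMod 2) ≃ₗ[ZMod 2] (ι → ZMod 2)) x = x + v →
        Q v + polar Q x v = 0 := by
      intro x hx
      have h := O.map_app (toO Q g) x
      rw [hx, Orthogonal.map_add_polar] at h
      linear_combination h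
    have hfix : ∀ y, (toO Q g : (ι → ZMod 2) ≃ₗ[ZMod 2] (ι → ZMod 2)) y = y → polar Q y v = 0 := by
      intro y hy
      have h1 := hpol x0 hx0
      have h2 := hpol (x0 + y) (by rw [map_add, hx0, hy]; abel)
      rw [polar_add_left] at h2
      linear_combination h2 - h1
    have hQv : Q v = 1 := by
      refine f2_ne fun h0 => hv0 (hQ v fun z => ?_)
      rw [polar_comm]
      obtain ⟨c, hc⟩ := himg z
      rcases f2_cases c with rfl | rfl
      · exact hfix z (by rw [hc, zero_smul, add_zero])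
      · have := hpol z (by rw [hc, one_smul])
        rwa [h0, zero_add] at this
    refine ⟨v, hQv, O.ext_app fun z => ?_⟩
    obtain ⟨c, hc⟩ := himg z
    rw [rO_app, hQv, inv_one, one_mul, polar_comm, hc]
    rcases f2_cases c with rfl | rfl
    · rw [hfix z (by rw [hc, zero_smul, add_zero]), zero_smul, add_zero, sub_zero]
    · have h1 := hpol z (by rw [hc, one_smul])
      rw [hQv] at h1
      have : polar Q z v = 1 := by
        rcases f2_cases (polar Q z v) with e | e
        · rw [e] at h1; exact absurd h1 (by decide)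
        · exact e
      rw [this, one_smul, sub_eq_add_neg]
      congr 1
      funext i
      exact (ZMod.neg_eq_self_mod_two _).symm
  · rintro ⟨v, hv, hg⟩
    have hne : toO Q g ≠ 1 := by
      rw [hg]
      intro h
      obtain ⟨x, hx⟩ := hQ.exists_polar_ne (x := v) (fun e => by rw [e, QuadraticMap.map_zero] at hv; exact zero_ne_one hv)
      have h1 := congrArg (fun f : O Q => (f : (ι → ZMod 2) ≃ₗ[ZMod 2] (ι → ZMod 2)) x) h
      simp only [rO_app, hv, inv_one, one_mul, f2_ne hx, one_smul, OneMemClass.coe_one] at h1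
      have : v = 0 := by
        have h2 : x - v = x := h1
        simpa using h2
      rw [this, QuadraticMap.map_zero] at hv
      exact zero_ne_one hv
    rw [(toO_eq_rO_iff Q g v).1 hg, Cfsg.reflectionMatrix]
    rw [sub_sub_cancel_left, hv, inv_one, one_smul, show -(Matrix.vecMulVec v (Cfsg.polarVec (⇑Q) v)) = Matrix.vecMulVec v (Cfsg.polarVec (⇑Q) v) from Matrix.ext fun i j => ZMod.neg_eq_self_mod_two _]
    refine le_antisymm (Matrix.rank_vecMulVec_le _ _) (Nat.one_le_iff_ne_zero.2 fun h0 => hne ?_)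
    refine O.ext_app fun x => ?_
    rw [hg, rO_app, hv, inv_one, one_mul]
    rw [Matrix.rank, Submodule.finrank_eq_zero, LinearMap.range_eq_bot] at h0
    have hx := LinearMap.congr_fun h0 x
    rw [Matrix.mulVecLin_apply, Matrix.vecMulVec_mulVec, polarVec_dot, LinearMap.zero_apply] at hx
    have : polar Q v x • v = 0 := by
      funext i
      have := congrFun hx i
      simpa [mul_comm] using this
    rw [this, sub_zero]
    rfl

/-- The orthogonal transvections form a generating class of 3-transpositions. -/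
theorem isThreeTranspositionClass_transvections (hQ : Nondeg Q) (hn : Fintype.card ι ≠ 4)
    (hv : ∃ v, Q v = 1) :
    Cfsg.IsThreeTranspositionClass {g : Cfsg.isometryGroup (ZMod 2) (⇑Q) |
      (((g : GL ι (ZMod 2)) : Matrix ι ι (ZMod 2)) - 1).rank = 1} := by
  set D := {g : Cfsg.isometryGroup (ZMod 2) (⇑Q) |
      (((g : GL ι (ZMod 2)) : Matrix ι ι (ZMod 2)) - 1).rank = 1} with hD
  have hmem : ∀ g, g ∈ D ↔ ∃ v, Q v = 1 ∧ toO Q g = rO Q v := rank_sub_one_iff hQ
  have hne : ∀ v, Q v = 1 → rO Q v ≠ 1 := by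
    intro v hv h
    obtain ⟨x, hx⟩ := hQ.exists_polar_ne (x := v) (fun e => by rw [e, QuadraticMap.map_zero] at hv; exact zero_ne_one hv)
    have h1 := congrArg (fun f : O Q => (f : (ι → ZMod 2) ≃ₗ[ZMod 2] (ι → ZMod 2)) x) h
    simp only [rO_app, hv, inv_one, one_mul, f2_ne hx, one_smul, OneMemClass.coe_one] at h1
    have h2 : x - v = x := h1
    have h3 : v = 0 := by simpa using h2
    rw [h3, QuadraticMap.map_zero] at hv
    exact zero_ne_one hv
  refine ⟨⟨fun d hd => ?_, fun d hd e he => ?_⟩, ?_, ?_⟩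
  · obtain ⟨v, hv, hdv⟩ := (hmem d).1 hd
    rw [← MulEquiv.orderOf_eq (toO Q) d, hdv]
    exact orderOf_eq_prime (by rw [pow_two]; exact rO_mul_self Q v) (hne v hv)
  · obtain ⟨v, hv, hdv⟩ := (hmem d).1 hd
    obtain ⟨w, hw, hew⟩ := (hmem e).1 he
    have hlift : ∀ k : ℕ, (rO Q v * rO Q w) ^ k = 1 → (d * e) ^ k = 1 := by
      intro k h
      apply (toO Q).injective
      rw [map_pow, map_mul, hdv, hew, h, map_one]
    have hc := conj_rO (rO Q v) w
    rw [rO_inv] at hc
    rcases f2_cases (polar Q v w) with hp | hp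
    · left; refine hlift 2 ?_
      rw [rO_fix hp] at hc
      calc (rO Q v * rO Q w) ^ 2 = (rO Q v * rO Q w * rO Q v) * rO Q w := by rw [pow_two]; group
        _ = 1 := by rw [hc, rO_mul_self]
    · right; refine hlift 3 ?_
      have hneg : ∀ u : ι → ZMod 2, -u = u := fun u => funext fun i => ZMod.neg_eq_self_mod_two _
      have h1 : (rO Q v : (ι → ZMod 2) ≃ₗ[ZMod 2] (ι → ZMod 2)) w = w + v := by
        rw [rO_app, hv, hp, inv_one, one_mul, one_smul, sub_eq_add_neg, hneg]
      have h2 : (rO Q w : (ι → ZMod 2) ≃ₗ[ZMod 2] (ι → ZMod 2)) v = w + v := by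
        rw [rO_app, hw, polar_comm, hp, inv_one, one_mul, one_smul, sub_eq_add_neg, hneg, add_comm]
      have hc' := conj_rO (rO Q w) v
      rw [rO_inv, h2] at hc'
      rw [h1, ← hc'] at hc
      calc (rO Q v * rO Q w) ^ 3
          = (rO Q v * rO Q w * rO Q v) * rO Q w * rO Q v * rO Q w := by
            simp only [pow_succ, pow_zero, one_mul, mul_assoc]
        _ = rO Q w * rO Q v * (rO Q w * rO Q w) * rO Q v * rO Q w := by rw [hc]; group
        _ = rO Q w * (rO Q v * rO Q v) * rO Q w := by rw [rO_mul_self Q w, mul_one]; group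
        _ = 1 := by rw [rO_mul_self Q v, mul_one, rO_mul_self]
  · obtain ⟨v₀, hv₀⟩ := hv
    refine ⟨reflIso Q v₀, (hmem _).2 ⟨v₀, hv₀, MulEquiv.apply_symm_apply _ _⟩, ?_⟩
    ext g
    rw [hmem]
    simp only [conjugatesOf, Set.mem_setOf_eq, isConj_iff]
    constructor
    · rintro ⟨v, hv, hgv⟩
      obtain ⟨h, hh⟩ := exists_map_vec hQ (v := v₀) (w := v)
        (fun e => by rw [e, QuadraticMap.map_zero] at hv₀; exact zero_ne_one hv₀)
        (fun e => by rw [e, QuadraticMap.map_zero] at hv; exact zero_ne_one hv) (hv.trans hv₀.symm)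
      refine ⟨(toO Q).symm h, (toO Q).injective ?_⟩
      rw [map_mul, map_mul, map_inv, MulEquiv.apply_symm_apply, reflIso, MulEquiv.apply_symm_apply,
        conj_rO, hh, hgv]
    · rintro ⟨c, rfl⟩
      refine ⟨(toO Q c : (ι → ZMod 2) ≃ₗ[ZMod 2] (ι → ZMod 2)) v₀, by rw [O.map_app]; exact hv₀, ?_⟩
      rw [map_mul, map_mul, map_inv, reflIso, MulEquiv.apply_symm_apply, conj_rO]
  · rw [← closure_reflections_eq_top hQ (Or.inr hn)]
    congr 1
    ext g
    rw [hmem]
    constructor
    · rintro ⟨v, hv, hgv⟩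
      exact ⟨v, by rw [hv]; exact one_ne_zero, (toO_eq_rO_iff Q g v).1 hgv⟩
    · rintro ⟨v, hv, hgv⟩
      exact ⟨v, f2_ne hv, (toO_eq_rO_iff Q g v).2 hgv⟩

end Cfsg.Agent.H44
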