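import Cfsg.Agent.H44.OrbitTree

/-!
Lower bounds for orders of stabilisers from transversal tables.
-/

set_option autoImplicit false

namespace Cfsg.Agent.H44

open Cfsg Cfsg.Agent.Golay
open scoped Pointwise

/-- Lower bound certificate: levels whose tables fix the previous bases and separate images. -/
def checkLower : ℕ → List (ℕ × List ℕ) → Bool
  | _, [] => true
  | F, (b, ts) :: rest =>
      (b < 24) && (ts.all fun t => validT t && fixesMask t F) &&
        (popCnt (orbitMask ts b) == ts.length) && checkLower (F ||| 2 ^ b) rest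

lemma checkLower_fixes : ∀ (F : ℕ) (L : List (ℕ × List ℕ)), checkLower F L = true →
    ∀ l ∈ L, ∀ t ∈ l.2, ∀ i < 24, F.testBit i = true → mkPerm t (pt i) = pt i
  | _, [], _, l, hl, _, _, _, _, _ => by simp at hl
  | F, (b, ts) :: rest, h, l, hl, t, ht, i, hi, hF => by
    simp only [checkLower, Bool.and_eq_true, decide_eq_true_eq, List.all_eq_true] at h
    obtain ⟨⟨⟨_, hts⟩, _⟩, hrest⟩ := h
    rcases List.mem_cons.1 hl with rfl | hl
    · obtain ⟨hv, hf⟩ := hts t ht
      have h4 := List.all_eq_true.1 hf i (List.mem_range.2 hi)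
      rw [hF, Bool.not_true, Bool.false_or] at h4
      rw [mkPerm_pt hv hi, eq_of_beq h4]
    · exact checkLower_fixes _ rest hrest l hl t ht i hi (by rw [Nat.testBit_or, hF]; rfl)

lemma checkLower_valid : ∀ (F : ℕ) (L : List (ℕ × List ℕ)), checkLower F L = true →
    ∀ l ∈ L, ∀ t ∈ l.2, validT t = true
  | _, [], _, l, hl, _, _ => by simp at hl
  | F, (b, ts) :: rest, h, l, hl, t, ht => by
    simp only [checkLower, Bool.and_eq_true, decide_eq_true_eq, List.all_eq_true] at h
    rcases List.mem_cons.1 hl with rfl | hl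
    · exact (h.1.1.2 t ht).1
    · exact checkLower_valid _ rest h.2 l hl t ht

theorem chainCard_le_card : ∀ (F : ℕ) (L : List (ℕ × List ℕ)), checkLower F L = true →
    ∀ H : Subgroup (Equiv.Perm GolayPt), (∀ l ∈ L, ∀ t ∈ l.2, mkPerm t ∈ H) →
      chainCard L ≤ Nat.card H
  | _, [], _, H, _ => by simp only [chainCard]; exact Nat.card_pos
  | F, (b, ts) :: rest, h, H, hmem => by
    have hv := checkLower_valid F _ h
    simp only [checkLower, Bool.and_eq_true, decide_eq_true_eq] at h
    obtain ⟨⟨⟨hb, -⟩, hc⟩, hrest⟩ := h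
    rw [card_eq_orbit_mul_stab H (pt b), chainCard]
    refine Nat.mul_le_mul ?_ (chainCard_le_card _ rest hrest _ fun l hl t ht => ?_)
    · rw [← eq_of_beq hc, ← card_ptSet, ← Set.ncard_coe_finset]
      refine Set.ncard_le_ncard ?_ (Set.toFinite _)
      intro p hp
      rw [Finset.mem_coe, mem_ptSet] at hp
      obtain ⟨t, ht, hat⟩ := (testBit_orbitMask _ _ _).1 hp
      refine ⟨⟨mkPerm t, hmem (b, ts) (by simp) t ht⟩, ?_⟩
      show mkPerm t (pt b) = p
      rw [mkPerm_pt (hv (b, ts) (by simp) t ht) hb, hat, pt_idx]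
    · refine ⟨hmem l (List.mem_cons_of_mem _ hl) t ht, ?_⟩
      exact checkLower_fixes _ rest hrest l hl t ht b hb
        (by rw [Nat.testBit_or, Nat.testBit_two_pow_self, Bool.or_true])

/-- Tables of a lower bound certificate generate a stabiliser of that order. -/
theorem eq_of_lower {E : List ℕ} {F F' : ℕ} {L : List (ℕ × List ℕ)}
    (hL : checkLower F' L = true) (hin : (L.all fun l => l.2.all (inStab E F)) = true)
    (hcard : Nat.card ↥(stabGrp E F) ≤ chainCard L) {H : Subgroup (Equiv.Perm GolayPt)}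
    (hH : H ≤ stabGrp E F) (hmem : ∀ l ∈ L, ∀ t ∈ l.2, mkPerm t ∈ H) : H = stabGrp E F :=
  Subgroup.eq_of_le_of_card_ge hH (hcard.trans (chainCard_le_card F' L hL H hmem))

lemma closure_tables_eq {E : List ℕ} {F F' : ℕ} {L : List (ℕ × List ℕ)}
    (hL : checkLower F' L = true) (hin : (L.all fun l => l.2.all (inStab E F)) = true)
    (hcard : Nat.card ↥(stabGrp E F) ≤ chainCard L) :
    Subgroup.closure {σ | ∃ l ∈ L, ∃ t ∈ l.2, σ = mkPerm t} = stabGrp E F := by
  refine eq_of_lower hL hin hcard ((Subgroup.closure_le _).2 ?_)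
    fun l hl t ht => Subgroup.subset_closure ⟨l, hl, t, ht, rfl⟩
  rintro _ ⟨l, hl, t, ht, rfl⟩
  exact mem_stabGrp_of_inStab (List.all_eq_true.1 (List.all_eq_true.1 hin l hl) t ht)

/-- A subgroup whose orbit through `x` has `n` members has index `n` stabiliser. -/
lemma card_stabilizer_mul {β : Type*} [MulAction (Equiv.Perm GolayPt) β]
    (H K : Subgroup (Equiv.Perm GolayPt)) (x : β)
    (hK : K = H ⊓ MulAction.stabilizer (Equiv.Perm GolayPt) x) :
    Nat.card K * (MulAction.orbit H x).ncard = Nat.card H := by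
  have h1 : MulAction.stabilizer H x = K.subgroupOf H := by
    ext g
    simp [hK, Subgroup.mem_subgroupOf, Subgroup.smul_def]
  have h2 := Subgroup.card_mul_index (MulAction.stabilizer H x)
  rw [MulAction.index_stabilizer, h1, Nat.card_congr (Subgroup.subgroupOfEquivOfLe
    (show K ≤ H from hK ▸ inf_le_left)).toEquiv] at h2
  exact h2

end Cfsg.Agent.H44
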