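import Cfsg.Agent.H44.Centralizer
import Cfsg.Agent.H44.LowerBound

/-!
Kernel certificates for 23:11 and PSL(2, 23).
-/

set_option autoImplicit false

namespace Cfsg.Agent.H44

open Cfsg Cfsg.Agent.Golay

/-- Doubling, as a table. -/
def doubleTbl : ℕ := mkTbl 24 fun i => if i == 23 then 23 else (2 * i) % 23

/-- The table of `t ↦ 2 ^ k t + a`. -/
def affTbl (a k : ℕ) : ℕ := mkTbl 24 fun i => if i == 23 then 23 else (2 ^ k * i + a) % 23

/-- All tables `t ↦ 2 ^ k t + a`. -/
def affList : List ℕ := (List.range 23).flatMap fun a => (List.range 11).map fun k => affTbl a k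

/-- Representatives moving the extra point everywhere. -/
def lineReps : List ℕ :=
  idTbl :: (List.range 23).map fun a => tblMul (affTbl a 0) projInvTbl

/-- Generators of the larger group. -/
def lineGens : List ℕ := [projInvTbl, translTbl, doubleTbl]

/-- The unit two. -/
def unitTwo : (ZMod 23)ˣ := ⟨2, 12, by decide, by decide⟩

lemma aff_cert :
    ((List.range 23).all fun a => (List.range 11).all fun k =>
      tblEq (tblMul translTbl (affTbl a k)) (affTbl ((a + 1) % 23) k) &&
        tblEq (tblMul doubleTbl (affTbl a k)) (affTbl (2 * a % 23) ((k + 1) % 11))) = true ∧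
    (lineGens.all fun g => lineReps.all fun r => lineReps.any fun r' => affList.any fun b =>
      (app (tblMul g r) 23 == app r' 23) && tblEq (tblMul g r) (tblMul r' b)) = true ∧
    (affList.all validT) = true ∧ (lineReps.all validT) = true ∧
    tblEq (affTbl 0 0) idTbl = true ∧ tblEq (affTbl 1 0) translTbl = true ∧
    tblEq (affTbl 0 1) doubleTbl = true ∧
    checkLower (2 ^ 23) [(0, (List.range 23).map fun a => affTbl a 0),
      (1, (List.range 11).map fun k => affTbl 0 k)] = true ∧
    checkLower 0 [(23, lineReps), (0, (List.range 23).map fun a => affTbl a 0),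
      (1, (List.range 11).map fun k => affTbl 0 k)] = true ∧
    (inStab [] (0 ||| 2 ^ 23) translTbl && inStab [] (0 ||| 2 ^ 23) doubleTbl &&
      inM24 projInvTbl) = true ∧
    ((List.range 24).all fun i => lineReps.any fun r => app r 23 == i) = true := by
  decide +kernel

lemma aff_maps :
    (∀ a : ℕ, a < 23 → ∀ k : ℕ, k < 11 → ∀ z : GolayPt,
      tblFun (affTbl a k) z = (Option.map fun t : ZMod 23 => (2 : ZMod 23) ^ k * t + a) z) ∧
    (∀ u : (ZMod 23)ˣ, IsSquare u → ∃ k : Fin 11, u = unitTwo ^ (k : ℕ)) ∧
    (∀ k : Fin 11, IsSquare (unitTwo ^ (k : ℕ))) ∧ ZMod.val (unitTwo : ZMod 23) = 2 := by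
  decide +kernel

lemma aff_lengths : affList.length = 253 ∧ lineReps.length = 24 := by decide +kernel

end Cfsg.Agent.H44
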