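import Cfsg.Agent.H44.Centralizer
import Cfsg.Agent.H44.AffineCerts

/-!
The groups 23:11 and PSL(2, 23) inside the group of the code.
-/

set_option autoImplicit false

namespace Cfsg.Agent.H44

open Cfsg Cfsg.Agent.Golay
open scoped Pointwise

attribute [local irreducible] mkPerm affTbl doubleTbl translTbl projInvTbl mkTbl validT tblMul idTbl tblEq unitTwo

/-- Translation by one. -/
def shiftOne : Equiv.Perm GolayPt := Equiv.optionCongr (Equiv.addRight (1 : ZMod 23))

/-- Multiplications by squares. -/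
def squareMaps : Set (Equiv.Perm GolayPt) :=
  {g | ∃ u : (ZMod 23)ˣ, IsSquare u ∧ g = Equiv.optionCongr (Units.mulLeft u)}

/-- The Frobenius group 23:11. -/
def frob253 : Subgroup (Equiv.Perm GolayPt) := Subgroup.closure ({shiftOne} ∪ squareMaps)

/-- PSL(2, 23) on the projective line. -/
def line23 : Subgroup (Equiv.Perm GolayPt) := Subgroup.closure ({shiftOne, projInv} ∪ squareMaps)

lemma affList_mem {a k : ℕ} (ha : a < 23) (hk : k < 11) : affTbl a k ∈ affList :=
  List.mem_flatMap.2 ⟨a, List.mem_range.2 ha, List.mem_map.2 ⟨k, List.mem_range.2 hk, rfl⟩⟩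

lemma affTbl_valid {a k : ℕ} (ha : a < 23) (hk : k < 11) : validT (affTbl a k) = true :=
  List.all_eq_true.1 aff_cert.2.2.1 _ (affList_mem ha hk)

lemma mkPerm_affTbl {a k : ℕ} (ha : a < 23) (hk : k < 11) :
    mkPerm (affTbl a k) = shiftOne ^ a * Equiv.optionCongr (Units.mulLeft (unitTwo ^ k)) := by
  have hs : ∀ (n : ℕ) (z : GolayPt), (shiftOne ^ n) z = Option.map (fun t : ZMod 23 => t + n) z := by
    intro n
    induction n with
    | zero => intro z; cases z <;> simp
    | succ n ih =>
      intro z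
      rw [pow_succ', Equiv.Perm.mul_apply, ih]
      cases z <;> simp [shiftOne, add_assoc]
  refine Equiv.ext fun z => ?_
  rw [mkPerm_apply (affTbl_valid ha hk), Equiv.Perm.mul_apply, hs]
  refine (aff_maps.1 a ha k hk z).trans ?_
  cases z <;> simp [unitTwo]

lemma mkPerm_transl : mkPerm translTbl = shiftOne := by
  obtain ⟨-, -, -, -, e1, -⟩ := gen_tables
  rw [← e1, mkPerm_tblOf]
  rfl

lemma mkPerm_double : mkPerm doubleTbl = Equiv.optionCongr (Units.mulLeft unitTwo) := by
  have hv : validT doubleTbl = true := by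
    have h := aff_cert.2.2.2.2.2.2.2.2.2.1
    simp only [Bool.and_eq_true, inStab] at h
    exact validT_of_inM24 h.1.2.1.1
  rw [← mkPerm_eq_of_tblEq (affTbl_valid (by norm_num) (by norm_num)) hv aff_cert.2.2.2.2.2.2.1,
    mkPerm_affTbl (by norm_num) (by norm_num), pow_zero, one_mul, pow_one]

lemma squareMaps_mem_closure {g : Equiv.Perm GolayPt} (hg : g ∈ squareMaps) :
    g ∈ Subgroup.closure ({mkPerm doubleTbl} : Set (Equiv.Perm GolayPt)) := by
  obtain ⟨u, hu, rfl⟩ := hg
  obtain ⟨k, rfl⟩ := aff_maps.2.1 u hu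
  have : Equiv.optionCongr (Units.mulLeft (unitTwo ^ (k : ℕ))) = mkPerm doubleTbl ^ (k : ℕ) := by
    rw [mkPerm_double]
    generalize (k : ℕ) = n
    induction n with
    | zero => ext z : 1; cases z <;> simp
    | succ n ih =>
      rw [pow_succ', pow_succ', ← ih]
      ext z : 1
      cases z <;> simp [mul_assoc]
  refine this.symm ▸ ?_
  exact pow_mem (Subgroup.subset_closure (Set.mem_singleton _)) _

lemma frob253_eq : frob253 = Subgroup.closure {mkPerm translTbl, mkPerm doubleTbl} := by
  refine le_antisymm ((Subgroup.closure_le _).2 ?_) ((Subgroup.closure_le _).2 ?_)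
  · rintro g (hg | hg)
    · rw [Set.mem_singleton_iff.1 hg, ← mkPerm_transl]
      exact Subgroup.subset_closure (by simp)
    · exact Subgroup.closure_mono (by simp) (squareMaps_mem_closure hg)
  · rintro g (rfl | rfl)
    · rw [mkPerm_transl]; exact Subgroup.subset_closure (Or.inl rfl)
    · rw [mkPerm_double, ← pow_one unitTwo]
      exact Subgroup.subset_closure (Or.inr ⟨_, aff_maps.2.2.1 1, rfl⟩)

lemma line23_eq :
    line23 = Subgroup.closure {mkPerm projInvTbl, mkPerm translTbl, mkPerm doubleTbl} := by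
  obtain ⟨-, -, -, -, -, e2, -⟩ := gen_tables
  have hJ : mkPerm projInvTbl = projInv := by rw [← e2, mkPerm_tblOf]
  refine le_antisymm ((Subgroup.closure_le _).2 ?_) ((Subgroup.closure_le _).2 ?_)
  · rintro g ((rfl | hg) | hg)
    · rw [← mkPerm_transl]; exact Subgroup.subset_closure (by simp)
    · rw [Set.mem_singleton_iff.1 hg, ← hJ]; exact Subgroup.subset_closure (by simp)
    · exact Subgroup.closure_mono (by simp) (squareMaps_mem_closure hg)
  · rintro g (rfl | rfl | rfl)
    · rw [hJ]; exact Subgroup.subset_closure (Or.inl (Or.inr rfl))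
    · rw [mkPerm_transl]; exact Subgroup.subset_closure (Or.inl (Or.inl rfl))
    · rw [mkPerm_double, ← pow_one unitTwo]
      exact Subgroup.subset_closure (Or.inr ⟨_, aff_maps.2.2.1 1, rfl⟩)

/-- A group generated by tables lies in a set closed under them. -/
lemma closure_subset_of_closed {gens : Set (Equiv.Perm GolayPt)} {S : Set (Equiv.Perm GolayPt)}
    (h1 : 1 ∈ S) (h : ∀ g ∈ gens, ∀ s ∈ S, g * s ∈ S) :
    (Subgroup.closure gens : Set (Equiv.Perm GolayPt)) ⊆ S := by
  intro x hx
  rw [SetLike.mem_coe, ← Subgroup.mem_toSubmonoid, Subgroup.closure_toSubmonoid_of_finite] at hx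
  induction hx using Submonoid.closure_induction_left with
  | one => exact h1
  | mul_left g hg y _ hy => exact h g hg y hy

/-- The elements of the Frobenius group, as tables. -/
def affSet : Set (Equiv.Perm GolayPt) := {σ | ∃ t ∈ affList, σ = mkPerm t}

lemma affList_iff {t : ℕ} : t ∈ affList ↔ ∃ a < 23, ∃ k < 11, t = affTbl a k := by
  simp [affList, List.mem_flatMap, List.mem_map, eq_comm]

lemma validT_doubleTbl : validT doubleTbl = true ∧ validT translTbl = true := by
  have h := aff_cert.2.2.2.2.2.2.2.2.2.1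
  simp only [Bool.and_eq_true, inStab] at h
  exact ⟨validT_of_inM24 h.1.2.1.1, validT_of_inM24 h.1.1.1.1⟩

lemma frob253_subset : (frob253 : Set (Equiv.Perm GolayPt)) ⊆ affSet := by
  rw [frob253_eq]
  refine closure_subset_of_closed ?_ ?_
  · refine ⟨affTbl 0 0, affList_mem (by norm_num) (by norm_num), ?_⟩
    rw [mkPerm_eq_of_tblEq (affTbl_valid (by norm_num) (by norm_num)) idTbl_spec.1
      aff_cert.2.2.2.2.1, idTbl_spec.2]
  · rintro g hg _ ⟨t, ht, rfl⟩
    obtain ⟨a, ha, k, hk, rfl⟩ := affList_iff.1 ht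
    have h := List.all_eq_true.1 (List.all_eq_true.1 aff_cert.1 a (List.mem_range.2 ha)) k
      (List.mem_range.2 hk)
    rw [Bool.and_eq_true] at h
    rcases hg with rfl | rfl
    · obtain ⟨hv, he⟩ := tblMul_spec validT_doubleTbl.2 (affTbl_valid ha hk)
      refine ⟨_, affList_mem (Nat.mod_lt _ (by norm_num) : (a + 1) % 23 < 23) hk, ?_⟩
      rw [← he]
      exact mkPerm_eq_of_tblEq hv (affTbl_valid (Nat.mod_lt _ (by norm_num)) hk) h.1
    · obtain ⟨hv, he⟩ := tblMul_spec validT_doubleTbl.1 (affTbl_valid ha hk)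
      refine ⟨_, affList_mem (Nat.mod_lt _ (by norm_num) : 2 * a % 23 < 23)
        (Nat.mod_lt _ (by norm_num) : (k + 1) % 11 < 11), ?_⟩
      rw [← he]
      exact mkPerm_eq_of_tblEq hv
        (affTbl_valid (Nat.mod_lt _ (by norm_num)) (Nat.mod_lt _ (by norm_num))) h.2

lemma affTbl_mem_frob {a k : ℕ} (ha : a < 23) (hk : k < 11) : mkPerm (affTbl a k) ∈ frob253 := by
  rw [mkPerm_affTbl ha hk]
  refine mul_mem (pow_mem (Subgroup.subset_closure
    (show shiftOne ∈ ({shiftOne} : Set (Equiv.Perm GolayPt)) ∪ squareMaps from Or.inl rfl)) a) ?_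
  exact Subgroup.subset_closure (Or.inr ⟨_, aff_maps.2.2.1 ⟨k, hk⟩, rfl⟩)

lemma lineReps_mem_line {r : ℕ} (hr : r ∈ lineReps) : mkPerm r ∈ line23 := by
  obtain ⟨-, -, -, -, -, e2, -⟩ := gen_tables
  have hJ : mkPerm projInvTbl = projInv := by rw [← e2, mkPerm_tblOf]
  rcases List.mem_cons.1 hr with rfl | hr
  · rw [idTbl_spec.2]; exact one_mem _
  · obtain ⟨a, ha, rfl⟩ := List.mem_map.1 hr
    rw [List.mem_range] at ha
    rw [(tblMul_spec (affTbl_valid ha (by norm_num)) gen_tables.2.1).2, hJ]
    refine mul_mem ?_ (Subgroup.subset_closure (Or.inl (Or.inr rfl)))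
    exact Subgroup.closure_mono (Set.union_subset_union_left _ (by simp))
      (affTbl_mem_frob ha (by norm_num))

lemma frob253_le_line : frob253 ≤ line23 :=
  Subgroup.closure_mono (Set.union_subset_union_left _ (by simp))

theorem card_frob253 : Nat.card frob253 = 253 := by
  refine le_antisymm ?_ ?_
  · have h : affSet.ncard ≤ 253 := by
      have : affSet ⊆ ((affList.map mkPerm).toFinset : Set (Equiv.Perm GolayPt)) := by
        rintro _ ⟨t, ht, rfl⟩
        simpa using ⟨t, ht, rfl⟩
      refine (Set.ncard_le_ncard this (Finset.finite_toSet _)).trans ?_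
      rw [Set.ncard_coe_finset]
      refine (List.toFinset_card_le _).trans (le_of_eq ?_)
      rw [List.length_map, aff_lengths.1]
    rw [← SetLike.coe_sort_coe, Nat.card_coe_set_eq]
    exact (Set.ncard_le_ncard frob253_subset (Set.toFinite _)).trans h
  · refine le_trans (le_of_eq ?_) (chainCard_le_card _ _ aff_cert.2.2.2.2.2.2.2.1 frob253 ?_)
    · rfl
    · intro l hl t ht
      simp only [List.mem_cons, List.not_mem_nil, or_false] at hl
      rcases hl with rfl | rfl <;> obtain ⟨a, ha, rfl⟩ := List.mem_map.1 ht <;>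
        rw [List.mem_range] at ha
      · exact affTbl_mem_frob ha (by norm_num)
      · exact affTbl_mem_frob (by norm_num) ha

theorem card_line23 : Nat.card line23 = 6072 := by
  refine le_antisymm ?_ ?_
  · set S : Set (Equiv.Perm GolayPt) :=
      (((lineReps.flatMap fun r => affList.map fun b => mkPerm r * mkPerm b).toFinset :
        Finset (Equiv.Perm GolayPt)) : Set (Equiv.Perm GolayPt)) with hS
    have hsub : (line23 : Set (Equiv.Perm GolayPt)) ⊆ S := by
      rw [line23_eq]
      refine closure_subset_of_closed ?_ ?_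
      · simp only [hS, List.coe_toFinset, Set.mem_ofPred_eq, List.mem_flatMap, List.mem_map]
        refine ⟨idTbl, List.mem_cons_self, affTbl 0 0, affList_mem (by norm_num) (by norm_num), ?_⟩
        rw [mkPerm_eq_of_tblEq (affTbl_valid (by norm_num) (by norm_num)) idTbl_spec.1
          aff_cert.2.2.2.2.1, idTbl_spec.2, mul_one]
      · intro g hg s hs
        simp only [hS, List.coe_toFinset, Set.mem_ofPred_eq, List.mem_flatMap, List.mem_map] at hs ⊢
        obtain ⟨r, hr, b, hb, rfl⟩ := hs
        obtain ⟨G, hG, hGv, rfl⟩ : ∃ G ∈ lineGens, validT G = true ∧ g = mkPerm G := by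
          rcases hg with rfl | rfl | rfl
          · exact ⟨_, by simp [lineGens], gen_tables.2.1, rfl⟩
          · exact ⟨_, by simp [lineGens], validT_doubleTbl.2, rfl⟩
          · exact ⟨_, by simp [lineGens], validT_doubleTbl.1, rfl⟩
        have h := List.all_eq_true.1 (List.all_eq_true.1 aff_cert.2.1 G hG) r hr
        simp only [List.any_eq_true, Bool.and_eq_true] at h
        obtain ⟨r', hr', c, hc, -, heq⟩ := h
        have hvr := List.all_eq_true.1 aff_cert.2.2.2.1 r hr
        have hvr' := List.all_eq_true.1 aff_cert.2.2.2.1 r' hr'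
        have hvc := List.all_eq_true.1 aff_cert.2.2.1 c hc
        obtain ⟨hv1, he1⟩ := tblMul_spec hGv hvr
        obtain ⟨hv2, he2⟩ := tblMul_spec hvr' hvc
        have e := mkPerm_eq_of_tblEq hv1 hv2 heq
        rw [he1, he2] at e
        have hcb : mkPerm c * mkPerm b ∈ affSet := by
          apply frob253_subset
          obtain ⟨a, ha, k, hk, rfl⟩ := affList_iff.1 hb
          obtain ⟨a', ha', k', hk', rfl⟩ := affList_iff.1 hc
          exact mul_mem (affTbl_mem_frob ha' hk') (affTbl_mem_frob ha hk)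
        obtain ⟨d, hd, hcd⟩ := hcb
        exact ⟨r', hr', d, hd, by rw [← mul_assoc, e, mul_assoc, hcd]⟩
    rw [← SetLike.coe_sort_coe, Nat.card_coe_set_eq]
    refine (Set.ncard_le_ncard hsub (Set.toFinite _)).trans ?_
    rw [hS, Set.ncard_coe_finset]
    refine (List.toFinset_card_le _).trans (le_of_eq ?_)
    simp only [List.length_flatMap, List.length_map, List.map_const', List.sum_replicate,
      smul_eq_mul, aff_lengths.1, aff_lengths.2]
  · refine le_trans (le_of_eq ?_) (chainCard_le_card _ _ aff_cert.2.2.2.2.2.2.2.2.1 line23 ?_)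
    · rfl
    · intro l hl t ht
      simp only [List.mem_cons, List.not_mem_nil, or_false] at hl
      rcases hl with rfl | rfl | rfl
      · exact lineReps_mem_line ht
      all_goals obtain ⟨a, ha, rfl⟩ := List.mem_map.1 ht
      all_goals rw [List.mem_range] at ha
      · exact frob253_le_line (affTbl_mem_frob ha (by norm_num))
      · exact frob253_le_line (affTbl_mem_frob (by norm_num) ha)

lemma frob253_le : frob253 ≤ stabGrp [] (0 ||| 2 ^ 23) := by
  have h := aff_cert.2.2.2.2.2.2.2.2.2.1
  simp only [Bool.and_eq_true] at h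
  rw [frob253_eq, Subgroup.closure_le]
  rintro g (rfl | rfl)
  exacts [mem_stabGrp_of_inStab h.1.1, mem_stabGrp_of_inStab h.1.2]

lemma line23_le : line23 ≤ M24 := by
  have h := aff_cert.2.2.2.2.2.2.2.2.2.1
  simp only [Bool.and_eq_true] at h
  rw [line23_eq, Subgroup.closure_le]
  rintro g (rfl | rfl | rfl)
  exacts [mem_M24_of_inM24 h.2, (mem_stabGrp_of_inStab h.1.1).1, (mem_stabGrp_of_inStab h.1.2).1]

lemma line23_transitive (z : GolayPt) : ∃ σ ∈ line23, σ (pt 23) = z := by
  have h := List.all_eq_true.1 aff_cert.2.2.2.2.2.2.2.2.2.2 (idx z) (List.mem_range.2 (idx_lt z))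
  simp only [List.any_eq_true, beq_iff_eq] at h
  obtain ⟨r, hr, he⟩ := h
  refine ⟨mkPerm r, lineReps_mem_line hr, ?_⟩
  rw [mkPerm_pt (List.all_eq_true.1 aff_cert.2.2.2.1 r hr) (by norm_num), he, pt_idx]

end Cfsg.Agent.H44
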