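import Cfsg.Agent.Golay.SimpleCheck

/-!
Centralisers of permutation tables from partial images, and arithmetic of normalisers of
self-centralising subgroups of prime order.
-/

set_option autoImplicit false

namespace Cfsg.Agent.H44

open Cfsg Cfsg.Agent.Golay
open scoped Pointwise

/-- Pairs (point, image) on the cycles through the chosen representatives. -/
def cyclePairs (X p : ℕ) (reps ims : List ℕ) : List (ℕ × ℕ) :=
  (reps.zip ims).flatMap fun rj => (List.range p).map fun k => (iterTbl X k rj.1, iterTbl X k rj.2)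

/-- Mask of the first components. -/
def srcMask (l : List (ℕ × ℕ)) : ℕ := (l.map fun ab => ab.1).foldl (fun acc i => acc ||| 1 <<< i) 0

/-- Mask of the images of the listed points lying in a set. -/
def imgMask (l : List (ℕ × ℕ)) (o : ℕ) : ℕ :=
  ((l.filter fun ab => o.testBit ab.1).map fun ab => ab.2).foldl (fun acc i => acc ||| 1 <<< i) 0

/-- The map is not injective, or no octad meets the image of the listed points exactly in the
image of the listed part of the octad `o`: the map does not extend. -/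
def obstructedAt (l : List (ℕ × ℕ)) (o : ℕ) : Bool :=
  popCnt (imgMask l fullMask) != popCnt (srcMask l) ||
    (octadList.contains o &&
      !(octadList.any fun o' => o' &&& imgMask l fullMask == imgMask l o))

/-- The images are those of a power. -/
def isPowerImg (X p : ℕ) (reps ims : List ℕ) : Bool :=
  (List.range p).any fun k => (reps.zip ims).all fun rj => iterTbl X k rj.1 == rj.2

/-- Points of a mask, mapped to themselves. -/
def fixPairs (F : ℕ) : List (ℕ × ℕ) := (maskElems F).map fun i => (i, i)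

/-- Every choice of images is a power or obstructed by the corresponding octad. -/
def checkCands (F X p : ℕ) (reps : List ℕ) : List (List ℕ) → List ℕ → Bool
  | [], _ => true
  | ims :: t, w =>
      (isPowerImg X p reps ims || obstructedAt (fixPairs F ++ cyclePairs X p reps ims) (w.headD 0)) &&
        checkCands F X p reps t w.tail

/-- Only powers of `X` commute with it in the stabiliser: every choice of images of the
representatives is a power or does not extend. -/
def checkPartialCent (E : List ℕ) (F X p : ℕ) (reps wit : List ℕ) : Bool :=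
  inStab E F X && (reps.all fun r => r < 24) &&
    isTrivialStab E (F ||| srcMask (cyclePairs X p reps reps)) &&
    checkCands F X p reps (choices (reps.map fun r =>
      (maskElems (cellOf (fixedSets E F) r)).filter fun j =>
        (app X j == j) == (app X r == r))) wit

lemma checkCands_mem (F X p : ℕ) (reps : List ℕ) : ∀ (L : List (List ℕ)) (w : List ℕ),
    checkCands F X p reps L w = true → ∀ ims ∈ L, ∃ o,
      (isPowerImg X p reps ims || obstructedAt (fixPairs F ++ cyclePairs X p reps ims) o) = true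
  | [], _, _, ims, h => by simp at h
  | a :: t, w, h, ims, hm => by
    simp only [checkCands, Bool.and_eq_true] at h
    rcases List.mem_cons.1 hm with rfl | hm
    · exact ⟨_, h.1⟩
    · exact checkCands_mem F X p reps t w.tail h.2 ims hm

lemma testBit_srcMask (l : List (ℕ × ℕ)) (j : ℕ) :
    (srcMask l).testBit j = true ↔ ∃ ab ∈ l, ab.1 = j := by
  rw [srcMask, testBit_foldl_or]
  simp

lemma testBit_imgMask {l : List (ℕ × ℕ)} {o j : ℕ} :
    (imgMask l o).testBit j = true ↔ ∃ ab ∈ l, o.testBit ab.1 = true ∧ ab.2 = j := by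
  rw [imgMask, testBit_foldl_or]
  simp [and_assoc]

lemma ptSet_imgMask {l : List (ℕ × ℕ)} {σ : Equiv.Perm GolayPt}
    (hl : ∀ ab ∈ l, ab.1 < 24 ∧ ab.2 < 24 ∧ σ (pt ab.1) = pt ab.2) (o : ℕ) :
    ptSet (imgMask l o) = σ • (ptSet o ∩ ptSet (srcMask l)) := by
  ext z
  rw [mem_ptSet, testBit_imgMask, Finset.mem_smul_finset]
  constructor
  · rintro ⟨ab, hab, hbit, hz⟩
    obtain ⟨ha, -, he⟩ := hl ab hab
    refine ⟨pt ab.1, Finset.mem_inter.2 ⟨?_, ?_⟩, ?_⟩
    · rw [mem_ptSet, idx_pt _ ha]; exact hbit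
    · rw [mem_ptSet, testBit_srcMask, idx_pt _ ha]; exact ⟨ab, hab, rfl⟩
    · rw [Equiv.Perm.smul_def, he, hz, pt_idx]
  · rintro ⟨w, hw, rfl⟩
    rw [Finset.mem_inter, mem_ptSet, mem_ptSet, testBit_srcMask] at hw
    obtain ⟨hwo, ab, hab, hw'⟩ := hw
    obtain ⟨-, hb, he⟩ := hl ab hab
    refine ⟨ab, hab, hw' ▸ hwo, ?_⟩
    rw [Equiv.Perm.smul_def, ← pt_idx w, ← hw', he, idx_pt _ hb]

lemma imgMask_lt {l : List (ℕ × ℕ)} (hl : ∀ ab ∈ l, ab.2 < 24) (o : ℕ) : imgMask l o < 2 ^ 24 := by
  apply Nat.lt_pow_two_of_testBit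
  intro j hj
  by_contra h
  rw [Bool.not_eq_false] at h
  obtain ⟨ab, hab, -, rfl⟩ := testBit_imgMask.1 h
  have := hl ab hab
  omega

lemma not_obstructed {l : List (ℕ × ℕ)} {σ : Equiv.Perm GolayPt} (hσ : σ ∈ M24)
    (hl : ∀ ab ∈ l, ab.1 < 24 ∧ ab.2 < 24 ∧ σ (pt ab.1) = pt ab.2) (o : ℕ) :
    obstructedAt l o = false := by
  have hsrc : ∀ ab ∈ l, ab.1 < 24 := fun ab h => (hl ab h).1
  have hfull : ptSet (imgMask l fullMask) = σ • ptSet (srcMask l) := by
    rw [ptSet_imgMask hl, ptSet_fullMask, Finset.univ_inter]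
  rw [obstructedAt, Bool.or_eq_false_iff]
  refine ⟨?_, ?_⟩
  · rw [bne_eq_false_iff_eq, ← card_ptSet, ← card_ptSet, hfull, Finset.card_smul_finset]
  · by_cases ho : o ∈ octadList
    · rw [List.contains_iff_mem.2 ho, Bool.true_and, Bool.not_eq_false', List.any_eq_true]
      refine ⟨maskOf (σ • ptSet o), mem_octads_iff.1 (smul_mem_octads hσ (ptSet_mem_octads ho)),
        beq_iff_eq.2 ?_⟩
      refine ptSet_injOn (and_lt_full (maskOf_lt _)) (imgMask_lt (fun ab h => (hl ab h).2.1) o) ?_
      rw [ptSet_and, ptSet_maskOf, hfull, ptSet_imgMask hl, Finset.smul_finset_inter]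
    · rw [Bool.eq_false_iff.2 fun h => ho (List.contains_iff_mem.1 h), Bool.false_and]

theorem centralizer_le_of_partial {E : List ℕ} {F X p : ℕ} {reps wit : List ℕ}
    (h : checkPartialCent E F X p reps wit = true) {σ : Equiv.Perm GolayPt} (hσ : σ ∈ stabGrp E F)
    (hc : σ * mkPerm X = mkPerm X * σ) : σ ∈ Subgroup.zpowers (mkPerm X) := by
  simp only [checkPartialCent, Bool.and_eq_true, List.all_eq_true, decide_eq_true_eq] at h
  obtain ⟨⟨⟨hXs, hr⟩, hrig⟩, hall⟩ := h
  have hX : validT X = true := by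
    simp only [inStab, Bool.and_eq_true] at hXs; exact validT_of_inM24 hXs.1.1
  have hcomm : ∀ (k : ℕ) z, σ ((mkPerm X ^ k) z) = (mkPerm X ^ k) (σ z) := fun k z =>
    Equiv.congr_fun (Commute.pow_right hc k) z
  have hit : ∀ (k : ℕ) {i : ℕ}, i < 24 → iterTbl X k i = idx ((mkPerm X ^ k) (pt i)) :=
    fun k i hi => iterTbl_spec hX k hi
  set f : ℕ → ℕ := fun r => idx (σ (pt r)) with hf
  have hmem : reps.map f ∈ choices (reps.map fun r =>
      (maskElems (cellOf (fixedSets E F) r)).filter fun j =>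
        (app X j == j) == (app X r == r)) := by
    refine mem_choices_map reps fun r hrr => ?_
    rw [maskElems, List.mem_filter, List.mem_filter]
    refine ⟨⟨List.mem_range.2 (idx_lt _),
      testBit_cellOf (fun o ho => smul_fixedSets hσ ho) (hr r hrr)⟩, ?_⟩
    have e1 : app X (f r) = idx (σ (mkPerm X (pt r))) := by
      rw [hf]
      rw [show σ (mkPerm X (pt r)) = mkPerm X (σ (pt r)) from Equiv.congr_fun hc (pt r),
        idx_mkPerm hX]
    have e2 : app X r = idx (mkPerm X (pt r)) := by rw [idx_mkPerm hX, idx_pt r (hr r hrr)]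
    rw [beq_iff_eq, Bool.eq_iff_iff, beq_iff_eq, beq_iff_eq, e1, e2]
    conv_rhs => rhs; rw [← idx_pt r (hr r hrr)]
    rw [hf, idx_injective.eq_iff, idx_injective.eq_iff, σ.injective.eq_iff]
  have hzip : ∀ rj ∈ reps.zip (reps.map f), rj.1 ∈ reps ∧ rj.2 = f rj.1 := by
    intro rj hrj
    rw [List.zip_map_right, List.mem_map] at hrj
    obtain ⟨⟨a, b⟩, hab, rfl⟩ := hrj
    obtain ⟨i, hi, hi'⟩ := List.mem_iff_getElem.1 hab
    rw [List.getElem_zip] at hi'
    obtain ⟨rfl, rfl⟩ := Prod.mk.injEq .. ▸ hi'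
    exact ⟨List.getElem_mem _, rfl⟩
  have hpairs : ∀ ab ∈ cyclePairs X p reps (reps.map f),
      ab.1 < 24 ∧ ab.2 < 24 ∧ σ (pt ab.1) = pt ab.2 := by
    intro ab hab
    simp only [cyclePairs, List.mem_flatMap, List.mem_map] at hab
    obtain ⟨rj, hrj, k, -, rfl⟩ := hab
    obtain ⟨h1, h2⟩ := hzip rj hrj
    have hlt := hr _ h1
    rw [h2, hf, hit k hlt, hit k (idx_lt _), pt_idx, pt_idx, pt_idx]
    exact ⟨idx_lt _, idx_lt _, hcomm k _⟩
  have hfix : ∀ ab ∈ fixPairs F ++ cyclePairs X p reps (reps.map f),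
      ab.1 < 24 ∧ ab.2 < 24 ∧ σ (pt ab.1) = pt ab.2 := by
    intro ab hab
    rcases List.mem_append.1 hab with hab | hab
    · obtain ⟨i, hi, rfl⟩ := List.mem_map.1 hab
      rw [maskElems, List.mem_filter, List.mem_range] at hi
      exact ⟨hi.1, hi.1, hσ.2.2 _ (by rw [mem_ptSet, idx_pt i hi.1]; exact hi.2)⟩
    · exact hpairs ab hab
  obtain ⟨o, hor⟩ := checkCands_mem F X p reps _ _ hall _ hmem
  rw [not_obstructed hσ.1 hfix o, Bool.or_false] at hor
  simp only [isPowerImg, List.any_eq_true, List.mem_range, List.all_eq_true, beq_iff_eq] at hor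
  obtain ⟨k, -, hk⟩ := hor
  have hrep : ∀ r ∈ reps, (mkPerm X ^ k) (pt r) = σ (pt r) := by
    intro r hrr
    have hz : (r, f r) ∈ reps.zip (reps.map f) := by
      rw [List.zip_map_right, List.mem_map]
      refine ⟨(r, r), ?_, rfl⟩
      obtain ⟨i, hi, rfl⟩ := List.mem_iff_getElem.1 hrr
      exact List.mem_iff_getElem.2 ⟨i, by simpa using hi, by simp⟩
    have h' := hk _ hz
    rw [hit k (hr r hrr), hf] at h'
    exact idx_injective h'
  have hXg := mem_stabGrp_of_inStab hXs
  have hm := mul_mem (inv_mem (pow_mem hXg k)) hσ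
  have hbot : (mkPerm X ^ k)⁻¹ * σ ∈ stabGrp E (F ||| srcMask (cyclePairs X p reps reps)) := by
    refine ⟨hm.1, hm.2.1, fun z hz => ?_⟩
    rw [ptSet_or, Finset.mem_union] at hz
    rcases hz with hz | hz
    · exact hm.2.2 z hz
    · rw [mem_ptSet, testBit_srcMask] at hz
      obtain ⟨ab, hab, hz⟩ := hz
      simp only [cyclePairs, List.mem_flatMap, List.mem_map] at hab
      obtain ⟨rj, hrj, i, -, rfl⟩ := hab
      have h1 : rj.1 ∈ reps := (List.of_mem_zip hrj).1
      have hz' : z = (mkPerm X ^ i) (pt rj.1) := by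
        rw [← pt_idx z, ← hz]
        simp only [hit i (hr _ h1), pt_idx]
      rw [hz', Equiv.Perm.mul_apply, hcomm i, ← hrep _ h1, ← Equiv.Perm.mul_apply (mkPerm X ^ i),
        ← pow_add, add_comm, pow_add, Equiv.Perm.mul_apply, Equiv.Perm.coe_inv,
        Equiv.symm_apply_apply]
  rw [stabGrp_eq_bot' hrig, Subgroup.mem_bot, inv_mul_eq_one] at hbot
  rw [← hbot]
  exact Subgroup.npow_mem_zpowers _ k

/-- A table of prime order. -/
theorem orderOf_mkPerm {X p : ℕ} (hp : p.Prime) (hX : validT X = true)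
    (hit : ((List.range 24).all fun i => iterTbl X p i == i) = true)
    (hne : ((List.range 24).all fun i => app X i == i) = false) :
    orderOf (mkPerm X) = p := by
  haveI := Fact.mk hp
  refine orderOf_eq_prime (Equiv.ext fun z => ?_) fun h => ?_
  · have h' := List.all_eq_true.1 hit (idx z) (List.mem_range.2 (idx_lt z))
    rw [beq_iff_eq, iterTbl_spec hX p (idx_lt z), pt_idx] at h'
    exact idx_injective h'
  · have : ((List.range 24).all fun i => app X i == i) = true := by
      rw [List.all_eq_true]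
      intro i hi
      rw [List.mem_range] at hi
      have h2 := mkPerm_pt hX hi
      rw [h, Equiv.Perm.one_apply] at h2
      rw [beq_iff_eq]
      conv_rhs => rw [← idx_pt i hi, h2]
      rw [idx_pt _ ((validT_bijective hX).2 i hi)]
    rw [this] at hne
    exact Bool.noConfusion hne

/-! ### Normalisers -/

/-- The elements of a group normalising the subgroup generated by `x`. -/
def normIn {P : Type*} [Group P] (G : Subgroup P) (x : P) : Subgroup P :=
  G ⊓ Subgroup.normalizer ((Subgroup.zpowers x : Subgroup P) : Set P)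

lemma card_normIn_dvd {P : Type*} [Group P] [Finite P] {G : Subgroup P} {x : P} {p : ℕ}
    (hp : p.Prime) (hxo : orderOf x = p)
    (hc : ∀ σ ∈ G, σ * x = x * σ → σ ∈ Subgroup.zpowers x) :
    Nat.card (normIn G x) ∣ p * (p - 1) := by
  haveI := Fact.mk hp
  have hP : Nat.card (Subgroup.zpowers x) = p := by rw [Nat.card_zpowers, hxo]
  let f : normIn G x →* MulAut (Subgroup.zpowers x) :=
    (Subgroup.zpowers x).normalizerMonoidHom.comp
      (Subgroup.inclusion (show normIn G x ≤ _ from inf_le_right))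
  have hker : ∀ a ∈ f.ker, ((a : P)) ∈ Subgroup.zpowers x := by
    intro a ha
    refine hc _ (a.2).1 ?_
    have hf : f a = 1 := ha
    have h' := congrArg Subtype.val
      (DFunLike.congr_fun hf (⟨x, Subgroup.mem_zpowers x⟩ : Subgroup.zpowers x))
    have h'' : (a : P) * x * (a : P)⁻¹ = x := h'
    exact mul_inv_eq_iff_eq_mul.1 h''
  have h1 : Nat.card f.ker ∣ p := by
    rw [← hP]
    exact Subgroup.card_dvd_of_injective
      (MonoidHom.codRestrict ((normIn G x).subtype.comp f.ker.subtype) (Subgroup.zpowers x)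
        fun a => hker a.1 a.2)
      (fun a b h => Subtype.ext (Subtype.ext (congrArg Subtype.val h :)))
  have h2 : Nat.card f.range ∣ p - 1 := by
    refine (Subgroup.card_subgroup_dvd_card f.range).trans ?_
    rw [IsCyclic.card_mulAut, hP, Nat.totient_prime hp]
  have h := Subgroup.card_mul_index f.ker
  rw [Subgroup.index_ker] at h
  rw [← h]
  exact Nat.mul_dvd_mul h1 h2

/-- Sylow's congruence for a subgroup containing `x`. -/
lemma sylow_normIn {P : Type*} [Group P] [Finite P] {H : Subgroup P} {x : P} {p : ℕ}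
    (hp : p.Prime) (hxo : orderOf x = p) (hx : x ∈ H) (hp2 : ¬ p ^ 2 ∣ Nat.card H) :
    ∃ n, n * Nat.card (normIn H x) = Nat.card H ∧ n % p = 1 := by
  haveI := Fact.mk hp
  let x' : H := ⟨x, hx⟩
  have hx' : orderOf x' = p := by rw [← Subgroup.orderOf_coe]; exact hxo
  have hpd : p ∣ Nat.card H := hx' ▸ orderOf_dvd_natCard x'
  have hf : p ^ (Nat.card H).factorization p = p := by
    have h1 : (Nat.card H).factorization p = 1 := by
      have := (Nat.Prime.pow_dvd_iff_le_factorization hp Nat.card_pos.ne').not.1 hp2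
      have := (Nat.Prime.pow_dvd_iff_le_factorization hp Nat.card_pos.ne').1
        (by simpa using hpd : p ^ 1 ∣ Nat.card H)
      omega
    rw [h1, pow_one]
  let S : Sylow p H := Sylow.ofCard (Subgroup.zpowers x') (by rw [Nat.card_zpowers, hx', hf])
  have hmap : ((S : Subgroup H)).map H.subtype = Subgroup.zpowers x := by
    rw [Sylow.coe_ofCard, MonoidHom.map_zpowers]
    rfl
  have hnorm : Subgroup.normalizer ((S : Subgroup H) : Set H) = (normIn H x).subgroupOf H := by
    ext g
    rw [Subgroup.mem_subgroupOf, normIn, Subgroup.mem_inf, Subgroup.mem_normalizer_iff,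
      Subgroup.mem_normalizer_iff, ← hmap]
    simp only [Subgroup.mem_map, Subgroup.coe_subtype]
    constructor
    · intro h
      refine ⟨g.2, fun z => ⟨?_, ?_⟩⟩
      · rintro ⟨w, hw, rfl⟩
        exact ⟨g * w * g⁻¹, (h w).1 hw, by simp⟩
      · rintro ⟨w, hw, he⟩
        refine ⟨g⁻¹ * w * g, (h _).2 (by simpa [mul_assoc] using hw), ?_⟩
        simp [he, mul_assoc]
    · rintro ⟨-, h⟩ w
      constructor
      · intro hw
        obtain ⟨v, hv, he⟩ := (h w).1 ⟨w, hw, rfl⟩
        have : v = g * w * g⁻¹ := Subtype.ext (by simpa using he)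
        exact this ▸ hv
      · intro hw
        obtain ⟨v, hv, he⟩ := (h w).2 ⟨g * w * g⁻¹, hw, by simp⟩
        have : v = w := Subtype.ext he
        exact this ▸ hv
  refine ⟨Nat.card (Sylow p H), ?_, ?_⟩
  · rw [Sylow.card_eq_index_normalizer S, show Subgroup.normalizer (S : Set H) = _ from hnorm]
    have hc := Subgroup.card_mul_index ((normIn H x).subgroupOf H)
    rwa [Nat.card_congr (Subgroup.subgroupOfEquivOfLe
      (show normIn H x ≤ H from inf_le_left)).toEquiv, mul_comm] at hc
  · have h := card_sylow_modEq_one p H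
    rw [Nat.ModEq, Nat.one_mod_eq_one.2 hp.one_lt.ne'] at h
    exact h

/-- A subgroup of order divisible by `p` has a conjugate containing `x`. -/
lemma exists_conj_mem {P : Type*} [Group P] [Finite P] {G H : Subgroup P} {x : P} {p : ℕ}
    (hp : p.Prime) (hxo : orderOf x = p) (hx : x ∈ G) (hp2 : ¬ p ^ 2 ∣ Nat.card G) (hHG : H ≤ G)
    (hpH : p ∣ Nat.card H) :
    ∃ H' : Subgroup P, H' ≤ G ∧ Nat.card H' = Nat.card H ∧ x ∈ H' ∧
      ∃ g ∈ G, H' = H.map (MulAut.conj g).toMonoidHom := by
  haveI := Fact.mk hp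
  obtain ⟨y, hy⟩ := exists_prime_orderOf_dvd_card' (G := H) p hpH
  have hy' : orderOf (y : P) = p := by rw [Subgroup.orderOf_coe]; exact hy
  let x' : G := ⟨x, hx⟩
  let y' : G := ⟨(y : P), hHG y.2⟩
  have hf : p ^ (Nat.card G).factorization p = p := by
    have hd : p ∣ Nat.card G := dvd_trans hpH (Subgroup.card_dvd_of_le hHG)
    have h1 : (Nat.card G).factorization p = 1 := by
      have := (Nat.Prime.pow_dvd_iff_le_factorization hp Nat.card_pos.ne').not.1 hp2
      have := (Nat.Prime.pow_dvd_iff_le_factorization hp Nat.card_pos.ne').1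
        (by simpa using hd : p ^ 1 ∣ Nat.card G)
      omega
    rw [h1, pow_one]
  let S : Sylow p G := Sylow.ofCard (Subgroup.zpowers x')
    (by rw [Nat.card_zpowers, ← Subgroup.orderOf_coe, hxo, hf])
  let T : Sylow p G := Sylow.ofCard (Subgroup.zpowers y')
    (by rw [Nat.card_zpowers, ← Subgroup.orderOf_coe, hy', hf])
  obtain ⟨g, hg⟩ := MulAction.exists_smul_eq G T S
  have hxS : x' ∈ (S : Subgroup G) := Subgroup.mem_zpowers x'
  rw [← hg] at hxS
  change x' ∈ MulAut.conj g • (T : Subgroup G) at hxS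
  obtain ⟨w, hw, hwx⟩ := hxS
  obtain ⟨k, rfl⟩ := Subgroup.mem_zpowers_iff.1 hw
  refine ⟨H.map (MulAut.conj (g : P)).toMonoidHom, ?_, ?_, ?_, g, g.2, rfl⟩
  · rintro _ ⟨h, hh, rfl⟩
    exact mul_mem (mul_mem g.2 (hHG hh)) (inv_mem g.2)
  · exact (Nat.card_congr (H.equivMapOfInjective _
      (MulAut.conj (g : P)).injective).toEquiv).symm
  · refine ⟨(y : P) ^ k, zpow_mem y.2 k, ?_⟩
    have e := congrArg Subtype.val hwx
    exact e

end Cfsg.Agent.H44
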