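import Mathlib

/-! Elementary facts on positive definite even lattices without roots, given by a Gram matrix. -/

set_option autoImplicit false
open Matrix

namespace Cfsg.Agent.H44

variable {n : ℕ} {B : Matrix (Fin n) (Fin n) ℤ}

theorem form_symm (hsymm : B.IsSymm) (x y : Fin n → ℤ) : x ⬝ᵥ (B *ᵥ y) = y ⬝ᵥ (B *ᵥ x) := by
  rw [dotProduct_mulVec, dotProduct_comm, ← mulVec_transpose, hsymm.eq]

theorem form_add_self (hsymm : B.IsSymm) (x y : Fin n → ℤ) :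
    (x + y) ⬝ᵥ (B *ᵥ (x + y)) = x ⬝ᵥ (B *ᵥ x) + y ⬝ᵥ (B *ᵥ y) + 2 * (x ⬝ᵥ (B *ᵥ y)) := by
  simp only [mulVec_add, add_dotProduct, dotProduct_add]
  rw [form_symm hsymm y x]; ring

theorem form_two_smul (x : Fin n → ℤ) : ((2 : ℤ) • x) ⬝ᵥ (B *ᵥ ((2 : ℤ) • x)) = 4 * (x ⬝ᵥ (B *ᵥ x)) := by
  simp only [mulVec_smul, smul_dotProduct, dotProduct_smul, smul_eq_mul]; ring

/-- Two vectors congruent modulo 2, of norm sum at most 16, are equal, opposite, or orthogonal. -/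
theorem congr_two_short (hsymm : B.IsSymm) (hpos : ∀ x : Fin n → ℤ, x ≠ 0 → 0 < x ⬝ᵥ (B *ᵥ x))
    (heven : ∀ x : Fin n → ℤ, (2 : ℤ) ∣ x ⬝ᵥ (B *ᵥ x)) (h2 : ∀ x : Fin n → ℤ, x ⬝ᵥ (B *ᵥ x) ≠ 2)
    (x y : Fin n → ℤ) (hc : ∀ i, (2 : ℤ) ∣ (x - y) i)
    (hs : x ⬝ᵥ (B *ᵥ x) + y ⬝ᵥ (B *ᵥ y) ≤ 16) :
    y = x ∨ y = -x ∨ (x ⬝ᵥ (B *ᵥ x) + y ⬝ᵥ (B *ᵥ y) = 16 ∧ x ⬝ᵥ (B *ᵥ y) = 0) := by
  choose a ha using hc
  let c : Fin n → ℤ := fun i => y i + a i
  have hxm : x + -y = (2 : ℤ) • a := by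
    funext i; have := ha i; simp only [Pi.sub_apply] at this; simp [smul_eq_mul]; linarith
  have hxp : x + y = (2 : ℤ) • c := by
    funext i; have := ha i; simp only [Pi.sub_apply] at this; simp [c, smul_eq_mul]; linarith
  by_cases ha0 : a = 0
  · left; rw [ha0, smul_zero] at hxm; exact (eq_of_sub_eq_zero (by rwa [sub_eq_add_neg])).symm
  by_cases hc0 : c = 0
  · right; left; rw [hc0, smul_zero] at hxp; exact eq_neg_of_add_eq_zero_right hxp
  right; right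
  have e1 := form_add_self hsymm x (-y)
  have e2 := form_add_self hsymm x y
  rw [hxm, form_two_smul] at e1; rw [hxp, form_two_smul] at e2
  simp only [mulVec_neg, dotProduct_neg, neg_dotProduct, neg_neg] at e1
  have pa := hpos a ha0; have pc := hpos c hc0
  have ea := heven a; have ec := heven c; have na := h2 a; have nc := h2 c
  constructor <;> omega

end Cfsg.Agent.H44
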