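import Mathlib

/-! A computable copy of the field with four elements, as pairs `a + b ω`. -/

set_option autoImplicit false

namespace Cfsg.Agent.H44

/-- Coordinates `(a, b)` of `a + b ω`. -/
abbrev K4 : Type := ZMod 2 × ZMod 2

/-- Multiplication, using `ω² = ω + 1`. -/
def k4mul (x y : K4) : K4 := (x.1 * y.1 + x.2 * y.2, x.1 * y.2 + x.2 * y.1 + x.2 * y.2)

/-- `ω`. -/
def k4w : K4 := (0, 1)

/-- `ω²`. -/
def k4w2 : K4 := (1, 1)

section
variable {F : Type*} [Field F] [Fintype F]

theorem two_eq_zero_of_card_four (hF : Fintype.card F = 4) : (2 : F) = 0 := by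
  have h : ((Fintype.card F : ℕ) : F) = 0 := FiniteField.cast_card_eq_zero F
  rw [hF] at h
  have h4 : (2 : F) * 2 = 0 := by rw [← h]; norm_num
  exact or_self_iff.1 (mul_eq_zero.1 h4)

/-- The map to the field. -/
def k4phi (ω : F) (x : K4) : F := (x.1.val : F) + (x.2.val : F) * ω

variable (hF : Fintype.card F = 4) (ω : F) (hω : ω ^ 2 + ω + 1 = 0)
include hF

theorem k4phi_add (x y : K4) : k4phi ω (x + y) = k4phi ω x + k4phi ω y := by
  have h2 := two_eq_zero_of_card_four hF
  have key : ∀ a b : ZMod 2, (((a + b).val : ℕ) : F) = (a.val : F) + (b.val : F) := by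
    intro a b
    rcases (by decide : ∀ a : ZMod 2, a = 0 ∨ a = 1) a with rfl | rfl <;>
      rcases (by decide : ∀ a : ZMod 2, a = 0 ∨ a = 1) b with rfl | rfl <;>
      simp [ZMod.val_one, show (1 + 1 : ZMod 2) = 0 from rfl]
    linear_combination -h2
  simp only [k4phi, Prod.fst_add, Prod.snd_add, key]
  ring

include hω

theorem k4phi_mul (x y : K4) : k4phi ω (k4mul x y) = k4phi ω x * k4phi ω y := by
  have h2 := two_eq_zero_of_card_four hF
  obtain ⟨a, b⟩ := x; obtain ⟨c, d⟩ := y
  rcases (by decide : ∀ a : ZMod 2, a = 0 ∨ a = 1) a with rfl | rfl <;>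
    rcases (by decide : ∀ a : ZMod 2, a = 0 ∨ a = 1) b with rfl | rfl <;>
    rcases (by decide : ∀ a : ZMod 2, a = 0 ∨ a = 1) c with rfl | rfl <;>
    rcases (by decide : ∀ a : ZMod 2, a = 0 ∨ a = 1) d with rfl | rfl <;>
    simp [k4phi, k4mul, ZMod.val_one, show (1 + 1 : ZMod 2) = 0 from rfl] <;>
    first
      | linear_combination -hω + (1 + ω) * h2
      | linear_combination -hω + ω * h2
      | linear_combination -hω + h2
      | linear_combination -hω

theorem k4phi_eq_zero {x : K4} : k4phi ω x = 0 ↔ x = 0 := by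
  have h2 := two_eq_zero_of_card_four hF
  refine ⟨fun h => ?_, fun h => by subst h; simp [k4phi]⟩
  obtain ⟨a, b⟩ := x
  rcases (by decide : ∀ a : ZMod 2, a = 0 ∨ a = 1) a with rfl | rfl <;>
    rcases (by decide : ∀ a : ZMod 2, a = 0 ∨ a = 1) b with rfl | rfl <;>
    simp [k4phi, ZMod.val_one] at h ⊢
  · subst h; simp at hω
  · have h1 : (1 : F) = 0 := by linear_combination hω - ω * h
    exact one_ne_zero h1

theorem k4phi_bijective : Function.Bijective (k4phi ω : K4 → F) := by
  rw [Fintype.bijective_iff_injective_and_card]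
  refine ⟨fun x y h => ?_, by rw [hF]; rfl⟩
  have hxy : k4phi ω (x + y) = 0 := by
    rw [k4phi_add hF, h]
    linear_combination (k4phi ω y) * two_eq_zero_of_card_four hF
  have := (k4phi_eq_zero hF ω hω).1 hxy
  have key : ∀ x y : K4, x + y = 0 → x = y := by decide
  exact key x y this

end

end Cfsg.Agent.H44
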