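import Cfsg.Prelude.Def_SporadicCombinatorics
import Cfsg.Agent.H44.GF4

/-! The hexacode in the computable model of the field with four elements. -/

set_option autoImplicit false

namespace Cfsg.Agent.H44

/-- The three generators. -/
def hexRows : Fin 3 → Fin 6 → K4 :=
  ![![k4w, k4w2, k4w2, k4w, k4w2, k4w], ![k4w2, k4w, k4w, k4w2, k4w2, k4w],
    ![k4w2, k4w, k4w2, k4w, k4w, k4w2]]

/-- Encoding. -/
def hexEnc (c : K4 × K4 × K4) : Fin 6 → K4 := fun i =>
  k4mul c.1 (hexRows 0 i) + (k4mul c.2.1 (hexRows 1 i) + k4mul c.2.2 (hexRows 2 i))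

theorem hexEnc_injective : Function.Injective hexEnc := by
  intro a b h
  have key : ∀ a b, hexEnc a = hexEnc b → a = b := by decide +kernel
  exact key a b h

section
variable {F : Type*} [Field F] [Fintype F] (hF : Fintype.card F = 4) (ω : F) (hω : ω ^ 2 + ω + 1 = 0)
include hF hω

theorem hexacode_mem_iff (x : Fin 6 → F) :
    x ∈ hexacode F ω ↔ ∃ c, (fun i => k4phi ω (hexEnc c i)) = x := by
  have h2 := two_eq_zero_of_card_four hF
  have hw2 : k4phi ω k4w2 = ω ^ 2 := by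
    simp [k4phi, k4w2, ZMod.val_one]; linear_combination -hω + (1 + ω) * h2
  have hw1 : k4phi ω k4w = ω := by simp [k4phi, k4w, ZMod.val_one]
  have hval : ∀ c : K4 × K4 × K4, (fun i => k4phi ω (hexEnc c i)) =
      k4phi ω c.1 • ![ω, ω ^ 2, ω ^ 2, ω, ω ^ 2, ω] +
        (k4phi ω c.2.1 • ![ω ^ 2, ω, ω, ω ^ 2, ω ^ 2, ω] +
          k4phi ω c.2.2 • ![ω ^ 2, ω, ω ^ 2, ω, ω, ω ^ 2]) := by
    intro c; funext i
    simp only [hexEnc, k4phi_add hF, k4phi_mul hF ω hω, Pi.add_apply, Pi.smul_apply, smul_eq_mul]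
    fin_cases i <;> simp [hexRows, hw1, hw2]
  rw [hexacode, Submodule.mem_span_triple]
  constructor
  · rintro ⟨a, b, c, rfl⟩
    obtain ⟨a, rfl⟩ := (k4phi_bijective hF ω hω).2 a
    obtain ⟨b, rfl⟩ := (k4phi_bijective hF ω hω).2 b
    obtain ⟨c, rfl⟩ := (k4phi_bijective hF ω hω).2 c
    exact ⟨(a, b, c), (hval _).trans (add_assoc _ _ _).symm⟩
  · rintro ⟨c, rfl⟩
    exact ⟨_, _, _, ((hval c).trans (add_assoc _ _ _).symm).symm⟩

theorem hexEnc_weight [DecidableEq F] (c : K4 × K4 × K4) :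
    (Finset.univ.filter fun i => k4phi ω (hexEnc c i) ≠ 0).card =
      (Finset.univ.filter fun i => hexEnc c i ≠ 0).card := by
  congr 1; ext i; simp [k4phi_eq_zero hF ω hω]

theorem hexEnc_phi_injective : Function.Injective fun c => fun i => k4phi ω (hexEnc c i) :=
  fun _ _ h => hexEnc_injective (funext fun i => (k4phi_bijective hF ω hω).1 (congrFun h i))

theorem ncard_hexacode_weight [DecidableEq F] (k : ℕ) :
    {x : Fin 6 → F | x ∈ hexacode F ω ∧ (Finset.univ.filter fun i => x i ≠ 0).card = k}.ncard =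
      (Finset.univ.filter fun c => (Finset.univ.filter fun i => hexEnc c i ≠ 0).card = k).card := by
  rw [← Finset.card_image_of_injective _ (hexEnc_phi_injective hF ω hω), ← Set.ncard_coe_finset]
  congr 1
  ext x
  simp only [Finset.coe_image, Finset.coe_filter, Finset.mem_univ, true_and, Set.mem_image,
    Set.mem_setOf_eq, hexacode_mem_iff hF ω hω]
  constructor
  · rintro ⟨⟨c, rfl⟩, h⟩; exact ⟨c, by rwa [hexEnc_weight hF ω hω] at h, rfl⟩
  · rintro ⟨c, h, rfl⟩; exact ⟨⟨c, rfl⟩, by rwa [hexEnc_weight hF ω hω]⟩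

end

end Cfsg.Agent.H44
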