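import Mathlib

set_option autoImplicit false

/-! Witness octads for the centraliser of the doubling map in the point stabiliser. -/

namespace Cfsg.Agent.H44

/-- Witness octads. -/
def doubleWit : List ℕ :=
  [0, 0, 0, 0, 0, 0, 5279, 0, 0, 5279, 5279, 0, 0, 5279, 5279, 0, 5279, 0, 5279, 5279, 5279,
  5279, 0, 0, 0, 0, 5279, 0, 5279, 0, 0, 0, 5279, 0, 0, 5279, 5279, 0, 5279, 0, 5279, 5279, 5279,
  5279, 0, 0, 0, 0, 5279, 0, 5279, 0, 0, 5279, 5279, 0, 0, 5279, 0, 0, 5279, 0, 5279, 5279, 5279,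
  5279, 0, 0, 0, 0, 5279, 0, 5279, 0, 0, 5279, 5279, 0, 0, 5279, 5279, 0, 5279, 0, 5279, 0, 5279,
  5279, 5279, 5279, 5279, 5279, 0, 5279, 0, 5279, 5279, 0, 0, 5279, 5279, 0, 0, 5279, 0, 5279, 0,
  0, 0, 0, 0, 0, 0, 0, 5279, 0, 0, 0, 0, 5279, 5279, 0, 0, 5279, 5279, 0, 5279, 0, 5279, 5279,
  5279, 5279, 5279, 5279, 5279, 5279, 0, 5279, 0, 5279, 5279, 0, 0, 5279, 5279, 0, 0, 5279, 0,
  5279, 0, 0, 0, 0, 0, 0, 0, 0, 5279, 0, 5279, 0, 0, 5279, 5279, 0, 0, 5279, 5279, 0, 0, 0, 5279,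
  5279, 5279, 5279, 0, 0, 0, 0, 5279, 0, 5279, 0, 0, 5279, 5279, 0, 0, 5279, 5279, 0, 5279, 0,
  5279, 5279, 5279, 0, 5279, 5279, 5279, 5279, 0, 5279, 0, 5279, 5279, 0, 0, 5279, 5279, 0, 0,
  5279, 0, 5279, 0, 0, 0, 0, 5279, 5279, 5279, 5279, 0, 5279, 0, 5279, 5279, 0, 0, 5279, 5279, 0,
  0, 5279, 0, 5279, 0, 0, 0, 0, 0, 0, 0, 0, 5279, 0, 5279, 0, 0, 5279, 5279, 0, 0, 0, 5279, 0,
  5279, 0, 5279, 5279, 5279, 5279, 0, 0, 0, 0, 5279, 0, 5279, 0, 0, 5279, 5279, 0, 0, 5279, 5279,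
  0, 5279, 0, 0, 5279, 5279, 5279, 5279, 5279, 5279, 5279, 0, 5279, 0, 5279, 5279, 0, 0, 5279,
  5279, 0, 0, 5279, 0, 5279, 0, 0, 0, 0, 5279, 5279, 5279, 5279, 0, 5279, 0, 5279, 5279, 0, 0,
  5279, 5279, 0, 0, 5279, 0, 5279, 0, 0, 0, 0, 0, 0, 0, 0, 5279, 0, 5279, 0, 0, 5279, 0, 0, 0,
  5279, 5279, 0, 5279, 0, 5279, 5279, 5279, 5279, 5279, 5279, 5279, 5279, 0, 5279, 0, 5279, 5279,
  0, 0, 5279, 5279, 0, 0, 5279, 0, 5279, 0, 0, 0, 0, 0, 0, 0, 0, 5279, 0, 5279, 0, 0, 5279, 5279,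
  0, 0, 5279, 5279, 0, 5279, 0, 5279, 5279, 0, 5279, 5279, 5279, 5279, 5279, 0, 5279, 0, 5279,
  5279, 0, 0, 5279, 5279, 0, 0, 5279, 0, 5279, 0, 0, 0, 0, 5279, 5279, 5279, 5279, 0, 5279, 0,
  5279, 5279, 0, 0, 5279, 5279, 0, 0, 5279, 0, 5279, 0, 0, 0, 0, 5279, 5279, 5279, 5279, 0, 5279,
  0, 5279, 5279, 0, 0, 5279, 5279, 0, 0, 5279, 0, 5279, 0, 0, 0, 0, 5279, 5279, 5279, 5279, 0,
  5279, 0, 5279, 5279, 0, 0, 5279, 5279, 0, 0, 5279, 0, 5279, 0, 0, 0, 0]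

end Cfsg.Agent.H44
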