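import Cfsg.Agent.H44.AffineTwentyThree
import Cfsg.Agent.H44.M23SylowData
import Cfsg.Agent.Golay.Mathieu

/-!
Maximality of 23:11 and PSL(2, 23) by Sylow arithmetic.
-/

set_option autoImplicit false

namespace Cfsg.Agent.H44

open Cfsg Cfsg.Agent.Golay
open scoped Pointwise

/-- The stabiliser of the extra point. -/
noncomputable def baseTwentyThree : Subgroup (Equiv.Perm GolayPt) := stabGrp [] (0 ||| 2 ^ 23)

lemma card_baseTwentyThree : Nat.card baseTwentyThree = 10200960 := by
  rw [baseTwentyThree, ← spor_M23_eq, card_spor_M23]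

lemma sylow_cert :
    checkPartialCent [] (0 ||| 2 ^ 23) doubleTbl 11 [1, 5, 0] doubleWit = true ∧
    ((List.range 24).all fun i => iterTbl doubleTbl 11 i == i) = true ∧
    ((List.range 24).all fun i => app doubleTbl i == i) = false ∧
    checkPartialCent [] (0 ||| 2 ^ 23) translTbl 23 [0] [] = true ∧
    ((List.range 24).all fun i => iterTbl translTbl 23 i == i) = true ∧
    ((List.range 24).all fun i => app translTbl i == i) = false ∧
    tblEq (tblMul doubleTbl translTbl) (tblMul (tblMul translTbl translTbl) doubleTbl) = true := by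
  decide +kernel

lemma transl_facts : validT translTbl = true ∧ orderOf (mkPerm translTbl) = 23 ∧
    mkPerm translTbl ∈ baseTwentyThree ∧ mkPerm translTbl ∈ frob253 := by
  obtain ⟨-, -, -, c, o, n, -⟩ := sylow_cert
  have hs : inStab [] (0 ||| 2 ^ 23) translTbl = true := by
    simp only [checkPartialCent, Bool.and_eq_true] at c; exact c.1.1.1
  refine ⟨validT_doubleTbl.2, orderOf_mkPerm (by norm_num) validT_doubleTbl.2 o n,
    mem_stabGrp_of_inStab hs, ?_⟩
  rw [frob253_eq]
  exact Subgroup.subset_closure (Set.mem_insert _ _)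

lemma double_facts : orderOf (mkPerm doubleTbl) = 11 ∧ mkPerm doubleTbl ∈ baseTwentyThree ∧
    mkPerm doubleTbl ∈ frob253 := by
  obtain ⟨c, o, n, -⟩ := sylow_cert
  have hs : inStab [] (0 ||| 2 ^ 23) doubleTbl = true := by
    simp only [checkPartialCent, Bool.and_eq_true] at c; exact c.1.1.1
  refine ⟨orderOf_mkPerm (by norm_num) validT_doubleTbl.1 o n, mem_stabGrp_of_inStab hs, ?_⟩
  rw [frob253_eq]
  exact Subgroup.subset_closure (Set.mem_insert_of_mem _ (Set.mem_singleton _))

lemma normIn_twenty_three {H : Subgroup (Equiv.Perm GolayPt)} (hH : H ≤ baseTwentyThree) :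
    Nat.card (normIn H (mkPerm translTbl)) ∣ 506 :=
  card_normIn_dvd (by norm_num) transl_facts.2.1 fun σ hσ hc =>
    centralizer_le_of_partial sylow_cert.2.2.2.1 (hH hσ) hc

lemma normIn_double {H : Subgroup (Equiv.Perm GolayPt)} (hH : H ≤ baseTwentyThree) :
    Nat.card (normIn H (mkPerm doubleTbl)) ∣ 110 :=
  card_normIn_dvd (by norm_num) double_facts.1 fun σ hσ hc =>
    centralizer_le_of_partial sylow_cert.1 (hH hσ) hc

lemma arith_506 : ∀ a ∈ Nat.divisors 506, a ∣ 10200960 → 10200960 / a % 23 = 1 → a = 253 := by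
  decide +kernel

set_option maxRecDepth 100000 in
lemma arith_index : ∀ n ∈ ((List.range 1754).map fun i => 23 * i + 1).filter
    (fun n => 40320 % n == 0), ∀ a ∈ Nat.divisors 55,
    a ∣ 253 * n → 253 * n / a % 11 = 1 → n = 1 ∨ n = 40320 := by
  decide +kernel

lemma arith_110 : ∀ a ∈ Nat.divisors 110, a ∣ 10200960 → 10200960 / a % 11 = 1 → a = 55 := by
  decide +kernel

lemma frob253_le_normIn {H : Subgroup (Equiv.Perm GolayPt)} (hH : frob253 ≤ H) :
    frob253 ≤ normIn H (mkPerm translTbl) := by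
  refine le_inf hH ?_
  rw [frob253_eq, Subgroup.closure_le]
  rintro g (rfl | rfl)
  · exact Subgroup.le_normalizer (Subgroup.mem_zpowers _)
  · obtain ⟨hv2, he2⟩ := tblMul_spec validT_doubleTbl.2 validT_doubleTbl.2
    have e := mkPerm_eq_of_tblEq (tblMul_spec validT_doubleTbl.1 validT_doubleTbl.2).1
      (tblMul_spec hv2 validT_doubleTbl.1).1 sylow_cert.2.2.2.2.2.2
    rw [(tblMul_spec validT_doubleTbl.1 validT_doubleTbl.2).2,
      (tblMul_spec hv2 validT_doubleTbl.1).2, he2] at e
    have hyx : mkPerm doubleTbl * mkPerm translTbl * (mkPerm doubleTbl)⁻¹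
        = mkPerm translTbl * mkPerm translTbl := by rw [e, mul_inv_cancel_right]
    have hmap : (Subgroup.zpowers (mkPerm translTbl)).map
        (MulAut.conj (mkPerm doubleTbl)).toMonoidHom = Subgroup.zpowers (mkPerm translTbl) := by
      refine Subgroup.eq_of_le_of_card_ge ?_ ?_
      · rw [MonoidHom.map_zpowers, Subgroup.zpowers_le]
        show mkPerm doubleTbl * mkPerm translTbl * (mkPerm doubleTbl)⁻¹ ∈ _
        rw [hyx]
        exact mul_mem (Subgroup.mem_zpowers _) (Subgroup.mem_zpowers _)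
      · rw [Subgroup.card_map_of_injective (MulAut.conj (mkPerm doubleTbl)).injective]
    rw [SetLike.mem_coe, Subgroup.mem_normalizer_iff]
    intro z
    conv_rhs => rw [← hmap]
    rw [Subgroup.mem_map]
    constructor
    · exact fun hz => ⟨z, hz, rfl⟩
    · rintro ⟨w, hw, he⟩
      have : w = z := (MulAut.conj (mkPerm doubleTbl)).injective he
      exact this ▸ hw

/-- 23:11 is maximal in the stabiliser of a point. -/
theorem eq_or_eq_of_frob253_le {K : Subgroup (Equiv.Perm GolayPt)} (hB : frob253 ≤ K)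
    (hK : K ≤ baseTwentyThree) : K = frob253 ∨ K = baseTwentyThree := by
  obtain ⟨hv, ho, hm, hmB⟩ := transl_facts
  have hdvd : Nat.card K ∣ 10200960 := card_baseTwentyThree ▸ Subgroup.card_dvd_of_le hK
  have hp23 : ∀ {H : Subgroup (Equiv.Perm GolayPt)}, H ≤ baseTwentyThree →
      ¬ 23 ^ 2 ∣ Nat.card H := fun hH h => by
    have := h.trans (card_baseTwentyThree ▸ Subgroup.card_dvd_of_le hH)
    norm_num at this
  obtain ⟨N, hN, hmodN⟩ := sylow_normIn (p := 23) (by norm_num) ho hm (hp23 le_rfl)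
  rw [card_baseTwentyThree] at hN
  have hG : Nat.card (normIn baseTwentyThree (mkPerm translTbl)) = 253 :=
    arith_506 _ (Nat.mem_divisors.2 ⟨normIn_twenty_three le_rfl, by norm_num⟩)
      ⟨N, by rw [← hN, mul_comm]⟩ (by rw [← hN, Nat.mul_div_cancel _ Nat.card_pos]; exact hmodN)
  have hBG : frob253 = normIn baseTwentyThree (mkPerm translTbl) :=
    Subgroup.eq_of_le_of_card_ge (frob253_le_normIn frob253_le) (by rw [hG, card_frob253])
  have hKN : normIn K (mkPerm translTbl) = frob253 :=
    le_antisymm ((inf_le_inf_right _ hK).trans_eq hBG.symm) (frob253_le_normIn hB)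
  obtain ⟨n, hn, hmod⟩ := sylow_normIn (p := 23) (by norm_num) ho (hB hmB) (hp23 hK)
  rw [hKN, card_frob253] at hn
  have hnd : n ∣ 40320 := by
    have h' : 253 * n ∣ 253 * 40320 := by rw [mul_comm, hn]; exact hdvd
    exact Nat.dvd_of_mul_dvd_mul_left (by norm_num) h'
  have hmem : n ∈ ((List.range 1754).map fun i => 23 * i + 1).filter
      (fun n => 40320 % n == 0) := by
    refine List.mem_filter.2 ⟨List.mem_map.2 ⟨n / 23, List.mem_range.2 ?_, by omega⟩, ?_⟩
    · have := Nat.le_of_dvd (by norm_num) hnd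
      omega
    · exact beq_iff_eq.2 (Nat.mod_eq_zero_of_dvd hnd)
  obtain ⟨ho11, hm11, hmB11⟩ := double_facts
  obtain ⟨m, hm', hmodm⟩ := sylow_normIn (p := 11) (by norm_num) ho11 (hB hmB11) (fun h => by
    have := h.trans hdvd
    norm_num at this)
  rw [← hn, mul_comm n 253] at hm'
  obtain ⟨M, hM, hmodM⟩ := sylow_normIn (p := 11) (by norm_num) ho11 hm11 (fun h => by
    rw [card_baseTwentyThree] at h
    norm_num at h)
  rw [card_baseTwentyThree] at hM
  have h55 : Nat.card (normIn baseTwentyThree (mkPerm doubleTbl)) = 55 :=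
    arith_110 _ (Nat.mem_divisors.2 ⟨normIn_double le_rfl, by norm_num⟩)
      ⟨M, by rw [← hM, mul_comm]⟩ (by rw [← hM, Nat.mul_div_cancel _ Nat.card_pos]; exact hmodM)
  have hK55 : Nat.card (normIn K (mkPerm doubleTbl)) ∣ 55 :=
    h55 ▸ Subgroup.card_dvd_of_le (inf_le_inf_right _ hK)
  rcases arith_index n hmem _ (Nat.mem_divisors.2 ⟨hK55, by norm_num⟩)
    ⟨m, by rw [← hm', mul_comm]⟩ (by rw [← hm', Nat.mul_div_cancel _ Nat.card_pos]; exact hmodm)
    with h | h
  · refine Or.inl (Subgroup.eq_of_le_of_card_ge hB ?_).symm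
    rw [← hn, h, one_mul, card_frob253]
  · refine Or.inr (Subgroup.eq_of_le_of_card_ge hK ?_)
    rw [← hn, h, card_baseTwentyThree]

/-- PSL(2, 23) is maximal in the group of the code. -/
theorem eq_or_eq_of_line23_le {K : Subgroup (Equiv.Perm GolayPt)} (hL : line23 ≤ K) (hK : K ≤ M24) :
    K = line23 ∨ K = M24 := by
  set K₀ := K ⊓ MulAction.stabilizer (Equiv.Perm GolayPt) (pt 23) with hK₀
  have hbase : baseTwentyThree = M24 ⊓ MulAction.stabilizer (Equiv.Perm GolayPt) (pt 23) := by
    rw [baseTwentyThree, stabGrp_or _ _ (by norm_num : (23 : ℕ) < 24), stabGrp_nil_zero]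
  have hle : K₀ ≤ baseTwentyThree := hbase ▸ inf_le_inf_right _ hK
  have hge : frob253 ≤ K₀ := le_inf (frob253_le_line.trans hL)
    ((hbase ▸ frob253_le : frob253 ≤ M24 ⊓ MulAction.stabilizer (Equiv.Perm GolayPt) (pt 23)).trans
      inf_le_right)
  have horb : MulAction.orbit K (pt 23) = Set.univ := by
    refine Set.eq_univ_of_forall fun z => ?_
    obtain ⟨σ, hσ, h⟩ := line23_transitive z
    exact ⟨⟨σ, hL hσ⟩, h⟩
  have hc := card_stabilizer_mul K K₀ (pt 23) hK₀
  rw [horb, Set.ncard_univ, show Nat.card GolayPt = 24 by simp [GolayPt]] at hc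
  rcases eq_or_eq_of_frob253_le hge hle with h | h
  · refine Or.inl (Subgroup.eq_of_le_of_card_ge hL ?_).symm
    rw [← hc, h, card_frob253, card_line23]
  · refine Or.inr (Subgroup.eq_of_le_of_card_ge hK ?_)
    rw [← hc, h, card_baseTwentyThree, card_M24]

end Cfsg.Agent.H44
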