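import Cfsg.Agent.H44.M11Point
import Cfsg.Agent.Golay.SimpleCheck
import Cfsg.Agent.H30.PSLPrime

/-!
The stabiliser of a dodecad, a point of it and a point outside is the simple group of order 660.
-/

set_option autoImplicit false

namespace Cfsg.Agent.H44

open Cfsg Cfsg.Agent.Golay
open scoped Pointwise commutatorElement

/-- Fixed points 0 and 5. -/
def maskZeroFive : ℕ := maskZero ||| 2 ^ 5

/-- The orbit of eleven points inside the dodecad. -/
def elevenMask : ℕ := squareMask ^^^ 1

lemma cert660 :
    checkLower maskZeroFive levels660 = true ∧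
    (levels660.all fun l => l.2.all (inStab [squareMask] maskZeroFive)) = true ∧
    chainCard levels660 = 660 ∧
    checkComm [squareMask] maskZeroFive comms660 = true ∧
    checkSLP (idTbl :: comms660.map fun n => n.2.2) prog660 = true ∧
    (levels660.all fun l => l.2.all fun t =>
      ((idTbl :: comms660.map fun n => n.2.2) ++ prog660.map fun n => n.1).contains t) = true ∧
    levels660.head?.map (fun l => (l.1, orbitMask l.2 l.1)) = some (1, elevenMask) ∧
    cellOf (fixedSets [squareMask] maskZeroFive) 1 = elevenMask ∧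
    isRigid [squareMask] (maskZeroFive ||| elevenMask) = true ∧
    checkCent [squareMask] maskZeroFive elt660 11 code660 reps660 = true ∧
    (powTbls elt660 (11 + 1)).getLast? = some idTbl ∧ tblEq elt660 idTbl = false ∧
    popCnt elevenMask = 11 ∧ popCnt coMask = 12 := by
  decide +kernel

lemma maskZeroFive_eq : stabGrp [squareMask] maskZeroFive
    = baseEleven ⊓ MulAction.stabilizer (Equiv.Perm GolayPt) (pt 5) := by
  rw [maskZeroFive, stabGrp_or _ _ (by norm_num), baseEleven]

lemma card_stab660 : Nat.card ↥(stabGrp [squareMask] maskZeroFive) = 660 := by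
  have h := card_stabilizer_mul baseEleven _ (pt 5) maskZeroFive_eq
  have horb : MulAction.orbit baseEleven (pt 5) = (ptSet coMask : Set GolayPt) := by
    ext z
    constructor
    · rintro ⟨σ, rfl⟩
      exact baseEleven_coMask σ.2 pt_five_seven.1
    · intro hz
      obtain ⟨w, hw, hne⟩ := Finset.exists_mem_ne (s := ptSet coMask)
        (by rw [card_ptSet, cert660.2.2.2.2.2.2.2.2.2.2.2.2.2]; norm_num) z
      obtain ⟨σ, hσ, h5, -⟩ := exists_map_two hz hw hne.symm
      exact ⟨⟨σ, hσ⟩, h5⟩
  rw [horb, Set.ncard_coe_finset, card_ptSet, cert660.2.2.2.2.2.2.2.2.2.2.2.2.2,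
    card_baseEleven] at h
  omega

lemma commutator_stab660 : commutator ↥(stabGrp [squareMask] maskZeroFive) = ⊤ := by
  obtain ⟨hlow, hin, hcard, hc, hp, hcov, -⟩ := cert660
  set G := stabGrp [squareMask] maskZeroFive with hG
  set D := (commutator ↥G).map G.subtype with hD
  have hk : ∀ A ∈ idTbl :: comms660.map (fun n => n.2.2), validT A = true ∧ mkPerm A ∈ D := by
    intro A hA
    rcases List.mem_cons.1 hA with rfl | hA
    · exact ⟨idTbl_spec.1, idTbl_spec.2 ▸ one_mem _⟩
    · obtain ⟨⟨a, b, c⟩, hn, rfl⟩ := List.mem_map.1 hA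
      have hn' := List.all_eq_true.1 hc _ hn
      simp only [Bool.and_eq_true] at hn'
      obtain ⟨⟨⟨ha, hb⟩, hcm⟩, heq⟩ := hn'
      have hva : validT a = true := by
        simp only [inStab, Bool.and_eq_true] at ha; exact validT_of_inM24 ha.1.1
      have hvb : validT b = true := by
        simp only [inStab, Bool.and_eq_true] at hb; exact validT_of_inM24 hb.1.1
      have hvc : validT c = true := by
        simp only [inStab, Bool.and_eq_true] at hcm; exact validT_of_inM24 hcm.1.1
      refine ⟨hvc, ?_⟩
      have he : mkPerm a * mkPerm b = mkPerm c * (mkPerm b * mkPerm a) := by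
        rw [← (tblMul_spec hva hvb).2, ← (tblMul_spec hvb hva).2,
          ← (tblMul_spec hvc (tblMul_spec hvb hva).1).2, eq_of_beq heq]
      refine ⟨⁅(⟨_, mem_stabGrp_of_inStab ha⟩ : ↥G),
        (⟨_, mem_stabGrp_of_inStab hb⟩ : ↥G)⁆,
        Subgroup.commutator_mem_commutator (Subgroup.mem_top _) (Subgroup.mem_top _), ?_⟩
      rw [map_commutatorElement]
      show ⁅mkPerm a, mkPerm b⁆ = mkPerm c
      rw [commutatorElement_def, he]
      group
  have hDeq : D = G := by
    refine eq_of_lower hlow hin (by rw [card_stab660, hcard]) (Subgroup.map_subtype_le _)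
      fun l hl t ht => ?_
    have := List.all_eq_true.1 (List.all_eq_true.1 hcov l hl) t ht
    exact (checkSLP_mem _ _ hp hk t (List.contains_iff_mem.1 this)).2
  apply Subgroup.map_injective (Subgroup.subtype_injective G)
  rw [← hD, hDeq, ← MonoidHom.range_eq_map, Subgroup.range_subtype]

lemma mkPerm_order_eleven : orderOf (mkPerm elt660) = 11 := by
  obtain ⟨-, -, -, -, -, -, -, -, -, hcent, hord, hne, -, -⟩ := cert660
  have hXs : inStab [squareMask] maskZeroFive elt660 = true := by
    simp only [checkCent, Bool.and_eq_true] at hcent; exact hcent.1.1.1.2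
  have hX : validT elt660 = true := by
    simp only [inStab, Bool.and_eq_true] at hXs; exact validT_of_inM24 hXs.1.1
  haveI := Fact.mk (by norm_num : Nat.Prime 11)
  refine orderOf_eq_prime (Equiv.ext fun z => ?_) ?_
  · rw [powTbls, List.range_succ, List.map_append, List.map_singleton,
      List.getLast?_append] at hord
    simp only [List.getLast?_singleton, Option.some_or, Option.some.injEq] at hord
    rw [Equiv.Perm.one_apply]
    apply idx_injective
    rw [← pt_idx z, ← iterTbl_spec hX 11 (idx_lt z), idx_pt _ (idx_lt z)]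
    have h1 : app (mkTbl 24 fun i => iterTbl elt660 11 i) (idx z) = app idTbl (idx z) := by
      rw [hord]
    rw [app_mkTbl (f := fun i => iterTbl elt660 11 i) (idx_lt z)
      (fun j hj => by rw [iterTbl_spec hX 11 hj]; exact (idx_lt _).trans (by norm_num)),
      idTbl, app_mkTbl (f := id) (idx_lt z) (fun j hj => Nat.lt_trans hj (by norm_num))] at h1
    exact h1
  · intro h
    have : tblEq elt660 idTbl = true := by
      rw [tblEq, List.all_eq_true]
      intro i hi
      rw [List.mem_range] at hi
      have h2 := mkPerm_pt hX hi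
      rw [h, Equiv.Perm.one_apply] at h2
      rw [beq_iff_eq, ← idx_pt _ ((validT_bijective hX).2 i hi), ← h2, idx_pt i hi, idTbl,
        app_mkTbl (f := id) hi (fun j hj => Nat.lt_trans hj (by norm_num))]
      rfl
    rw [this] at hne
    exact Bool.noConfusion hne

theorem isSimpleGroup_stab660 : IsSimpleGroup ↥(stabGrp [squareMask] maskZeroFive) := by
  obtain ⟨hlow, hin, -, -, -, -, hhead, hcell, hr, hcent, -, -, h11, -⟩ := cert660
  obtain ⟨l, hl, hlv⟩ := Option.map_eq_some_iff.1 hhead
  simp only [Prod.mk.injEq] at hlv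
  obtain ⟨hb, hm⟩ := hlv
  have hll : l ∈ levels660 := List.mem_of_head? hl
  have hts : ∀ t ∈ l.2, inStab [squareMask] maskZeroFive t = true :=
    fun t ht => List.all_eq_true.1 (List.all_eq_true.1 hin l hll) t ht
  have horb := orbit_eq_of_check (by omega : l.1 < 24) hts (by rw [hm, hb, hcell])
    (le_refl (stabGrp [squareMask] maskZeroFive)) fun t ht => mem_stabGrp_of_inStab (hts t ht)
  have hcard : Nat.card ↥(MulAction.orbit ↥(stabGrp [squareMask] maskZeroFive) (pt l.1)) = 11 := by
    rw [Nat.card_coe_set_eq, horb, Set.ncard_coe_finset, card_ptSet, hm, h11]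
  haveI := faithful_orbit horb (by rw [hm]; exact hr)
  haveI : MulAction.IsPreprimitive ↥(stabGrp [squareMask] maskZeroFive)
      ↥(MulAction.orbit ↥(stabGrp [squareMask] maskZeroFive) (pt l.1)) :=
    MulAction.IsPreprimitive.of_prime_card (hcard.symm ▸ by norm_num)
  haveI := Fact.mk (by norm_num : Nat.Prime 11)
  have hXs : inStab [squareMask] maskZeroFive elt660 = true := by
    simp only [checkCent, Bool.and_eq_true] at hcent; exact hcent.1.1.1.2
  set x : ↥(stabGrp [squareMask] maskZeroFive) := ⟨mkPerm elt660, mem_stabGrp_of_inStab hXs⟩ with hx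
  have hxo : orderOf x = 11 := by
    rw [← Subgroup.orderOf_coe]
    exact mkPerm_order_eleven
  haveI : Nontrivial ↥(stabGrp [squareMask] maskZeroFive) :=
    ⟨x, 1, fun h => by rw [h, orderOf_one] at hxo; omega⟩
  haveI : Nonempty ↥(MulAction.orbit ↥(stabGrp [squareMask] maskZeroFive) (pt l.1)) :=
    ⟨⟨pt l.1, MulAction.mem_orbit_self _⟩⟩
  refine isSimpleGroup_of_perfect_sylow
    (α := ↥(MulAction.orbit ↥(stabGrp [squareMask] maskZeroFive) (pt l.1)))
    (p := 11) (hcard.symm ▸ dvd_refl 11) (by rw [card_stab660]; norm_num) hxo ?_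
    commutator_stab660
  intro g hg
  rw [Subgroup.mem_centralizer_iff] at hg
  have hcom : (g : Equiv.Perm GolayPt) * mkPerm elt660 = mkPerm elt660 * g :=
    (congrArg Subtype.val (hg x rfl)).symm
  obtain ⟨n, hn⟩ := centralizer_le_of_check hcent g.2 hcom
  exact ⟨n, Subtype.ext (by rw [Subgroup.coe_zpow]; exact hn)⟩

theorem stab660_iso :
    Nonempty (↥(stabGrp [squareMask] maskZeroFive) ≃*
      Matrix.ProjectiveSpecialLinearGroup (Fin 2) (ZMod 11)) := by
  haveI := Fact.mk (by norm_num : Nat.Prime 11)
  haveI := isSimpleGroup_stab660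
  exact H30.PSLPrime.iso_psl (p := 11) (Or.inr (Or.inl rfl)) (by rw [card_stab660]; norm_num) (ZMod.card 11)

end Cfsg.Agent.H44
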