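import Cfsg.Agent.H44.M11Point

/-!
The stabiliser of a dodecad, a point of it and a pair outside is the symmetric group of degree 5.
-/

set_option autoImplicit false

namespace Cfsg.Agent.H44

open Cfsg Cfsg.Agent.Golay
open scoped Pointwise

/-- The pair `{5, 7}`. -/
def pairMask : ℕ := 2 ^ 5 ||| 2 ^ 7

/-- The stabiliser of the base configuration. -/
def stab120 : Subgroup (Equiv.Perm GolayPt) := stabGrp [squareMask, pairMask] maskZero

lemma cert120 :
    checkLower maskZero levels120 = true ∧
    (levels120.all fun l => l.2.all (inStab [squareMask, pairMask] maskZero)) = true ∧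
    (levels120.all fun l => l.2.all fun t => tblImg t fiveMask == fiveMask) = true ∧
    chainCard levels120 = 120 ∧ isTrivialStab [squareMask, pairMask] (maskZero ||| fiveMask) = true ∧
    popCnt fiveMask = 5 ∧ popCnt coMask = 12 := by
  decide +kernel

lemma mem_stab120 {σ : Equiv.Perm GolayPt} :
    σ ∈ stab120 ↔ σ ∈ baseEleven ∧ σ • ptSet pairMask = ptSet pairMask := by
  constructor
  · intro h
    exact ⟨⟨h.1, fun e he => h.2.1 e (List.mem_cons.2 (Or.inl (List.mem_singleton.1 he))), h.2.2⟩,
      h.2.1 pairMask (List.mem_cons.2 (Or.inr (List.mem_singleton.2 rfl)))⟩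
  · rintro ⟨h, h'⟩
    refine ⟨h.1, fun e he => ?_, h.2.2⟩
    rcases List.mem_cons.1 he with rfl | he
    · exact h.2.1 squareMask (List.mem_singleton.2 rfl)
    · rw [List.mem_singleton.1 he]; exact h'

lemma card_stab120 : Nat.card stab120 = 120 := by
  have hK : stab120 = baseEleven ⊓ MulAction.stabilizer (Equiv.Perm GolayPt) (ptSet pairMask) := by
    ext σ
    rw [mem_stab120, Subgroup.mem_inf, MulAction.mem_stabilizer_iff]
  have h := card_stabilizer_mul baseEleven _ (ptSet pairMask) hK
  have h57 : ptSet pairMask = {pt 5, pt 7} := by decide +kernel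
  have horb : MulAction.orbit baseEleven (ptSet pairMask)
      = (((ptSet coMask).powersetCard 2 : Finset (Finset GolayPt)) : Set (Finset GolayPt)) := by
    ext s
    rw [Finset.mem_coe, Finset.mem_powersetCard]
    constructor
    · rintro ⟨σ, rfl⟩
      show (σ : Equiv.Perm GolayPt) • ptSet pairMask ⊆ ptSet coMask ∧ _
      refine ⟨fun z hz => ?_, ?_⟩
      · obtain ⟨w, hw, rfl⟩ := Finset.mem_smul_finset.1 hz
        rw [h57, Finset.mem_insert, Finset.mem_singleton] at hw
        refine baseEleven_coMask σ.2 ?_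
        rcases hw with rfl | rfl
        exacts [pt_five_seven.1, pt_five_seven.2.1]
      · show ((σ : Equiv.Perm GolayPt) • ptSet pairMask).card = 2
        rw [Finset.card_smul_finset, h57, Finset.card_pair pt_five_seven.2.2]
    · rintro ⟨hs, h2⟩
      obtain ⟨a, b, hab, rfl⟩ := Finset.card_eq_two.1 h2
      obtain ⟨σ, hσ, h5, h7⟩ := exists_map_two (hs (by simp)) (hs (by simp)) hab
      refine ⟨⟨σ, hσ⟩, ?_⟩
      show σ • ptSet pairMask = {a, b}
      rw [h57, Finset.smul_finset_insert, Finset.smul_finset_singleton, Equiv.Perm.smul_def,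
        Equiv.Perm.smul_def, h5, h7]
  rw [horb, Set.ncard_coe_finset, Finset.card_powersetCard, card_ptSet, cert120.2.2.2.2.2.2,
    card_baseEleven, show Nat.choose 12 2 = 66 by decide] at h
  omega

lemma stab120_five {σ : Equiv.Perm GolayPt} (hσ : σ ∈ stab120) :
    σ • ptSet fiveMask = ptSet fiveMask := by
  obtain ⟨c1, c2, c3, c4, -⟩ := cert120
  rw [stab120, ← closure_tables_eq c1 c2 (by rw [← stab120, card_stab120, c4])] at hσ
  refine ((Subgroup.closure_le (MulAction.stabilizer (Equiv.Perm GolayPt) (ptSet fiveMask))).2 ?_) hσ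
  rintro _ ⟨l, hl, t, ht, rfl⟩
  have hi := List.all_eq_true.1 (List.all_eq_true.1 c2 l hl) t ht
  have hv : validT t = true := by
    simp only [inStab, Bool.and_eq_true] at hi; exact validT_of_inM24 hi.1.1
  show mkPerm t • ptSet fiveMask = ptSet fiveMask
  rw [← ptSet_tblImg hv, eq_of_beq (List.all_eq_true.1 (List.all_eq_true.1 c3 l hl) t ht)]

lemma stab120_five_iff {σ : Equiv.Perm GolayPt} (hσ : σ ∈ stab120) (z : GolayPt) :
    σ z ∈ ptSet fiveMask ↔ z ∈ ptSet fiveMask := by
  have h := apply_mem_smul_iff σ (p := z) (s := ptSet fiveMask)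
  rwa [stab120_five hσ] at h

/-- The action on the five points. -/
def fiveHom : stab120 →* Equiv.Perm {z // z ∈ ptSet fiveMask} where
  toFun σ := (σ : Equiv.Perm GolayPt).subtypePerm (stab120_five_iff σ.2)
  map_one' := Equiv.ext fun _ => Subtype.ext rfl
  map_mul' _ _ := Equiv.ext fun _ => Subtype.ext rfl

theorem stab120_iso : Nonempty (stab120 ≃* Equiv.Perm (Fin 5)) := by
  obtain ⟨-, -, -, -, hr, h5, -⟩ := cert120
  have hinj : Function.Injective fiveHom := by
    intro σ τ h
    have hm := mul_mem (inv_mem τ.2) σ.2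
    have hk : (τ : Equiv.Perm GolayPt)⁻¹ * σ ∈
        stabGrp [squareMask, pairMask] (maskZero ||| fiveMask) := by
      refine ⟨hm.1, hm.2.1, fun z hz => ?_⟩
      rw [ptSet_or, Finset.mem_union] at hz
      rcases hz with hz | hz
      · exact hm.2.2 z hz
      · have h1 : (σ : Equiv.Perm GolayPt) z = (τ : Equiv.Perm GolayPt) z :=
          congrArg Subtype.val (Equiv.congr_fun h ⟨z, hz⟩)
        rw [Equiv.Perm.mul_apply, h1, Equiv.Perm.coe_inv, Equiv.symm_apply_apply]
    rw [stabGrp_eq_bot' hr, Subgroup.mem_bot, inv_mul_eq_one] at hk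
    exact Subtype.ext hk.symm
  have hc : Fintype.card {z // z ∈ ptSet fiveMask} = 5 := by
    rw [Fintype.card_coe, card_ptSet, h5]
  have hbij : Function.Bijective fiveHom := by
    refine (Nat.bijective_iff_injective_and_card fiveHom).2 ⟨hinj, ?_⟩
    rw [card_stab120, Nat.card_perm, Nat.card_eq_fintype_card, hc]
    rfl
  exact ⟨(MulEquiv.ofBijective fiveHom hbij).trans (Fintype.equivFinOfCardEq hc).permCongrHom⟩

end Cfsg.Agent.H44
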