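import Mathlib

set_option autoImplicit false

/-! Generated orbit trees for stabilisers in the group of the code. -/

namespace Cfsg.Agent.H44

def outOrbGens : List ℕ :=
  [630264916018297267747726081680246816, 849887890532701421127722391426172960]

def outOrbTrees : List (ℕ × ℕ × List (ℕ × ℕ × ℕ)) :=
  [(0, 32, [(8388608, 32, 0), (131072, 32, 1), (32768, 8388608, 0), (1048576, 8388608, 1),
  (524288, 131072, 1), (4194304, 32768, 0), (128, 32768, 1), (2048, 1048576, 1), (1024, 524288,
  1), (16384, 4194304, 1), (2097152, 128, 0)])]

end Cfsg.Agent.H44
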