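import Cfsg.Agent.H44.OrbitTree
import Cfsg.Agent.H44.M12PointData
import Cfsg.Agent.Golay.Trans

/-!
The stabiliser of a dodecad and three of its points.
-/

set_option autoImplicit false

namespace Cfsg.Agent.H44

open Cfsg Cfsg.Agent.Golay
open scoped Pointwise

/-- Three points of the base dodecad. -/
def maskThree : ℕ := 0 ||| 2 ^ 0 ||| 2 ^ 1 ||| 2 ^ 2

/-- Singletons outside the base dodecad. -/
def outList : List ℕ := ((List.range 24).filter fun i => !squareMask.testBit i).map fun i => 2 ^ i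

lemma three_cert :
    checkTrans [squareMask] 0 squareMask (m12Chain.take 3) = true ∧
    (m12Chain.take 3).map (fun l => l.1) = [0, 1, 2] ∧
    checkChain [squareMask] maskThree (m12Chain.drop 3) = true ∧
    chainCard (m12Chain.drop 3) = 72 ∧
    checkClasses [squareMask] maskThree outOrbGens (fun _ => 0) outList outOrbTrees = true := by
  decide +kernel

lemma mem_stab_three {σ : Equiv.Perm GolayPt} :
    σ ∈ stabGrp [squareMask] maskThree ↔
      σ ∈ M24 ∧ σ • ptSet squareMask = ptSet squareMask ∧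
        σ (pt 0) = pt 0 ∧ σ (pt 1) = pt 1 ∧ σ (pt 2) = pt 2 := by
  rw [maskThree, stabGrp_or _ _ (by norm_num : (2 : ℕ) < 24),
    stabGrp_or _ _ (by norm_num : (1 : ℕ) < 24), stabGrp_or _ _ (by norm_num : (0 : ℕ) < 24)]
  simp [Subgroup.mem_inf, mem_stabGrp, MulAction.mem_stabilizer_iff, ptSet_zero, and_assoc]

theorem exists_base_three {d : Finset GolayPt} (hd : d ∈ dodecads) {p q r : GolayPt} (hp : p ∈ d)
    (hq : q ∈ d) (hr : r ∈ d) (hpq : p ≠ q) (hpr : p ≠ r) (hqr : q ≠ r) :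
    ∃ g ∈ M24, g • d = ptSet squareMask ∧ g p = pt 0 ∧ g q = pt 1 ∧ g r = pt 2 := by
  obtain ⟨g, hg⟩ := exists_M24_map_dodecad hd squareDodecad_mem
  rw [← ptSet_squareMask] at hg
  have hg' : (g : Equiv.Perm GolayPt) • d = ptSet squareMask := hg
  have hinv : ∀ σ ∈ stabGrp [squareMask] 0, ∀ z ∈ ptSet squareMask, σ z ∈ ptSet squareMask :=
    fun σ hσ z hz => hσ.2.1 squareMask (by simp) ▸ (apply_mem_smul_iff σ).2 hz
  obtain ⟨σ, hσ, hmap⟩ := exists_map_of_checkTrans [squareMask] 0 squareMask _ three_cert.1 hinv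
    ([p, q, r].map (g : Equiv.Perm GolayPt))
    (by rw [List.length_map, ← List.length_map (f := fun l : ℕ × List ℕ => l.1), three_cert.2.1]
        rfl)
    (List.Nodup.map (Equiv.injective _) (by simp [hpq, hpr, hqr]))
    (by
      intro z hz
      obtain ⟨w, hw, rfl⟩ := List.mem_map.1 hz
      rw [← hg', apply_mem_smul_iff]
      simp only [List.mem_cons, List.not_mem_nil, or_false] at hw
      rcases hw with rfl | rfl | rfl <;> assumption)
  rw [show (List.take 3 m12Chain).map (fun l => σ (pt l.1))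
      = [0, 1, 2].map (fun i => σ (pt i)) by rw [← three_cert.2.1, List.map_map]; rfl] at hmap
  simp only [List.map_cons, List.map_nil, List.cons.injEq, and_true] at hmap
  obtain ⟨h0, h1, h2⟩ := hmap
  refine ⟨σ⁻¹ * (g : Equiv.Perm GolayPt), mul_mem (inv_mem hσ.1) g.2, ?_, ?_, ?_, ?_⟩
  · rw [mul_smul, hg', inv_smul_eq_iff, hσ.2.1 squareMask (by simp)]
  all_goals rw [Equiv.Perm.mul_apply]
  · rw [← h0, ← Equiv.Perm.mul_apply, inv_mul_cancel]; rfl
  · rw [← h1, ← Equiv.Perm.mul_apply, inv_mul_cancel]; rfl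
  · rw [← h2, ← Equiv.Perm.mul_apply, inv_mul_cancel]; rfl

lemma mem_outList {s : Finset GolayPt} {z : GolayPt} (hs : s = {z})
    (hz : z ∉ ptSet squareMask) : maskOf s ∈ outList := by
  subst hs
  rw [mem_ptSet] at hz
  refine List.mem_map.2 ⟨idx z, List.mem_filter.2 ⟨List.mem_range.2 (idx_lt z), by simpa using hz⟩,
    ptSet_injOn (two_pow_idx_lt z) (maskOf_lt _) ?_⟩
  rw [ptSet_maskOf, ptSet_two_pow (idx_lt z), pt_idx]

end Cfsg.Agent.H44
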