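import Cfsg.Agent.H44.OrbitTree
import Cfsg.Agent.H44.M23DodData

/-!
Orbits of a point stabiliser in the group of the code on dodecads.
-/

set_option autoImplicit false
set_option Elab.async false

namespace Cfsg.Agent.H44

open Cfsg Cfsg.Agent.Golay
open scoped Pointwise

/-- The fixed point 23. -/
def maskDth : ℕ := 0 ||| 2 ^ 23

def dthList : List ℕ := (wordList 12).filter fun m => m.testBit 23

def dthRoot : ℕ := 8419127

/-- Membership in a list, cheap for the kernel. -/
noncomputable def dthMem (x : ℕ) (l : List ℕ) : Bool :=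
  List.rec (motive := fun _ => Bool) false (fun a _ ih => cond (Nat.beq x a) true ih) l

lemma dth_natBeq_eq (a b : ℕ) : Nat.beq a b = (a == b) := by
  cases h : Nat.beq a b
  · exact (beq_false_of_ne (Nat.ne_of_beq_eq_false h)).symm
  · rw [Nat.eq_of_beq_eq_true h, beq_self_eq_true]

lemma dthMem_eq (x : ℕ) (l : List ℕ) : dthMem x l = l.contains x := by
  induction l with
  | nil => rfl
  | cons a l ih =>
    show cond (Nat.beq x a) true (dthMem x l) = _
    rw [List.contains_cons, ih]
    rw [← dth_natBeq_eq]
    cases Nat.beq x a <;> rfl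

/-- `checkSteps` with cheap membership. -/
noncomputable def dthSteps (gens : List ℕ) (L : List (ℕ × ℕ × ℕ)) : List ℕ → Bool :=
  List.rec (motive := fun _ => List ℕ → Bool) (fun _ => true)
    (fun s _ ih known => Nat.ble (s.2.2 + 1) gens.length && dthMem s.2.1 known &&
      Nat.beq (tblImg (gens.getD s.2.2 0) s.2.1) s.1 && ih (s.1 :: known)) L

lemma checkSteps_of_dthSteps (gens : List ℕ) : ∀ (L : List (ℕ × ℕ × ℕ)) (known : List ℕ),
    dthSteps gens L known = true → checkSteps gens known L = true
  | [], _, _ => rfl
  | (c, p, i) :: rest, known, h => by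
    change (Nat.ble (i + 1) gens.length && dthMem p known && Nat.beq (tblImg (gens.getD i 0) p) c &&
      dthSteps gens rest (c :: known)) = true at h
    simp only [Bool.and_eq_true, dthMem_eq] at h
    simp only [checkSteps, Bool.and_eq_true, decide_eq_true_eq, beq_iff_eq]
    exact ⟨⟨⟨Nat.le_of_ble_eq_true h.1.1.1, h.1.1.2⟩, Nat.eq_of_beq_eq_true h.1.2⟩,
      checkSteps_of_dthSteps gens rest _ h.2⟩

lemma dth_checkClasses_of_parts {E : List ℕ} {F : ℕ} {gens : List ℕ} {key : ℕ → ℕ} {targets : List ℕ}
    {cls : List (ℕ × ℕ × List (ℕ × ℕ × ℕ))} (h1 : gens.all (inStab E F) = true)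
    (h2 : targets.all (fun m => dthMem (key m) (cls.map fun c => c.1)) = true)
    (h3 : cls.all (fun c => dthSteps gens c.2.2 [c.2.1]) = true)
    (h4 : cls.all (fun c => (targets.filter fun m => Nat.beq (key m) c.1).all fun m =>
      dthMem m (c.2.1 :: c.2.2.map fun s => s.1)) = true) :
    checkClasses E F gens key targets cls = true := by
  have e : ∀ c : ℕ × ℕ × List (ℕ × ℕ × ℕ), (targets.filter fun m => key m == c.1) =
      targets.filter fun m => Nat.beq (key m) c.1 := fun c =>
    List.filter_congr fun m _ => (dth_natBeq_eq _ _).symm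
  simp only [List.all_eq_true, dthMem_eq] at h2 h3 h4
  simp only [checkClasses, Bool.and_eq_true, List.all_eq_true, h1, true_and, e]
  exact ⟨h2, fun c hc => ⟨checkSteps_of_dthSteps _ _ _ (h3 c hc), h4 c hc⟩⟩

lemma dth_gens : dthTransGens.all (inStab [] maskDth) = true := by decide +kernel

lemma dth_keys : dthList.all (fun _ => dthMem 0 (dthTransTrees.map fun c => c.1)) = true := by
  decide +kernel

lemma dth_steps : dthTransTrees.all (fun c => dthSteps dthTransGens c.2.2 [c.2.1]) = true := by
  decide +kernel

lemma dth_cover : dthTransTrees.all (fun c => (dthList.filter fun _ => Nat.beq 0 c.1).all fun m =>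
    dthMem m (c.2.1 :: c.2.2.map fun s => s.1)) = true := by
  decide +kernel

lemma dth_root : dthList.contains dthRoot = true := by decide +kernel

lemma dth_cert : checkClasses [] maskDth dthTransGens (fun _ => 0) dthList dthTransTrees = true ∧
    dthList.contains dthRoot = true :=
  ⟨dth_checkClasses_of_parts dth_gens dth_keys dth_steps dth_cover, dth_root⟩

lemma dth_orb_gens : dthOrbGens.all (inStab [dthRoot] maskDth) = true := by decide +kernel

lemma dth_orb_keys :
    dthList.all (fun m => dthMem (popCnt (m &&& dthRoot)) (dthOrbTrees.map fun c => c.1)) = true := by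
  decide +kernel

lemma dth_orb_steps : dthOrbTrees.all (fun c => dthSteps dthOrbGens c.2.2 [c.2.1]) = true := by
  decide +kernel

lemma dth_orb_cover : dthOrbTrees.all (fun c =>
    (dthList.filter fun m => Nat.beq (popCnt (m &&& dthRoot)) c.1).all fun m =>
      dthMem m (c.2.1 :: c.2.2.map fun s => s.1)) = true := by
  decide +kernel

lemma dth_count_four : (dthList.filter fun m => popCnt (m &&& dthRoot) == 4).length = 165 := by
  decide +kernel

lemma dth_count_eight : (dthList.filter fun m => popCnt (m &&& dthRoot) == 8).length = 330 := by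
  decide +kernel

lemma dth_count_six : (dthList.filter fun m => popCnt (m &&& dthRoot) == 6).length = 792 := by
  decide +kernel

lemma dth_orb_cert :
    checkClasses [dthRoot] maskDth dthOrbGens (fun m => popCnt (m &&& dthRoot)) dthList
      dthOrbTrees = true ∧
    (dthList.filter fun m => popCnt (m &&& dthRoot) == 4).length = 165 ∧
    (dthList.filter fun m => popCnt (m &&& dthRoot) == 8).length = 330 ∧
    (dthList.filter fun m => popCnt (m &&& dthRoot) == 6).length = 792 :=
  ⟨dth_checkClasses_of_parts dth_orb_gens dth_orb_keys dth_orb_steps dth_orb_cover,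
    dth_count_four, dth_count_eight, dth_count_six⟩

lemma stab_maskDth {E : List ℕ} {σ : Equiv.Perm GolayPt} (hσ : σ ∈ stabGrp E maskDth) :
    σ (pt 23) = pt 23 :=
  stabGrp_fix hσ (by norm_num) (by decide)

lemma mem_dthList {s : Finset GolayPt} : maskOf s ∈ dthList ↔ s ∈ dodecads ∧ pt 23 ∈ s := by
  simp [dthList, List.mem_filter, dodecads, mem_wordsOfWeight_iff, pt_mem_iff]

end Cfsg.Agent.H44
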