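import Cfsg.Agent.H44.OddIndex

/-!
Large subgroups of odd index of the stabiliser of a point in the group of the code.
-/

set_option autoImplicit false

namespace Cfsg.Agent.H44

open Cfsg Cfsg.Agent.Golay
open scoped Pointwise

attribute [local irreducible] thrList baseOctad maskOne sixteenLevels

lemma base_fix {σ : Equiv.Perm GolayPt} (hσ : σ ∈ stabGrp [] maskOne) : σ (pt 23) = pt 23 :=
  stab_maskOne hσ

lemma mem_base_iff {σ : Equiv.Perm GolayPt} :
    σ ∈ stabGrp [] maskOne ↔ σ ∈ M24 ∧ σ (pt 23) = pt 23 := by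
  refine ⟨fun h => ⟨h.1, base_fix h⟩, fun ⟨h1, h2⟩ => ⟨h1, by simp, fun p hp => ?_⟩⟩
  have : p = pt 23 := by
    have e : ptSet maskOne = {pt 23} := by unfold maskOne; decide +kernel
    rwa [e, Finset.mem_singleton] at hp
  rw [this, h2]

/-- The invariant set cut out by a subgroup of the point stabiliser containing `sixteen`: it
lies in the heptad, and its size and the order constrain each other. -/
theorem exists_small_invariant {K : Subgroup (Equiv.Perm GolayPt)}
    (hK : K ≤ stabGrp [] maskOne) (hV : sixteen ≤ K) :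
    ∃ T : Finset GolayPt, T ⊆ baseOctad ∧ pt 23 ∉ T ∧ (∀ σ ∈ K, ∀ p ∈ T, σ p ∈ T) ∧
      (23 - T.card) ∣ Nat.card K ∧ T.card ≤ 7 ∧
      (T.card = 2 → Nat.card K ≤ 40320) ∧ (T.card = 3 → Nat.card K ≤ 5760) ∧
      (T.card = 5 → Nat.card K ≤ 5760) ∧ (T.card = 7 → insert (pt 23) T = baseOctad) := by
  obtain ⟨T, hT, hinv, -, hdvd, hfix⟩ := exists_invariant_rest hV
  have h23 : pt 23 ∈ T := hfix _ pt23_mem_baseOctad fun σ hσ => base_fix (hK hσ)
  have hinv' : ∀ σ ∈ K, ∀ p ∈ T.erase (pt 23), σ p ∈ T.erase (pt 23) := by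
    intro σ hσ p hp
    rw [Finset.mem_erase] at hp ⊢
    refine ⟨fun h => hp.1 (σ.injective ?_), hinv σ hσ p hp.2⟩
    rw [h, base_fix (hK hσ)]
  have hcard : (T.erase (pt 23)).card + 1 = T.card := Finset.card_erase_add_one h23
  have hle : T.card ≤ 8 := card_baseOctad ▸ Finset.card_le_card hT
  have hdisj : Disjoint ({pt 23} : Finset GolayPt) (T.erase (pt 23)) :=
    Finset.disjoint_singleton_left.2 (Finset.notMem_erase _ _)
  have hF : ∀ σ ∈ K, ∀ p ∈ ({pt 23} : Finset GolayPt), σ p = p := fun σ hσ p hp => by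
    rw [Finset.mem_singleton.1 hp]; exact base_fix (hK hσ)
  have hbound : ∀ k, k ≤ (T.erase (pt 23)).card → k ≤ 4 →
      Nat.card K ≤ (T.erase (pt 23)).card.descFactorial k * pwCard (1 + k) := fun k hk hk4 =>
    card_le_of_invariant k K (hK.trans (stabGrp_le_M24 _ _)) _ _ hdisj
      (by rw [Finset.card_singleton]; omega) hk hF hinv'
  refine ⟨T.erase (pt 23), (Finset.erase_subset _ _).trans hT, Finset.notMem_erase _ _, hinv',
    ?_, by omega, fun h => ?_, fun h => ?_, fun h => ?_, fun h => ?_⟩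
  · rwa [show 23 - (T.erase (pt 23)).card = 24 - T.card by omega]
  · exact (hbound 2 (by omega) (by norm_num)).trans (by rw [h]; decide)
  · exact (hbound 3 (by omega) (by norm_num)).trans (by rw [h]; decide)
  · exact (hbound 4 (by omega) (by norm_num)).trans (by rw [h]; decide)
  · rw [Finset.insert_erase h23]
    exact Finset.eq_of_subset_of_card_le hT (by rw [card_baseOctad]; omega)

lemma size_cases : ∀ t ≤ 7, (23 - t) ∣ 40320 → t = 2 ∨ t = 3 ∨ t = 5 ∨ t = 7 := by decide

/-- Subgroups of order 40320 containing `sixteen` are duad or heptad stabilisers. -/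
theorem classify_forty {K : Subgroup (Equiv.Perm GolayPt)} (hK : K ≤ stabGrp [] maskOne)
    (hV : sixteen ≤ K) (hcard : Nat.card K = 40320) :
    (∃ s : Finset GolayPt, s.card = 2 ∧ pt 23 ∉ s ∧
      ∀ σ, σ ∈ K ↔ σ ∈ stabGrp [] maskOne ∧ σ • s = s) ∨
    (∀ σ, σ ∈ K ↔ σ ∈ stabGrp [] maskOne ∧ σ • baseOctad = baseOctad) := by
  obtain ⟨T, -, h23, hinv, hdvd, hle, hb2, hb3, hb5, h7⟩ := exists_small_invariant hK hV
  rw [hcard] at hdvd
  have hsmul : ∀ σ ∈ K, σ • T = T := fun σ hσ => smul_eq_self_of_invariant (hinv σ hσ)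
  rcases size_cases _ hle hdvd with h | h | h | h
  · refine Or.inl ⟨T, h, h23, fun σ => ⟨fun hσ => ⟨hK hσ, hsmul σ hσ⟩, ?_⟩⟩
    set D := stabGrp [] maskOne ⊓ MulAction.stabilizer (Equiv.Perm GolayPt) T
    have hKD : K ≤ D := fun σ hσ => ⟨hK hσ, hsmul σ hσ⟩
    have hD : Nat.card D ≤ 40320 := by
      refine (card_le_of_invariant 2 D (inf_le_left.trans (stabGrp_le_M24 _ _))
        ({pt 23} : Finset GolayPt) T (Finset.disjoint_singleton_left.2 h23)
        (by rw [Finset.card_singleton]; norm_num) h.ge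
        (fun σ hσ p hp => by rw [Finset.mem_singleton.1 hp]; exact base_fix hσ.1)
        (fun σ hσ p hp => ?_)).trans (by rw [h, Finset.card_singleton]; decide)
      have e : σ • T = T := hσ.2
      rw [← e, apply_mem_smul_iff]
      exact hp
    have heq := Subgroup.eq_of_le_of_card_ge hKD (hD.trans hcard.ge)
    rintro ⟨h1, h2⟩
    rw [heq]
    exact ⟨h1, h2⟩
  · exact absurd (hb3 h) (by rw [hcard]; norm_num)
  · exact absurd (hb5 h) (by rw [hcard]; norm_num)
  · refine Or.inr fun σ => ⟨fun hσ => ⟨hK hσ, ?_⟩, ?_⟩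
    · rw [← h7 h, Finset.smul_finset_insert, hsmul σ hσ, Equiv.Perm.smul_def, base_fix (hK hσ)]
    · have hKD : K ≤ stabGrp [] maskOne ⊓ MulAction.stabilizer (Equiv.Perm GolayPt) baseOctad := by
        intro τ hτ
        refine ⟨hK hτ, ?_⟩
        show τ • baseOctad = baseOctad
        rw [← h7 h, Finset.smul_finset_insert, hsmul τ hτ, Equiv.Perm.smul_def, base_fix (hK hτ)]
      have heq := Subgroup.eq_of_le_of_card_ge hKD (card_heptadStab.le.trans hcard.ge)
      rintro ⟨h1, h2⟩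
      rw [heq]
      exact ⟨h1, h2⟩

end Cfsg.Agent.H44
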