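import Cfsg.Agent.H44.OrbitTree
import Cfsg.Agent.H44.M23Data

/-!
Orbits of a point stabiliser in the group of the code on octads.
-/

set_option autoImplicit false

namespace Cfsg.Agent.H44

open Cfsg Cfsg.Agent.Golay
open scoped Pointwise

/-- The fixed point 23. -/
def maskOne : ℕ := 0 ||| 2 ^ 23

def thrList : List ℕ := octadList.filter fun m => m.testBit 23

def avoList : List ℕ := octadList.filter fun m => !m.testBit 23

def thrRoot : ℕ := 8391797

def avoRoot : ℕ := 5279

lemma thr_cert : checkClasses [] maskOne thrTransGens (fun _ => 0) thrList thrTransTrees = true ∧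
    thrList.contains thrRoot = true := by
  decide +kernel

lemma thr_orb_cert :
    checkClasses [thrRoot] maskOne thrOrbGens (fun m => popCnt (m &&& thrRoot)) thrList
      thrOrbTrees = true ∧
    (thrList.filter fun m => popCnt (m &&& thrRoot) == 2).length = 112 ∧
    (thrList.filter fun m => popCnt (m &&& thrRoot) == 4).length = 140 := by
  decide +kernel

lemma avo_cert : checkClasses [] maskOne avoTransGens (fun _ => 0) avoList avoTransTrees = true ∧
    avoList.contains avoRoot = true := by
  decide +kernel

lemma avo_orb_cert :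
    checkClasses [avoRoot] maskOne avoOrbGens (fun m => popCnt (m &&& avoRoot)) avoList
      avoOrbTrees = true ∧
    (avoList.filter fun m => popCnt (m &&& avoRoot) == 0).length = 15 ∧
    (avoList.filter fun m => popCnt (m &&& avoRoot) == 4).length = 210 ∧
    (avoList.filter fun m => popCnt (m &&& avoRoot) == 2).length = 280 := by
  decide +kernel

lemma stab_maskOne {E : List ℕ} {σ : Equiv.Perm GolayPt} (hσ : σ ∈ stabGrp E maskOne) :
    σ (pt 23) = pt 23 :=
  stabGrp_fix hσ (by norm_num) (by decide)

lemma mem_thrList {s : Finset GolayPt} : maskOf s ∈ thrList ↔ s ∈ octads ∧ pt 23 ∈ s := by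
  simp [thrList, List.mem_filter, mem_octads_iff, pt_mem_iff]

lemma mem_avoList {s : Finset GolayPt} : maskOf s ∈ avoList ↔ s ∈ octads ∧ pt 23 ∉ s := by
  simp [avoList, List.mem_filter, mem_octads_iff, pt_mem_iff]

end Cfsg.Agent.H44
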