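import Cfsg.Agent.H44.OrbitTree

/-!
Equivariant block maps of a transitive subgroup.
-/

set_option autoImplicit false

namespace Cfsg.Agent.H44

open Cfsg Cfsg.Agent.Golay
open scoped Pointwise

/-- An equivariant map from points to sets extending an invariant set of one point. -/
theorem exists_blk {H : Subgroup (Equiv.Perm GolayPt)} {x : GolayPt} (B₀ : Finset GolayPt)
    (htrans : ∀ y, ∃ h ∈ H, h x = y) (hinv : ∀ h ∈ H, h x = x → h • B₀ = B₀) :
    ∃ blk : GolayPt → Finset GolayPt, blk x = B₀ ∧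
      (∀ h ∈ H, ∀ y, blk (h y) = h • blk y) ∧ ∀ y, (blk y).card = B₀.card := by
  choose f hfH hfx using htrans
  have hwd : ∀ h ∈ H, f (h x) • B₀ = h • B₀ := by
    intro h hh
    have hfix : (h⁻¹ * f (h x)) x = x := by
      rw [Equiv.Perm.mul_apply, hfx, Equiv.Perm.coe_inv, Equiv.symm_apply_apply]
    have e := hinv _ (H.mul_mem (H.inv_mem hh) (hfH _)) hfix
    rwa [mul_smul, inv_smul_eq_iff] at e
  refine ⟨fun y => f y • B₀, ?_, fun h hh y => ?_, fun y => Finset.card_smul_finset _ _⟩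
  · have e := hwd 1 H.one_mem
    rwa [one_smul, Equiv.Perm.one_apply] at e
  · have e := hwd (h * f y) (H.mul_mem hh (hfH y))
    rw [Equiv.Perm.mul_apply, hfx, mul_smul] at e
    exact e

/-- If the base block is the block of each of its points, the blocks partition. -/
theorem blk_eq_of_mem {H : Subgroup (Equiv.Perm GolayPt)} {x : GolayPt}
    {blk : GolayPt → Finset GolayPt} (htrans : ∀ y, ∃ h ∈ H, h x = y)
    (hblk : ∀ h ∈ H, ∀ y, blk (h y) = h • blk y) (hx : x ∈ blk x)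
    (hbase : ∀ z ∈ blk x, blk z = blk x) :
    (∀ y, y ∈ blk y) ∧ ∀ y, ∀ z ∈ blk y, blk z = blk y := by
  refine ⟨fun y => ?_, fun y z hz => ?_⟩
  · obtain ⟨h, hh, rfl⟩ := htrans y
    rw [hblk h hh]
    exact Finset.smul_mem_smul_finset hx
  · obtain ⟨h, hh, rfl⟩ := htrans y
    rw [hblk h hh] at hz ⊢
    obtain ⟨w, hw, rfl⟩ := Finset.mem_smul_finset.1 hz
    rw [Equiv.Perm.smul_def, hblk h hh, hbase w hw]

/-- A set that is a union of blocks has size a multiple of the block size. -/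
theorem card_dvd_of_blocks {blk : GolayPt → Finset GolayPt} {S : Finset GolayPt} {m : ℕ}
    (hmem : ∀ y ∈ S, y ∈ blk y) (hsub : ∀ y ∈ S, blk y ⊆ S)
    (heq : ∀ y ∈ S, ∀ z ∈ blk y, blk z = blk y) (hcard : ∀ y ∈ S, (blk y).card = m) :
    S.card = (S.image blk).card * m := by
  rw [Finset.card_eq_sum_card_image blk S]
  refine Finset.sum_eq_card_nsmul ?_ |>.trans (smul_eq_mul _ _)
  intro B hB
  obtain ⟨y, hy, rfl⟩ := Finset.mem_image.1 hB
  rw [← hcard y hy]
  congr 1
  ext z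
  rw [Finset.mem_filter]
  exact ⟨fun h => h.2 ▸ hmem z h.1, fun h => ⟨hsub y hy h, heq y hy z h⟩⟩

end Cfsg.Agent.H44
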