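import Cfsg.Agent.H44.M23Index
import Cfsg.Agent.H44.PointBlocks
import Cfsg.Agent.H95.GolayJoint
import Cfsg.Agent.H94.M24.Sextet

/-!
Subgroups of the group of the code of index 759, 1771 and 253: those containing `sixteen` are
octad or sextet stabilisers.
-/

set_option autoImplicit false

namespace Cfsg.Agent.H44

open Cfsg Cfsg.Agent.Golay
open scoped Pointwise

attribute [local irreducible] thrList baseOctad sixteenLevels maskOne

lemma exists_orbit_rest {K : Subgroup (Equiv.Perm GolayPt)} (hV : sixteen ≤ K) :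
    ∃ T : Finset GolayPt, T ⊆ baseOctad ∧ (∀ σ ∈ K, ∀ p ∈ T, σ p ∈ T) ∧
      (24 - T.card) ∣ Nat.card K ∧ (T.card = 0 → ∀ y, ∃ h ∈ K, h (pt 23) = y) := by
  classical
  obtain ⟨c, hc⟩ : ∃ c, c ∉ baseOctad := by
    by_contra! h
    have := Finset.card_le_card (s := Finset.univ) fun x _ => h x
    rw [card_baseOctad, Finset.card_univ, show Fintype.card GolayPt = 24 from rfl] at this
    omega
  let O := MulAction.orbit K c
  let T : Finset GolayPt := Finset.univ.filter fun p => p ∉ O
  have hmem : ∀ p, p ∈ T ↔ p ∉ O := fun p => by simp [T]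
  refine ⟨T, fun p hp => ?_, fun σ hσ p hp => ?_, ?_, fun h y => ?_⟩
  · by_contra hcon
    obtain ⟨σ, hσ, h⟩ := orbit_sixteen hc hcon
    exact (hmem p).1 hp ⟨⟨σ, hV hσ⟩, h⟩
  · rw [hmem] at hp ⊢
    intro h
    apply hp
    have h2 := MulAction.mem_orbit_of_mem_orbit (⟨σ, hσ⟩ : K)⁻¹ h
    rwa [show ((⟨σ, hσ⟩ : K)⁻¹ • σ p : GolayPt) = p from Equiv.symm_apply_apply σ p] at h2
  · have hO : O.ncard = 24 - T.card := by
      have h : O.toFinset.card + T.card = 24 := by
        rw [show T = O.toFinsetᶜ by ext p; simp [hmem], Finset.card_add_card_compl]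
        rfl
      rw [Set.ncard_eq_toFinset_card']
      omega
    rw [← hO, ← MulAction.index_stabilizer]
    exact Subgroup.index_dvd_card _
  · have hall : ∀ p, ∃ h ∈ K, h c = p := fun p => by
      have : p ∉ T := by rw [Finset.card_eq_zero.1 h]; exact Finset.notMem_empty _
      rw [hmem, not_not] at this
      obtain ⟨⟨σ, hσ⟩, e⟩ := this
      exact ⟨σ, hσ, e⟩
    obtain ⟨σ, hσ, e⟩ := hall (pt 23)
    obtain ⟨τ, hτ, e'⟩ := hall y
    exact ⟨τ * σ⁻¹, mul_mem hτ (inv_mem hσ), by
      rw [Equiv.Perm.mul_apply, ← e, Equiv.Perm.coe_inv, Equiv.symm_apply_apply, e']⟩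

lemma orbit_cases : ∀ N ∈ [967680, 322560, 138240], ∀ t ≤ 8, (24 - t) ∣ N →
    t = 0 ∨ t = 3 ∨ t = 4 ∨ t = 6 ∨ t = 8 := by decide +kernel

/-- Either a subgroup is the octad stabiliser or it is transitive. -/
theorem octad_or_transitive {H : Subgroup (Equiv.Perm GolayPt)} (hH : H ≤ M24) (hV : sixteen ≤ H)
    (hN : Nat.card H ∈ [967680, 322560, 138240]) :
    (Nat.card H = 322560 ∧ ∀ σ, σ ∈ H ↔ σ ∈ M24 ∧ σ • baseOctad = baseOctad) ∨
      ∀ y, ∃ h ∈ H, h (pt 23) = y := by
  obtain ⟨T, hT, hinv, hdvd, htr⟩ := exists_orbit_rest hV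
  have hle : T.card ≤ 8 := card_baseOctad ▸ Finset.card_le_card hT
  have hbound : ∀ k, k ≤ T.card → k ≤ 5 → Nat.card H ≤ T.card.descFactorial k * pwCard k :=
    fun k hk hk5 => by
      have := card_le_of_invariant k H hH ∅ T (Finset.disjoint_empty_left _)
        (by rw [Finset.card_empty]; omega) hk (fun _ _ p hp => absurd hp (Finset.notMem_empty p))
        hinv
      rwa [Finset.card_empty, zero_add] at this
  have hcases : Nat.card H = 967680 ∨ Nat.card H = 322560 ∨ Nat.card H = 138240 := by simpa using hN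
  rcases orbit_cases _ hN _ hle hdvd with h | h | h | h | h
  · exact Or.inr (htr h)
  · have := (hbound 3 (by omega) (by norm_num)).trans
      (show T.card.descFactorial 3 * pwCard 3 ≤ 120960 by rw [h]; decide)
    omega
  · have := (hbound 4 (by omega) (by norm_num)).trans
      (show T.card.descFactorial 4 * pwCard 4 ≤ 23040 by rw [h]; decide)
    omega
  · have := (hbound 5 (by omega) (by norm_num)).trans
      (show T.card.descFactorial 5 * pwCard 5 ≤ 34560 by rw [h]; decide)
    omega
  · refine Or.inl ?_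
    have hTo : T = baseOctad := Finset.eq_of_subset_of_card_le hT (by rw [card_baseOctad]; omega)
    set D := M24 ⊓ MulAction.stabilizer (Equiv.Perm GolayPt) baseOctad with hD
    have hHD : H ≤ D := fun σ hσ => ⟨hH hσ, by
      show σ • baseOctad = baseOctad
      rw [← hTo]
      exact smul_eq_self_of_invariant (hinv σ hσ)⟩
    have hDc : Nat.card D = 322560 := by
      have h1 := card_stabilizer_mul M24 D baseOctad hD
      have horb : MulAction.orbit M24 baseOctad = octads := by
        ext x
        constructor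
        · rintro ⟨g, rfl⟩; exact smul_mem_octads g.2 baseOctad_mem
        · intro hx
          obtain ⟨g, hg⟩ := exists_M24_map_octad baseOctad_mem hx
          exact ⟨g, hg⟩
      rw [horb, ncard_octads, card_M24] at h1
      omega
    have hdD := Subgroup.card_dvd_of_le hHD
    rw [hDc] at hdD
    have hN' : Nat.card H = 322560 := by
      rcases hcases with e | e | e
      · rw [e] at hdD; norm_num at hdD
      · exact e
      · rw [e] at hdD; norm_num at hdD
    have heq := Subgroup.eq_of_le_of_card_ge hHD (by omega)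
    refine ⟨hN', fun σ => ⟨fun hσ => ⟨hH hσ, (hHD hσ).2⟩, fun hσ => ?_⟩⟩
    rw [heq]
    exact hσ

lemma inv_of_smul_eq {σ : Equiv.Perm GolayPt} {S : Finset GolayPt} (h : σ • S = S) :
    ∀ z ∈ S, σ z ∈ S := fun z hz => by
  have := Finset.smul_mem_smul_finset (a := σ) hz
  rwa [h] at this

/-- An element of prime order fixes every invariant set smaller than its order. -/
lemma subset_fixSet {σ : Equiv.Perm GolayPt} {p : ℕ} (hp : p.Prime) (ho : orderOf σ = p)
    {S : Finset GolayPt} (hS : σ • S = S) (hlt : S.card < p) : S ⊆ fixSet σ := by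
  have h := card_modEq_fixed hp ho S (inv_of_smul_eq hS)
  have hle : (S ∩ fixSet σ).card ≤ S.card := Finset.card_le_card Finset.inter_subset_left
  rw [Nat.mod_eq_of_lt hlt, Nat.mod_eq_of_lt (by omega)] at h
  exact Finset.inter_eq_left.1 (Finset.eq_of_subset_of_card_le Finset.inter_subset_left h.le)

/-- Setting of a transitive subgroup. -/
structure BlockData (H K : Subgroup (Equiv.Perm GolayPt)) (blk : GolayPt → Finset GolayPt)
    (B₀ : Finset GolayPt) : Prop where
  le : H ≤ M24
  six : sixteen ≤ H
  trans : ∀ y, ∃ h ∈ H, h (pt 23) = y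
  memK : ∀ σ, σ ∈ K ↔ σ ∈ H ∧ σ (pt 23) = pt 23
  base : blk (pt 23) = B₀
  equiv : ∀ h ∈ H, ∀ y, blk (h y) = h • blk y
  card : ∀ y, (blk y).card = B₀.card
  sub : B₀ ⊆ baseOctad
  mem : pt 23 ∈ B₀

namespace BlockData

variable {H K : Subgroup (Equiv.Perm GolayPt)} {blk : GolayPt → Finset GolayPt}
  {B₀ : Finset GolayPt} (d : BlockData H K blk B₀)
include d

lemma card_le : B₀.card ≤ 8 := card_baseOctad ▸ Finset.card_le_card d.sub

lemma self_mem (y : GolayPt) : y ∈ blk y := by
  obtain ⟨h, hh, rfl⟩ := d.trans y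
  rw [d.equiv h hh, d.base]
  exact Finset.smul_mem_smul_finset d.mem

lemma subset_octad {y : GolayPt} (hy : y ∈ baseOctad) : blk y ⊆ baseOctad := by
  intro z hz
  by_contra hz'
  have hall : baseOctadᶜ ⊆ blk y := by
    intro w hw
    obtain ⟨σ, hσ, rfl⟩ := orbit_sixteen hz' (Finset.mem_compl.1 hw)
    have hfix : σ y = y := by
      unfold baseOctad at hy
      exact hσ.2.2 y hy
    have := d.equiv σ (d.six hσ) y
    rw [hfix] at this
    rw [this]
    exact Finset.smul_mem_smul_finset hz
  have h1 := Finset.card_le_card hall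
  rw [Finset.card_compl, card_baseOctad, d.card] at h1
  have h2 := d.card_le
  have h3 : Fintype.card GolayPt = 24 := rfl
  omega

lemma smul_blk_of_fix {σ : Equiv.Perm GolayPt} (hσ : σ ∈ H) {y : GolayPt} (hy : σ y = y) :
    σ • blk y = blk y := by rw [← d.equiv σ hσ, hy]

lemma smul_base {σ : Equiv.Perm GolayPt} (hσ : σ ∈ K) : σ • B₀ = B₀ := by
  obtain ⟨h1, h2⟩ := (d.memK σ).1 hσ
  rw [← d.base, d.smul_blk_of_fix h1 h2]

/-- An element fixing exactly the base block makes the blocks a partition. -/
lemma partition_of_fix {σ : Equiv.Perm GolayPt} {p : ℕ} (hp : p.Prime) (ho : orderOf σ = p)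
    (hσ : σ ∈ K) (hlt : B₀.card < p) (hfix : (fixSet σ).card ≤ B₀.card) :
    ∀ y, ∀ z ∈ blk y, blk z = blk y := by
  have hB : fixSet σ = B₀ := (Finset.eq_of_subset_of_card_le
    (subset_fixSet hp ho (d.smul_base hσ) hlt) hfix).symm
  refine (blk_eq_of_mem d.trans d.equiv (d.self_mem _) fun z hz => ?_).2
  rw [d.base] at hz ⊢
  have hz' : σ z = z := mem_fixSet.1 (hB ▸ hz)
  have h := subset_fixSet hp ho (d.smul_blk_of_fix ((d.memK σ).1 hσ).1 hz') (by rw [d.card]; exact hlt)
  rw [hB] at h
  exact Finset.eq_of_subset_of_card_le h (by rw [d.card])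

lemma octad_count (hpart : ∀ y, ∀ z ∈ blk y, blk z = blk y) :
    8 = (baseOctad.image blk).card * B₀.card := by
  rw [← card_baseOctad]
  exact card_dvd_of_blocks (fun y _ => d.self_mem y) (fun y hy => d.subset_octad hy)
    (fun y _ => hpart y) fun y _ => d.card y

end BlockData

lemma exists_order_elt {K : Subgroup (Equiv.Perm GolayPt)} {p : ℕ} (hp : p.Prime)
    (h : p ∣ Nat.card K) : ∃ σ ∈ K, orderOf σ = p := by
  haveI := Fact.mk hp
  obtain ⟨x, hx⟩ := exists_prime_orderOf_dvd_card' p h
  exact ⟨x, x.2, by rw [Subgroup.orderOf_coe, hx]⟩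

/-- A transitive subgroup is a sextet stabiliser. -/
theorem transitive_sextet {H : Subgroup (Equiv.Perm GolayPt)} (hH : H ≤ M24) (hV : sixteen ≤ H)
    (hN : Nat.card H ∈ [967680, 322560, 138240]) (htr : ∀ y, ∃ h ∈ H, h (pt 23) = y) :
    Nat.card H = 138240 ∧
      ∃ S ∈ sextets, ∀ σ, σ ∈ H ↔ σ ∈ M24 ∧ σ • S = S := by
  classical
  have hcases : Nat.card H = 967680 ∨ Nat.card H = 322560 ∨ Nat.card H = 138240 := by simpa using hN
  set K := H ⊓ MulAction.stabilizer (Equiv.Perm GolayPt) (pt 23) with hKdef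
  have hKc : Nat.card K * 24 = Nat.card H := by
    have h := card_stabilizer_mul H K (pt 23) hKdef
    have : MulAction.orbit H (pt 23) = Set.univ := Set.eq_univ_of_forall fun y => by
      obtain ⟨h, hh, e⟩ := htr y
      exact ⟨⟨h, hh⟩, e⟩
    rwa [this, Set.ncard_univ, Nat.card_eq_fintype_card (α := GolayPt),
      show Fintype.card GolayPt = 24 from rfl] at h
  have hmemK : ∀ σ, σ ∈ K ↔ σ ∈ H ∧ σ (pt 23) = pt 23 := fun σ => Iff.rfl
  have hKbase : K ≤ stabGrp [] maskOne := fun σ hσ => mem_base_iff.2 ⟨hH hσ.1, hσ.2⟩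
  have hKV : sixteen ≤ K := fun σ hσ => ⟨hV hσ, base_fix (sixteen_le_base hσ)⟩
  obtain ⟨T, hT, h23, hinv, hdvd, hle, hb2, hb3, hb5, h7⟩ := exists_small_invariant hKbase hKV
  have hKcases : Nat.card K = 40320 ∨ Nat.card K = 13440 ∨ Nat.card K = 5760 := by omega
  have hd' : (23 - T.card) ∣ 40320 := by
    refine hdvd.trans ?_
    rcases hKcases with e | e | e <;> rw [e] <;> norm_num
  obtain ⟨blk, hb0, hbe, hbc⟩ := exists_blk (insert (pt 23) T) htr fun h hh hx => by
    rw [Finset.smul_finset_insert, smul_eq_self_of_invariant (hinv h ⟨hh, hx⟩),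
      Equiv.Perm.smul_def, hx]
  have d : BlockData H K blk (insert (pt 23) T) := ⟨hH, hV, htr, hmemK, hb0, hbe, hbc,
    Finset.insert_subset pt23_mem_baseOctad hT, Finset.mem_insert_self _ _⟩
  have hBc : (insert (pt 23) T).card = T.card + 1 := Finset.card_insert_of_notMem h23
  have h5K : 5 ∣ Nat.card K := by rcases hKcases with e | e | e <;> rw [e] <;> norm_num
  obtain ⟨σ, hσK, hσ5⟩ := exists_order_elt Nat.prime_five h5K
  have hσM : σ ∈ M24 := hH hσK.1
  have hfix5 : (fixSet σ).card < 5 := card_fixSet_lt hσM le_rfl (by rw [hσ5]; decide)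
  have h23fix : pt 23 ∈ fixSet σ := mem_fixSet.2 hσK.2
  rcases size_cases _ hle hd' with h | h | h | h
  · exfalso
    have h7K : 7 ∣ Nat.card K := by
      rcases hKcases with e | e | e
      · rw [e]; norm_num
      · rw [e]; norm_num
      · rw [e, h] at hdvd; norm_num at hdvd
    obtain ⟨τ, hτK, hτ7⟩ := exists_order_elt (by norm_num : Nat.Prime 7) h7K
    have hfix7 : (fixSet τ).card < 4 :=
      card_fixSet_lt (hH hτK.1) (by norm_num) (by rw [hτ7]; decide)
    have := d.octad_count (d.partition_of_fix (by norm_num) hτ7 hτK (by omega) (by omega))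
    rw [hBc, h] at this
    omega
  · have hK5 : Nat.card K = 5760 := by have := hb3 h; omega
    have hpart := d.partition_of_fix Nat.prime_five hσ5 hσK (by omega) (by omega)
    refine ⟨by omega, Finset.univ.image blk, ?_⟩
    have hS6 : (Finset.univ.image blk).card = 6 := by
      have := card_dvd_of_blocks (S := Finset.univ) (m := 4) (fun y _ => d.self_mem y)
        (fun y _ => Finset.subset_univ _) (fun y _ => hpart y) fun y _ => by rw [d.card, hBc, h]
      rw [Finset.card_univ, show Fintype.card GolayPt = 24 from rfl] at this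
      omega
    -- the second block of the base octad
    obtain ⟨z1, hz1, hz1'⟩ := Finset.exists_mem_notMem_of_card_lt_card
      (s := insert (pt 23) T) (t := baseOctad) (by rw [card_baseOctad]; omega)
    have hne : ∀ z, z ∉ insert (pt 23) T → Disjoint (insert (pt 23) T) (blk z) := fun z hz =>
      Finset.disjoint_left.2 fun w hw hw' => hz (by
        rw [← hb0] at hw
        rw [← hb0, ← hpart _ w hw, hpart z w hw']
        exact d.self_mem z)
    have hunion : insert (pt 23) T ∪ blk z1 = baseOctad := by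
      refine Finset.eq_of_subset_of_card_le (Finset.union_subset d.sub (d.subset_octad hz1)) ?_
      rw [Finset.card_union_of_disjoint (hne z1 hz1'), d.card, card_baseOctad]
      omega
    -- `K` is the whole stabiliser of the point and the block
    obtain ⟨a, b, c, hab, hac, hbc', hTabc⟩ := Finset.card_eq_three.1 h
    set D := M24 ⊓ (MulAction.stabilizer (Equiv.Perm GolayPt) (pt 23) ⊓
      MulAction.stabilizer (Equiv.Perm GolayPt) T)
    have hKD : K ≤ D := fun τ hτ => ⟨hH hτ.1, hτ.2, smul_eq_self_of_invariant (hinv τ hτ)⟩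
    have hD : Nat.card D ≤ 5760 :=
      (card_le_of_invariant 3 D inf_le_left ({pt 23} : Finset GolayPt) T
        (Finset.disjoint_singleton_left.2 h23) (by rw [Finset.card_singleton]; norm_num) h.ge
        (fun τ hτ p hp => by rw [Finset.mem_singleton.1 hp]; exact hτ.2.1)
        (fun τ hτ p hp => inv_of_smul_eq hτ.2.2 p hp)).trans
        (by rw [h, Finset.card_singleton]; decide)
    have hKeq := Subgroup.eq_of_le_of_card_ge hKD (by omega)
    have hpair : ∀ z, z ∉ insert (pt 23) T → insert (pt 23) T ∪ blk z ∈ octads := by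
      intro z hz
      have hinj : ∀ w, w ∉ insert (pt 23) T → Function.Injective ![pt 23, a, b, c, w] := by
        intro w hw
        rw [hTabc] at hw h23
        simp only [Finset.mem_insert, Finset.mem_singleton, not_or] at hw h23
        refine List.nodup_ofFn.1 ?_
        simp [List.ofFn_succ, hab, hac, hbc', h23, Ne.symm hw.1, Ne.symm hw.2.1,
          Ne.symm hw.2.2.1, Ne.symm hw.2.2.2]
      obtain ⟨g, hg⟩ := exists_M24_map_points (k := 5) le_rfl (hinj z1 hz1') (hinj z hz)
      have g0 : (g : Equiv.Perm GolayPt) (pt 23) = pt 23 := hg 0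
      have gT : (g : Equiv.Perm GolayPt) • T = T := by
        have ga : (g : Equiv.Perm GolayPt) a = a := hg 1
        have gb : (g : Equiv.Perm GolayPt) b = b := hg 2
        have gc : (g : Equiv.Perm GolayPt) c = c := hg 3
        rw [hTabc]
        simp only [Finset.smul_finset_insert, Finset.smul_finset_singleton, Equiv.Perm.smul_def,
          ga, gb, gc]
      have hgK : (g : Equiv.Perm GolayPt) ∈ K := by rw [hKeq]; exact ⟨g.2, g0, gT⟩
      have gz : blk z = (g : Equiv.Perm GolayPt) • blk z1 := by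
        rw [← hbe _ hgK.1, show (g : Equiv.Perm GolayPt) z1 = z from hg 4]
      rw [gz, ← d.smul_base hgK, ← Finset.smul_finset_union, hunion]
      exact smul_mem_octads g.2 baseOctad_mem
    have hsext : Finset.univ.image blk ∈ sextets := by
      refine ⟨hS6, fun t ht => ?_, fun t ht u hu hne' => ?_⟩
      · obtain ⟨y, -, rfl⟩ := Finset.mem_image.1 ht
        rw [d.card, hBc, h]
      · obtain ⟨y, -, rfl⟩ := Finset.mem_image.1 ht
        obtain ⟨z, -, rfl⟩ := Finset.mem_image.1 hu
        obtain ⟨g, hg, rfl⟩ := htr y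
        obtain ⟨w, rfl⟩ := g.surjective z
        rw [hbe g hg, hbe g hg, hb0] at hne' ⊢
        rw [← Finset.smul_finset_union]
        refine smul_mem_octads (hH hg) (hpair w fun hw => hne' ?_)
        rw [hpart (pt 23) w (hb0.symm ▸ hw), hb0]
    refine ⟨hsext, ?_⟩
    have hle2 : ∀ τ ∈ H, τ • Finset.univ.image blk = Finset.univ.image blk := fun τ hτ => by
      refine Finset.eq_of_subset_of_card_le (fun t ht => ?_) (by rw [Finset.card_smul_finset])
      obtain ⟨u, hu, rfl⟩ := Finset.mem_smul_finset.1 ht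
      obtain ⟨y, -, rfl⟩ := Finset.mem_image.1 hu
      exact Finset.mem_image.2 ⟨τ y, Finset.mem_univ _, hbe τ hτ y⟩
    set E := M24 ⊓ MulAction.stabilizer (Equiv.Perm GolayPt) (Finset.univ.image blk)
    have hHE : H ≤ E := fun τ hτ => ⟨hH hτ, hle2 τ hτ⟩
    have hE : Nat.card E ≤ 138240 := by
      have h1 := card_stabilizer_mul E _ (insert (pt 23) T) rfl
      have horb : (MulAction.orbit E (insert (pt 23) T)).ncard ≤ 6 := by
        rw [← hS6, ← Set.ncard_coe_finset]
        refine Set.ncard_le_ncard ?_ (Finset.finite_toSet _)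
        rintro _ ⟨τ, rfl⟩
        have e : (τ : Equiv.Perm GolayPt) • Finset.univ.image blk = Finset.univ.image blk := τ.2.2
        rw [← e]
        exact Finset.smul_mem_smul_finset (Finset.mem_image.2 ⟨pt 23, Finset.mem_univ _, hb0⟩)
      have h2 := card_le_of_invariant 4
        (E ⊓ MulAction.stabilizer (Equiv.Perm GolayPt) (insert (pt 23) T))
        (inf_le_left.trans inf_le_left) ∅ (insert (pt 23) T) (Finset.disjoint_empty_left _)
        (by rw [Finset.card_empty]; norm_num) (by omega)
        (fun _ _ p hp => absurd hp (Finset.notMem_empty p))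
        (fun τ hτ p hp => inv_of_smul_eq hτ.2 p hp)
      rw [hBc, h, Finset.card_empty] at h2
      rw [← h1]
      exact (Nat.mul_le_mul h2 horb).trans (by decide)
    have heq := Subgroup.eq_of_le_of_card_ge hHE (by omega)
    refine fun τ => ⟨fun hτ => ⟨hH hτ, hle2 τ hτ⟩, fun hτ => ?_⟩
    rw [heq]
    exact hτ
  · exfalso
    -- five further points: a second system of blocks
    have hocK : ∀ τ ∈ H, τ (pt 23) = pt 23 → τ • baseOctad = baseOctad := fun τ hτ hx => by
      refine octad_eq_of_five (smul_mem_octads (hH hτ) baseOctad_mem) baseOctad_mem ?_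
      refine le_trans (show 5 ≤ (insert (pt 23) T).card by omega) (Finset.card_le_card ?_)
      refine Finset.subset_inter ?_ d.sub
      calc insert (pt 23) T = τ • insert (pt 23) T := (d.smul_base ((hmemK τ).2 ⟨hτ, hx⟩)).symm
        _ ⊆ _ := Finset.smul_finset_subset_smul_finset d.sub
    obtain ⟨oc, ho0, hoe, hoc⟩ := exists_blk baseOctad htr hocK
    have hoct : ∀ y, oc y ∈ octads := fun y => by
      obtain ⟨g, hg, rfl⟩ := htr y
      rw [hoe g hg, ho0]
      exact smul_mem_octads (hH hg) baseOctad_mem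
    have hbo : ∀ y, blk y ⊆ oc y := fun y => by
      obtain ⟨g, hg, rfl⟩ := htr y
      rw [hoe g hg, ho0, hbe g hg, hb0]
      exact Finset.smul_finset_subset_smul_finset d.sub
    have hocb : ∀ y ∈ baseOctad, oc y = baseOctad := fun y hy => by
      refine octad_eq_of_five (hoct y) baseOctad_mem
        (le_trans ?_ (Finset.card_le_card (Finset.subset_inter (hbo y) (d.subset_octad hy))))
      rw [d.card]
      omega
    let U : GolayPt → Finset GolayPt := fun y => insert y (oc y \ blk y)
    have hUe : ∀ g ∈ H, ∀ y, U (g y) = g • U y := fun g hg y => by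
      simp only [U, hoe g hg, hbe g hg, Finset.smul_finset_insert, Finset.smul_finset_sdiff,
        Equiv.Perm.smul_def]
    have hUc : ∀ y, (U y).card = 3 := fun y => by
      simp only [U]
      rw [Finset.card_insert_of_notMem (fun hy => (Finset.mem_sdiff.1 hy).2 (d.self_mem y)),
        Finset.card_sdiff_of_subset (hbo y), hoc, d.card, card_baseOctad]
      omega
    have hUsub : ∀ y ∈ baseOctad, U y ⊆ baseOctad := fun y hy => by
      simp only [U, hocb y hy]
      exact Finset.insert_subset hy Finset.sdiff_subset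
    -- the fixed points of `σ` in the base octad
    have hσo : σ • baseOctad = baseOctad := hocK σ hσK.1 hσK.2
    have hU0 : U (pt 23) = baseOctad ∩ fixSet σ := by
      have e1 := card_modEq_fixed Nat.prime_five hσ5 _ (inv_of_smul_eq hσo)
      rw [card_baseOctad] at e1
      have e2 := card_modEq_fixed Nat.prime_five hσ5 _ (inv_of_smul_eq (d.smul_base hσK))
      rw [hBc, h] at e2
      have l1 : (baseOctad ∩ fixSet σ).card ≤ (fixSet σ).card :=
        Finset.card_le_card Finset.inter_subset_right
      have l2 : (insert (pt 23) T ∩ fixSet σ).card ≤ (baseOctad ∩ fixSet σ).card :=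
        Finset.card_le_card (Finset.inter_subset_inter d.sub le_rfl)
      have h1 : insert (pt 23) T ∩ fixSet σ = {pt 23} :=
        (Finset.eq_of_subset_of_card_le (Finset.singleton_subset_iff.2
          (Finset.mem_inter.2 ⟨d.mem, h23fix⟩)) (by rw [Finset.card_singleton]; omega)).symm
      refine (Finset.eq_of_subset_of_card_le (fun w hw => ?_) (by rw [hUc]; omega)).symm
      simp only [U, hb0, ho0, Finset.mem_insert, Finset.mem_sdiff]
      obtain ⟨hw1, hw2⟩ := Finset.mem_inter.1 hw
      by_cases hwB : w ∈ insert (pt 23) T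
      · exact Or.inl (Finset.mem_singleton.1 (h1 ▸ Finset.mem_inter.2 ⟨hwB, hw2⟩))
      · exact Or.inr ⟨hw1, fun h' => hwB (Finset.mem_insert.2 h')⟩
    have hpart := (blk_eq_of_mem htr hUe (Finset.mem_insert_self _ _) fun z hz => by
      obtain ⟨hzo, hzf⟩ := Finset.mem_inter.1 (hU0 ▸ hz)
      have hb := d.smul_blk_of_fix hσK.1 (mem_fixSet.1 hzf)
      have e := card_modEq_fixed Nat.prime_five hσ5 _ (inv_of_smul_eq hb)
      rw [d.card, hBc, h] at e
      have hsub2 : blk z ∩ fixSet σ ⊆ U (pt 23) := by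
        rw [hU0]; exact Finset.inter_subset_inter (d.subset_octad hzo) le_rfl
      have hle3 := (Finset.card_le_card hsub2).trans_eq (hUc _)
      have h1 : blk z ∩ fixSet σ = {z} :=
        (Finset.eq_of_subset_of_card_le (Finset.singleton_subset_iff.2
          (Finset.mem_inter.2 ⟨d.self_mem z, hzf⟩)) (by rw [Finset.card_singleton]; omega)).symm
      refine (Finset.eq_of_subset_of_card_le (fun w hw => ?_) (by rw [hUc, hUc])).symm
      obtain ⟨hw1, hw2⟩ := Finset.mem_inter.1 (hU0 ▸ hw)
      simp only [U, hocb z hzo, Finset.mem_insert, Finset.mem_sdiff]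
      by_cases hwb : w ∈ blk z
      · exact Or.inl (Finset.mem_singleton.1 (h1 ▸ Finset.mem_inter.2 ⟨hwb, hw2⟩))
      · exact Or.inr ⟨hw1, hwb⟩).2
    have := card_dvd_of_blocks (blk := U) (fun y _ => Finset.mem_insert_self _ _)
      (fun y hy => hUsub y hy) (fun y _ => hpart y) (fun y _ => hUc y)
    rw [card_baseOctad] at this
    omega
  · exfalso
    have hB : insert (pt 23) T = baseOctad := h7 h
    have hpart := (blk_eq_of_mem htr hbe (d.self_mem _) fun z hz => by
      rw [hb0] at hz ⊢
      exact Finset.eq_of_subset_of_card_le (hB.symm ▸ d.subset_octad (hB ▸ hz))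
        (by rw [d.card])).2
    have hBσ : σ • baseOctad = baseOctad := hB ▸ d.smul_base hσK
    have hsub : ∀ S : Finset GolayPt, σ • S = S → S.card % 5 = (S ∩ fixSet σ).card % 5 :=
      fun S hS => card_modEq_fixed Nat.prime_five hσ5 S (inv_of_smul_eq hS)
    have e1 := hsub _ hBσ
    have e2 := hsub baseOctadᶜ (smul_eq_self_of_invariant fun p hp => by
      rw [Finset.mem_compl] at hp ⊢
      intro h'
      apply hp
      rw [← hBσ, apply_mem_smul_iff] at h'
      exact h')
    rw [card_baseOctad] at e1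
    rw [Finset.card_compl, card_baseOctad, show Fintype.card GolayPt = 24 from rfl] at e2
    obtain ⟨y, hy⟩ := Finset.card_pos.1 (by omega : 0 < (baseOctadᶜ ∩ fixSet σ).card)
    obtain ⟨hy1, hy2⟩ := Finset.mem_inter.1 hy
    have e3 := hsub _ (d.smul_blk_of_fix hσK.1 (mem_fixSet.1 hy2))
    rw [d.card, hB, card_baseOctad] at e3
    have hd : Disjoint baseOctad (blk y) := Finset.disjoint_left.2 fun w hw hw' => by
      rw [← hB, ← hb0] at hw
      have := d.self_mem y
      rw [← hpart y w hw', hpart _ w hw, hb0, hB] at this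
      exact (Finset.mem_compl.1 hy1) this
    have := Finset.card_le_card (Finset.union_subset
      (Finset.inter_subset_right (s₁ := baseOctad) (s₂ := fixSet σ))
      (Finset.inter_subset_right (s₁ := blk y) (s₂ := fixSet σ)))
    rw [Finset.card_union_of_disjoint (hd.mono Finset.inter_subset_left Finset.inter_subset_left)]
      at this
    omega

end Cfsg.Agent.H44
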