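import Cfsg.Agent.H44.M22Seven
import Cfsg.Agent.H44.M24Index

/-!
Subgroups of the group of the code of index 276 are the stabilisers of pairs.
-/

set_option autoImplicit false

namespace Cfsg.Agent.H44

open Cfsg Cfsg.Agent.Golay
open scoped Pointwise

attribute [local irreducible] maskTwo

lemma size_list : ∀ s ≤ 24, s % 11 ≤ 2 → s % 7 ≤ 3 →
    s = 0 ∨ s = 1 ∨ s = 2 ∨ s = 22 ∨ s = 23 ∨ s = 24 := by decide +kernel

lemma maskTwo_pts : ptSet maskTwo = {pt 23, pt 0} ∧ pt 23 ≠ pt 0 := by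
  unfold maskTwo
  decide +kernel

/-- Sizes of invariant sets of a subgroup of order divisible by 7 and 11. -/
lemma invariant_size {H : Subgroup (Equiv.Perm GolayPt)} (hH : H ≤ M24) (h7 : 7 ∣ Nat.card H)
    (h11 : 11 ∣ Nat.card H) {S : Finset GolayPt} (hS : ∀ σ ∈ H, ∀ p ∈ S, σ p ∈ S) :
    S.card = 0 ∨ S.card = 1 ∨ S.card = 2 ∨ S.card = 22 ∨ S.card = 23 ∨ S.card = 24 := by
  obtain ⟨σ, hσ, hσo⟩ := exists_order_elt (by norm_num : Nat.Prime 11) h11
  obtain ⟨τ, hτ, hτo⟩ := exists_order_elt (by norm_num : Nat.Prime 7) h7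
  have e1 := card_modEq_fixed (by norm_num) hσo S (hS σ hσ)
  have e2 := card_modEq_fixed (by norm_num) hτo S (hS τ hτ)
  have f1 : (fixSet σ).card < 3 := card_fixSet_lt (hH hσ) (by norm_num) (by rw [hσo]; decide)
  have f2 : (fixSet τ).card < 4 := card_fixSet_lt (hH hτ) (by norm_num) (by rw [hτo]; decide)
  have l1 := Finset.card_le_card (Finset.inter_subset_right (s₁ := S) (s₂ := fixSet σ))
  have l2 := Finset.card_le_card (Finset.inter_subset_right (s₁ := S) (s₂ := fixSet τ))
  have : S.card ≤ 24 := (Finset.card_le_univ S).trans_eq rfl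
  exact size_list _ this (by omega) (by omega)

/-- A subgroup of index 276 fixes a pair, and is its stabiliser. -/
theorem pair_of_index {H : Subgroup (Equiv.Perm GolayPt)} (hH : H ≤ M24)
    (hN : Nat.card H = 887040) :
    ∃ s : Finset GolayPt, s.card = 2 ∧ ∀ σ, σ ∈ H ↔ σ ∈ M24 ∧ σ • s = s := by
  classical
  have h7 : 7 ∣ Nat.card H := by rw [hN]; norm_num
  have h11 : 11 ∣ Nat.card H := by rw [hN]; norm_num
  by_cases hinv : ∃ s : Finset GolayPt, s.card = 2 ∧ ∀ σ ∈ H, ∀ p ∈ s, σ p ∈ s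
  · obtain ⟨s, hs, hsi⟩ := hinv
    set D := M24 ⊓ MulAction.stabilizer (Equiv.Perm GolayPt) s
    have hHD : H ≤ D := fun σ hσ => ⟨hH hσ, smul_eq_self_of_invariant (hsi σ hσ)⟩
    have hD : Nat.card D ≤ 887040 :=
      (card_le_of_invariant 2 D inf_le_left ∅ s (Finset.disjoint_empty_left _)
        (by rw [Finset.card_empty]; norm_num) hs.ge
        (fun _ _ p hp => absurd hp (Finset.notMem_empty p))
        (fun τ hτ p hp => inv_of_smul_eq hτ.2 p hp)).trans
        (by rw [hs, Finset.card_empty]; decide)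
    have heq := Subgroup.eq_of_le_of_card_ge hHD (by omega)
    refine ⟨s, hs, fun σ => ⟨fun hσ => ⟨hH hσ, (hHD hσ).2⟩, fun hσ => ?_⟩⟩
    rw [heq]
    exact hσ
  exfalso
  have hcompl : ∀ σ ∈ H, ∀ S : Finset GolayPt, (∀ p ∈ S, σ p ∈ S) →
      ∀ p ∈ Sᶜ, σ p ∈ Sᶜ := fun σ _ S hS p hp => by
    rw [Finset.mem_compl] at hp ⊢
    intro h
    rw [← smul_eq_self_of_invariant hS, apply_mem_smul_iff] at h
    exact hp h
  have htr : MulAction.orbit H (pt 23) = Set.univ := by
    let S := (MulAction.orbit H (pt 23)).toFinset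
    have hS : ∀ σ ∈ H, ∀ p ∈ S, σ p ∈ S := fun σ hσ p hp => by
      rw [Set.mem_toFinset] at hp ⊢
      exact MulAction.mem_orbit_of_mem_orbit (⟨σ, hσ⟩ : H) hp
    have hd : S.card ∣ 887040 := by
      rw [← Set.ncard_eq_toFinset_card', ← MulAction.index_stabilizer, ← hN]
      exact Subgroup.index_dvd_card _
    rcases invariant_size hH h7 h11 hS with h | h | h | h | h | h
    · rw [h] at hd; norm_num at hd
    · exfalso
      have := card_dvd_pwCard hH S (by omega) fun σ hσ p hp => by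
        obtain ⟨w, hw⟩ := Finset.card_eq_one.1 h
        have h2 := hS σ hσ p hp
        rw [hw, Finset.mem_singleton] at h2 hp
        rw [h2, hp]
      rw [hN, h] at this
      revert this; decide
    · exact absurd ⟨S, h, hS⟩ hinv
    · refine absurd ⟨Sᶜ, ?_, fun σ hσ => hcompl σ hσ S (hS σ hσ)⟩ hinv
      rw [Finset.card_compl, h]; rfl
    · rw [h] at hd; norm_num at hd
    · rw [← Set.coe_toFinset (MulAction.orbit H (pt 23))]
      have : S = Finset.univ := Finset.eq_univ_of_card S h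
      rw [show (MulAction.orbit H (pt 23)).toFinset = Finset.univ from this, Finset.coe_univ]
  set K := H ⊓ MulAction.stabilizer (Equiv.Perm GolayPt) (pt 23) with hKdef
  have hKc : Nat.card K = 36960 := by
    have h := card_stabilizer_mul H K (pt 23) hKdef
    rw [htr, Set.ncard_univ, Nat.card_eq_fintype_card (α := GolayPt),
      show Fintype.card GolayPt = 24 from rfl, hN] at h
    omega
  have hKM : K ≤ M24 := fun σ hσ => hH hσ.1
  have hK7 : 7 ∣ Nat.card K := by rw [hKc]; norm_num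
  have hK11 : 11 ∣ Nat.card K := by rw [hKc]; norm_num
  obtain ⟨w, hw, hwK⟩ : ∃ w, w ≠ pt 23 ∧ ∀ σ ∈ K, σ w = w := by
    by_contra! hcon
    obtain ⟨y, hy⟩ : ∃ y : GolayPt, y ≠ pt 23 := exists_ne _
    let S := (MulAction.orbit K y).toFinset
    have hS : ∀ σ ∈ K, ∀ p ∈ S, σ p ∈ S := fun σ hσ p hp => by
      rw [Set.mem_toFinset] at hp ⊢
      exact MulAction.mem_orbit_of_mem_orbit (⟨σ, hσ⟩ : K) hp
    have hy' : y ∈ S := Set.mem_toFinset.2 (MulAction.mem_orbit_self y)
    have h23 : pt 23 ∉ S := fun h => by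
      obtain ⟨⟨σ, hσ⟩, e⟩ := Set.mem_toFinset.1 h
      exact hy (σ.injective ((e : σ y = pt 23).trans (hσ.2 : σ (pt 23) = pt 23).symm))
    have hd : S.card ∣ 36960 := by
      rw [← Set.ncard_eq_toFinset_card', ← MulAction.index_stabilizer, ← hKc]
      exact Subgroup.index_dvd_card _
    have hlt : S.card < 24 := by
      have := Finset.card_lt_univ_of_notMem h23
      exact this.trans_eq rfl
    rcases invariant_size hKM hK7 hK11 hS with h | h | h | h | h | h
    · exact absurd (Finset.card_pos.2 ⟨y, hy'⟩) (by omega)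
    · obtain ⟨σ, hσ, hne⟩ := hcon y hy
      obtain ⟨v, hv⟩ := Finset.card_eq_one.1 h
      have h2 := hS σ hσ y hy'
      rw [hv, Finset.mem_singleton] at h2 hy'
      exact hne (h2.trans hy'.symm)
    · -- an element of order 11 would fix three points
      obtain ⟨σ, hσ, hσo⟩ := exists_order_elt (by norm_num : Nat.Prime 11) hK11
      have f1 : (fixSet σ).card < 3 := card_fixSet_lt (hKM hσ) (by norm_num) (by rw [hσo]; decide)
      have hsub : insert (pt 23) S ⊆ fixSet σ := Finset.insert_subset (mem_fixSet.2 hσ.2)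
        (subset_fixSet (by norm_num) hσo (smul_eq_self_of_invariant (hS σ hσ)) (by omega))
      have := Finset.card_le_card hsub
      rw [Finset.card_insert_of_notMem h23] at this
      omega
    · -- the remaining point is fixed
      have hc : (insert (pt 23) S)ᶜ.card = 1 := by
        rw [Finset.card_compl, Finset.card_insert_of_notMem h23, h]; rfl
      obtain ⟨v, hv⟩ := Finset.card_eq_one.1 hc
      have hv' : v ∈ (insert (pt 23) S)ᶜ := hv ▸ Finset.mem_singleton_self v
      rw [Finset.mem_compl, Finset.mem_insert, not_or] at hv'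
      obtain ⟨σ, hσ, hne⟩ := hcon v hv'.1
      have hins : ∀ p ∈ insert (pt 23) S, σ p ∈ insert (pt 23) S := fun p hp => by
        rcases Finset.mem_insert.1 hp with rfl | hp
        · have e : σ (pt 23) = pt 23 := hσ.2
          rw [e]; exact Finset.mem_insert_self _ _
        · exact Finset.mem_insert_of_mem (hS σ hσ p hp)
      have := hcompl σ hσ.1 _ hins v (hv ▸ Finset.mem_singleton_self v)
      rw [hv, Finset.mem_singleton] at this
      exact hne this
    · rw [h] at hd; norm_num at hd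
    · omega
  obtain ⟨g, hg⟩ := exists_M24_map_points (k := 2) (by norm_num) (a := ![pt 23, w])
    (b := ![pt 23, pt 0])
    (List.nodup_ofFn.1 (by simp [List.ofFn_succ, hw.symm]))
    (List.nodup_ofFn.1 (by simp [List.ofFn_succ, maskTwo_pts.2]))
  refine card_ne_36960 (H := K.map (MulAut.conj (g : Equiv.Perm GolayPt)).toMonoidHom) ?_
    (by rw [Subgroup.card_map_of_injective (MulAut.conj (g : Equiv.Perm GolayPt)).injective, hKc])
  rintro _ ⟨σ, hσ, rfl⟩
  refine ⟨mul_mem (mul_mem g.2 (hKM hσ)) (inv_mem g.2), by simp, fun p hp => ?_⟩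
  show ((g : Equiv.Perm GolayPt) * σ * (g : Equiv.Perm GolayPt)⁻¹) p = p
  rw [maskTwo_pts.1, Finset.mem_insert, Finset.mem_singleton] at hp
  have key : ∀ q, σ q = q → ((g : Equiv.Perm GolayPt) * σ * (g : Equiv.Perm GolayPt)⁻¹)
      ((g : Equiv.Perm GolayPt) q) = (g : Equiv.Perm GolayPt) q := fun q hq => by
    rw [Equiv.Perm.mul_apply, Equiv.Perm.mul_apply, Equiv.Perm.coe_inv, Equiv.symm_apply_apply, hq]
  rcases hp with rfl | rfl
  · rw [← show (g : Equiv.Perm GolayPt) (pt 23) = pt 23 from hg 0]; exact key _ hσ.2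
  · rw [← show (g : Equiv.Perm GolayPt) w = pt 0 from hg 1]; exact key _ (hwK σ hσ)

end Cfsg.Agent.H44
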