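import Cfsg.Agent.H44.PointBound
import Cfsg.Agent.H44.M23Orbits
import Cfsg.Agent.H44.OctadPointwiseData

/-!
Subgroups of odd index contain, up to conjugacy, the pointwise stabiliser of an octad, which is
regular on the complement: this pins down their orbits.
-/

set_option autoImplicit false

namespace Cfsg.Agent.H44

open Cfsg Cfsg.Agent.Golay
open scoped Pointwise

/-- The base octad. -/
def baseOctad : Finset GolayPt := ptSet thrRoot

/-- The pointwise stabiliser of the base octad. -/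
noncomputable def sixteen : Subgroup (Equiv.Perm GolayPt) := stabGrp [] thrRoot

lemma sixteen_cert :
    checkChain [] thrRoot sixteenLevels = true ∧ chainCard sixteenLevels = 16 ∧
    sixteenLevels.head?.map (fun l => (l.1, orbitMask l.2 l.1)) =
      some (1, fullMask ^^^ thrRoot) ∧ (maskOne ||| thrRoot) = thrRoot ∧
    thrList.length = 253 ∧ popCnt thrRoot = 8 := by
  decide +kernel

lemma pt23_mem_baseOctad : pt 23 ∈ baseOctad := by decide +kernel

lemma baseOctad_mem : baseOctad ∈ octads := by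
  refine ptSet_mem_octads (List.mem_filter.1 (List.contains_iff_mem.1 thr_cert.2)).1

lemma card_baseOctad : baseOctad.card = 8 := baseOctad_mem.2

lemma isPGroup_sixteen : IsPGroup 2 sixteen :=
  IsPGroup.of_card (n := 4) (by rw [sixteen, card_stabGrp sixteen_cert.1, sixteen_cert.2.1]; rfl)

lemma sixteen_le_M24 : sixteen ≤ M24 := stabGrp_le_M24 _ _

lemma sixteen_le_base : sixteen ≤ stabGrp [] maskOne := by
  intro σ hσ
  refine ⟨hσ.1, by simp, fun p hp => hσ.2.2 p ?_⟩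
  rw [mem_ptSet] at hp ⊢
  rw [← sixteen_cert.2.2.2.1, Nat.testBit_or, hp, Bool.true_or]

lemma orbit_sixteen {z w : GolayPt} (hz : z ∉ baseOctad) (hw : w ∉ baseOctad) :
    ∃ σ ∈ sixteen, σ z = w := by
  obtain ⟨c1, -, c3, -⟩ := sixteen_cert
  obtain ⟨l, hl, hlv⟩ := Option.map_eq_some_iff.1 c3
  simp only [Prod.mk.injEq] at hlv
  obtain ⟨hb, hm⟩ := hlv
  have hll : l ∈ sixteenLevels := List.mem_of_head? hl
  have key : ∀ u, u ∉ baseOctad → ∃ σ ∈ sixteen, σ (pt 1) = u := by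
    intro u hu
    rw [baseOctad, ← Finset.mem_compl, ← ptSet_compl, mem_ptSet, ← hm] at hu
    obtain ⟨t, ht, hat⟩ := (testBit_orbitMask _ _ _).1 hu
    have hmem := checkChain_mem [] _ _ c1 l hll t ht
    refine ⟨mkPerm t, hmem, ?_⟩
    have hv : validT t = true := by
      obtain ⟨b0, hb0⟩ : ∃ rest, sixteenLevels = l :: rest := by
        match h : sixteenLevels, hl with
        | a :: rest, hl => exact ⟨rest, by rw [List.head?_cons, Option.some.injEq] at hl; rw [hl]⟩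
      rw [hb0] at c1
      simp only [checkChain, Bool.and_eq_true, List.all_eq_true] at c1
      have := c1.1.1.1.2 t ht
      simp only [inStab, Bool.and_eq_true] at this
      exact validT_of_inM24 this.1.1
    rw [← hb, mkPerm_pt hv (by omega), hat, pt_idx]
  obtain ⟨σ, hσ, h1⟩ := key z hz
  obtain ⟨τ, hτ, h2⟩ := key w hw
  refine ⟨τ * σ⁻¹, mul_mem hτ (inv_mem hσ), ?_⟩
  rw [Equiv.Perm.mul_apply, ← h1, Equiv.Perm.coe_inv, Equiv.symm_apply_apply, h2]

/-- The orbit containing the complement of the base octad, and the invariant rest. -/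
theorem exists_invariant_rest {K : Subgroup (Equiv.Perm GolayPt)} (hV : sixteen ≤ K) :
    ∃ T : Finset GolayPt, T ⊆ baseOctad ∧ (∀ σ ∈ K, ∀ p ∈ T, σ p ∈ T) ∧
      (∀ σ ∈ K, ∀ p, p ∉ T → σ p ∉ T) ∧ (24 - T.card) ∣ Nat.card K ∧
      ∀ p ∈ baseOctad, (∀ σ ∈ K, σ p = p) → p ∈ T := by
  classical
  obtain ⟨c, hc⟩ : ∃ c, c ∉ baseOctad := ⟨pt 1, by decide +kernel⟩
  let O := MulAction.orbit K c
  let T : Finset GolayPt := Finset.univ.filter fun p => p ∉ O
  have hmem : ∀ p, p ∈ T ↔ p ∉ O := fun p => by simp [T]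
  have hinv : ∀ σ ∈ K, ∀ p, σ p ∈ O ↔ p ∈ O := fun σ hσ p => by
    refine ⟨fun h => ?_, fun h => ?_⟩
    · have h2 := MulAction.mem_orbit_of_mem_orbit (⟨σ, hσ⟩ : K)⁻¹ h
      rwa [show ((⟨σ, hσ⟩ : K)⁻¹ • σ p : GolayPt) = p from Equiv.symm_apply_apply σ p] at h2
    · exact MulAction.mem_orbit_of_mem_orbit (⟨σ, hσ⟩ : K) h
  refine ⟨T, fun p hp => ?_, fun σ hσ p hp => ?_, fun σ hσ p hp => ?_, ?_, fun p hp hfix => ?_⟩
  · by_contra hcon
    obtain ⟨σ, hσ, h⟩ := orbit_sixteen hc hcon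
    exact (hmem p).1 hp ⟨⟨σ, hV hσ⟩, h⟩
  · rw [hmem] at hp ⊢
    rwa [hinv σ hσ]
  · rw [hmem] at hp ⊢
    rwa [hinv σ hσ]
  · have hO : O.ncard = 24 - T.card := by
      have h : (O.toFinset).card + T.card = 24 := by
        rw [show T = O.toFinsetᶜ by ext p; simp [hmem], Finset.card_add_card_compl]
        rfl
      rw [Set.ncard_eq_toFinset_card']
      omega
    rw [← hO, ← Nat.card_coe_set_eq, Nat.card_congr (MulAction.orbitEquivQuotientStabilizer K c),
      ← Subgroup.index_eq_card]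
    exact Subgroup.index_dvd_card _
  · rw [hmem]
    rintro ⟨⟨σ, hσ⟩, h⟩
    have h' : σ c = p := h
    exact hc ((σ.injective (h'.trans (hfix σ hσ).symm)) ▸ hp)

lemma map_conj_eq_iff {P : Type*} [Group P] {K : Subgroup P} {g σ : P} :
    σ ∈ K.map (MulAut.conj g⁻¹).toMonoidHom ↔ g * σ * g⁻¹ ∈ K := by
  constructor
  · rintro ⟨h, hh, rfl⟩
    show g * (g⁻¹ * h * g⁻¹⁻¹) * g⁻¹ ∈ K
    rw [show g * (g⁻¹ * h * g⁻¹⁻¹) * g⁻¹ = h by group]
    exact hh
  · intro h
    exact ⟨_, h, by show g⁻¹ * (g * σ * g⁻¹) * g⁻¹⁻¹ = σ; group⟩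

/-- Replace a subgroup of odd index by a conjugate containing `sixteen`. -/
theorem exists_conj_sixteen {G K : Subgroup (Equiv.Perm GolayPt)} (hG : sixteen ≤ G) (hKG : K ≤ G)
    (hodd : ∃ n, Nat.card G = Nat.card K * n ∧ n % 2 = 1) :
    ∃ g ∈ G, ∃ K' : Subgroup (Equiv.Perm GolayPt), sixteen ≤ K' ∧ K' ≤ G ∧
      Nat.card K' = Nat.card K ∧ ∀ σ, σ ∈ K ↔ g * σ * g⁻¹ ∈ K' := by
  obtain ⟨g, hg, h⟩ := exists_conj_ge isPGroup_sixteen hG hKG hodd
  refine ⟨g, hg, K.map (MulAut.conj g).toMonoidHom, fun v hv => ⟨g⁻¹ * v * g, h v hv, ?_⟩, ?_, ?_,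
    fun σ => ⟨fun hσ => ⟨σ, hσ, rfl⟩, ?_⟩⟩
  · show g * (g⁻¹ * v * g) * g⁻¹ = v
    group
  · rintro _ ⟨σ, hσ, rfl⟩
    exact mul_mem (mul_mem hg (hKG hσ)) (inv_mem hg)
  · exact Subgroup.card_map_of_injective (MulAut.conj g).injective
  · rintro ⟨τ, hτ, e⟩
    exact ((MulAut.conj g).injective e : τ = σ) ▸ hτ

lemma card_base : Nat.card (stabGrp [] maskOne) = 10200960 := by
  rw [maskOne, ← spor_M23_eq, card_spor_M23]

attribute [local irreducible] thrList baseOctad sixteenLevels maskOne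

/-- The stabiliser of an octad through 23 in the stabiliser of 23 has order 40320. -/
lemma card_heptadStab :
    Nat.card ↥(stabGrp [] maskOne ⊓ MulAction.stabilizer (Equiv.Perm GolayPt) baseOctad) = 40320 := by
  have h := card_stabilizer_mul (stabGrp [] maskOne) _ baseOctad rfl
  have horb : MulAction.orbit ↥(stabGrp [] maskOne) baseOctad
      = {s : Finset GolayPt | maskOf s ∈ thrList} := by
    ext s
    constructor
    · rintro ⟨σ, rfl⟩
      refine mem_thrList.2 ⟨smul_mem_octads σ.2.1 baseOctad_mem, ?_⟩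
      show pt 23 ∈ (σ : Equiv.Perm GolayPt) • baseOctad
      rw [← stab_maskOne σ.2, apply_mem_smul_iff]
      exact pt23_mem_baseOctad
    · intro hs
      rw [Set.mem_ofPred_eq] at hs
      have hr : maskOf baseOctad ∈ thrList := mem_thrList.2 ⟨baseOctad_mem, pt23_mem_baseOctad⟩
      obtain ⟨σ, hσ, h⟩ := exists_smul_of_classes' thr_cert.1 hr hs rfl
      exact ⟨⟨σ, hσ⟩, h⟩
  have hnd : thrList.Nodup := by unfold thrList; exact octadList_nodup.filter _
  have hlt : ∀ m ∈ thrList, m < 2 ^ 24 := fun m hm => by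
    unfold thrList at hm
    exact octadList_lt (List.mem_filter.1 hm).1
  rw [horb, ncard_maskOf_mem hnd hlt, sixteen_cert.2.2.2.2.1, card_base] at h
  exact Nat.eq_of_mul_eq_mul_right (by norm_num : 0 < 253) (h.trans (by norm_num))

lemma smul_eq_self_of_invariant {σ : Equiv.Perm GolayPt} {T : Finset GolayPt}
    (h : ∀ p ∈ T, σ p ∈ T) : σ • T = T :=
  smul_eq_of_image h le_rfl

end Cfsg.Agent.H44
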