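import Mathlib

/-!
Solvability through perfect subgroups, and solvability of groups all of whose elements have
order at most three.
-/

set_option autoImplicit false

namespace Cfsg.Agent.H44

variable {G : Type*} [Group G]

/-- A perfect subgroup of a solvable subgroup is trivial. -/
theorem perfect_eq_bot {P K : Subgroup G} [Group.IsSolvable K] (hPK : P ≤ K) (hP : ⁅P, P⁆ = P) :
    P = ⊥ := by
  have h1 : ⁅P.subgroupOf K, P.subgroupOf K⁆ = P.subgroupOf K := by
    apply Subgroup.map_injective K.subtype_injective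
    rw [Subgroup.map_commutator, Subgroup.map_subgroupOf_eq_of_le hPK, hP]
  by_contra hne
  have hne' : P.subgroupOf K ≠ ⊥ := by
    intro h
    apply hne
    rw [← Subgroup.map_subgroupOf_eq_of_le hPK, h, Subgroup.map_bot]
  exact lt_irrefl _ (h1 ▸ Group.IsSolvable.commutator_lt_of_ne_bot hne')

/-- A finite subgroup without nontrivial perfect subgroups is solvable. -/
theorem isSolvable_of_perfect_eq_bot [Finite G] {K : Subgroup G}
    (h : ∀ P : Subgroup G, P ≤ K → ⁅P, P⁆ = P → P = ⊥) : Group.IsSolvable K := by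
  rw [Group.isSolvable_iff_commutator_lt]
  intro H hH
  refine lt_of_le_of_ne (Subgroup.commutator_le.2 fun a ha b hb =>
    H.mul_mem (H.mul_mem (H.mul_mem ha hb) (H.inv_mem ha)) (H.inv_mem hb)) fun he => hH ?_
  have h1 := h (H.map K.subtype) (Subgroup.map_subtype_le H)
    (by rw [← Subgroup.map_commutator, he])
  exact (Subgroup.map_eq_bot_iff_of_injective H K.subtype_injective).1 h1

/-- The image of a perfect subgroup is perfect. -/
theorem perfect_map {G' : Type*} [Group G'] (f : G →* G') {P : Subgroup G} (hP : ⁅P, P⁆ = P) :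
    ⁅P.map f, P.map f⁆ = P.map f := by
  rw [← Subgroup.map_commutator, hP]

/-- The join of two solvable subgroups, one of them normal, is solvable. -/
theorem isSolvable_sup [Finite G] {A B : Subgroup G} [A.Normal] (hA : Group.IsSolvable A)
    (hB : Group.IsSolvable B) : Group.IsSolvable (A ⊔ B : Subgroup G) := by
  refine isSolvable_of_perfect_eq_bot fun P hP hPP => ?_
  haveI := hB
  haveI : Group.IsSolvable (B.map (QuotientGroup.mk' A)) :=
    Group.isSolvable_of_surjective (MonoidHom.subgroupMap_surjective (QuotientGroup.mk' A) B)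
  have hle : P.map (QuotientGroup.mk' A) ≤ B.map (QuotientGroup.mk' A) := by
    refine (Subgroup.map_mono hP).trans ?_
    rw [Subgroup.map_sup, QuotientGroup.map_mk'_self, bot_sup_eq]
  have hbot := perfect_eq_bot hle (perfect_map _ hPP)
  haveI := hA
  refine perfect_eq_bot (K := A) ?_ hPP
  rw [Subgroup.map_eq_bot_iff, QuotientGroup.ker_mk'] at hbot
  exact hbot

/-- A finite join of solvable normal subgroups is solvable. -/
theorem isSolvable_iSup [Finite G] {ι : Type*} [Finite ι] (A : ι → Subgroup G)
    (hn : ∀ i, (A i).Normal) (hA : ∀ i, Group.IsSolvable (A i)) :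
    Group.IsSolvable (⨆ i, A i : Subgroup G) := by
  classical
  haveI := Fintype.ofFinite ι
  have key : ∀ s : Finset ι, (⨆ i ∈ s, A i).Normal ∧ Group.IsSolvable (⨆ i ∈ s, A i : Subgroup G) := by
    intro s
    induction s using Finset.induction_on with
    | empty =>
      rw [show (⨆ i ∈ (∅ : Finset ι), A i) = ⊥ by simp]
      exact ⟨inferInstance, inferInstance⟩
    | @insert a t _ ih =>
      rw [Finset.iSup_insert]
      haveI := hn a; haveI := ih.1
      exact ⟨inferInstance, isSolvable_sup (hA a) ih.2⟩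
  have h := (key Finset.univ).2
  rwa [show (⨆ i ∈ (Finset.univ : Finset ι), A i) = ⨆ i, A i by simp] at h

/-- A finite group in which every element has order at most three is solvable. -/
theorem isSolvable_of_small_orders [Finite G] (h : ∀ g : G, g ^ 2 = 1 ∨ g ^ 3 = 1) :
    Group.IsSolvable G := by
  classical
  have inv_eq : ∀ g : G, g ^ 2 = 1 → g⁻¹ = g := fun g hg =>
    inv_eq_of_mul_eq_one_left (by rwa [← pow_two])
  have comm_of_sq : ∀ a b : G, a ^ 2 = 1 → b ^ 2 = 1 → (a * b) ^ 2 = 1 → Commute a b := by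
    intro a b ha hb hab
    have := inv_eq _ hab
    rw [mul_inv_rev, inv_eq a ha, inv_eq b hb] at this
    exact this.symm
  -- an involution commutes only with involutions
  have cent : ∀ a g : G, a ^ 2 = 1 → a ≠ 1 → Commute a g → g ^ 2 = 1 := by
    intro a g ha hne hag
    rcases h g with hg | hg
    · exact hg
    · rcases h (a * g) with h2 | h3
      · rwa [hag.mul_pow, ha, one_mul] at h2
      · rw [hag.mul_pow, hg, mul_one, pow_succ, ha, one_mul] at h3
        exact absurd h3 hne
  have three : ∀ {H : Type _} [Group H] [Finite H], (∀ g : H, g ^ 3 = 1) → Group.IsSolvable H := by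
    intro H _ _ h3
    haveI : Fact (Nat.Prime 3) := ⟨by norm_num⟩
    have hp : IsPGroup 3 H := fun g => ⟨1, by rw [pow_one]; exact h3 g⟩
    haveI := hp.isNilpotent
    infer_instance
  by_cases hA : ∃ i i' : G, i ^ 2 = 1 ∧ i' ^ 2 = 1 ∧ i ≠ 1 ∧ i' ≠ 1 ∧ i ≠ i' ∧ Commute i i'
  · obtain ⟨i, i', hi, hi', hi1, hi1', hne, hii⟩ := hA
    have hall : ∀ j : G, j ^ 2 = 1 → Commute i j := by
      intro j hj
      by_contra hc
      have hc' : ¬ Commute i' j := fun hc' =>
        hc (comm_of_sq i j hi hj (cent i' (i * j) hi' hi1' (hii.symm.mul_right hc')))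
      have braid : ∀ a : G, a ^ 2 = 1 → ¬ Commute a j → a * j * a = j * a * j := by
        intro a ha hac
        have h3 : (a * j) ^ 3 = 1 := (h (a * j)).resolve_left fun h2 => hac (comm_of_sq a j ha hj h2)
        have e : (a * j * a) * (j * a * j) = 1 := by rw [← h3]; simp only [pow_succ, pow_zero, one_mul, mul_assoc]
        rw [eq_inv_of_mul_eq_one_left e, mul_inv_rev, mul_inv_rev, inv_eq a ha, inv_eq j hj, mul_assoc]
      set s := i * j * i' with hs
      have hs2 : s ^ 2 = j * (i * i') * j := by
        rw [pow_two, hs,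
          show i * j * i' * (i * j * i') = i * j * (i' * i) * j * i' by group, ← hii.eq,
          show i * j * (i * i') * j * i' = (i * j * i) * (i' * j * i') by group,
          braid i hi hc, braid i' hi' hc',
          show j * i * j * (j * i' * j) = j * i * (j * j) * i' * j by group,
          show j * j = 1 by rw [← pow_two]; exact hj]
        group
      have hk : (i * i') ^ 2 = 1 := by rw [hii.mul_pow, hi, hi', one_mul]
      have hs4 : (s ^ 2) ^ 2 = 1 := by
        rw [hs2, pow_two,
          show j * (i * i') * j * (j * (i * i') * j) = j * (i * i') * (j * j) * (i * i') * j by group,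
          show j * j = 1 by rw [← pow_two]; exact hj, mul_one, mul_assoc j (i * i') (i * i'),
          show i * i' * (i * i') = 1 by rw [← pow_two]; exact hk, mul_one, ← pow_two, hj]
      rcases h s with h2 | h3
      · apply hne
        have e : i * i' = 1 := by
          rw [h2] at hs2
          calc i * i' = j * (j * (i * i') * j) * j := by
                rw [show j * (j * (i * i') * j) * j = (j * j) * (i * i') * (j * j) by group,
                  show j * j = 1 by rw [← pow_two]; exact hj, one_mul, mul_one]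
            _ = 1 := by rw [← hs2, mul_one, ← pow_two, hj]
        rw [eq_inv_of_mul_eq_one_left e, inv_eq i' hi']
      · have hs1 : s = 1 := by
          calc s = (s ^ 2) ^ 2 * (s ^ 3)⁻¹ := by group
            _ = 1 := by rw [hs4, h3, inv_one, mul_one]
        have hj' : j = i * i' := by
          calc j = i⁻¹ * s * i'⁻¹ := by rw [hs]; group
            _ = i * i' := by rw [hs1, mul_one, inv_eq i hi, inv_eq i' hi']
        exact hc (hj' ▸ (Commute.refl i).mul_right hii)
    have hpair : ∀ a b : G, a ^ 2 = 1 → b ^ 2 = 1 → Commute a b := fun a b ha hb =>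
      comm_of_sq a b ha hb (cent i (a * b) hi hi1 ((hall a ha).mul_right (hall b hb)))
    let V : Subgroup G :=
      { carrier := {g | g ^ 2 = 1}
        one_mem' := one_pow 2
        mul_mem' := fun {a b} (ha : a ^ 2 = 1) (hb : b ^ 2 = 1) => by
          show (a * b) ^ 2 = 1
          rw [(hpair a b ha hb).mul_pow, ha, hb, one_mul]
        inv_mem' := fun {a} (ha : a ^ 2 = 1) => by show a⁻¹ ^ 2 = 1; rw [inv_pow, ha, inv_one] }
    haveI hV : V.Normal := ⟨fun v (hv : v ^ 2 = 1) g => by
      show (g * v * g⁻¹) ^ 2 = 1; rw [conj_pow, hv, mul_one, mul_inv_cancel]⟩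
    have hVs : Group.IsSolvable V :=
      Group.isSolvable_of_comm fun a b => Subtype.ext (hpair a b a.2 b.2)
    have hQ : Group.IsSolvable (G ⧸ V) := three fun q => by
      obtain ⟨g, rfl⟩ := QuotientGroup.mk'_surjective V q
      rw [← map_pow, QuotientGroup.mk'_apply, QuotientGroup.eq_one_iff]
      show (g ^ 3) ^ 2 = 1
      rw [← pow_mul, show 3 * 2 = 2 * 3 from rfl]
      rcases h g with e | e
      · rw [pow_mul, e, one_pow]
      · rw [mul_comm, pow_mul, e, one_pow]
    exact (Group.isSolvable_iff_subgroup_quotient V).2 ⟨hVs, hQ⟩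
  push Not at hA
  by_cases hI : ∃ i : G, i ^ 2 = 1 ∧ i ≠ 1
  swap
  · push Not at hI
    exact three fun g => (h g).elim (fun h2 => by rw [hI g h2, one_pow]) id
  obtain ⟨i, hi, hi1⟩ := hI
  haveI := Fintype.ofFinite G
  set Inv := (Finset.univ : Finset G).filter fun g => g ^ 2 = 1 ∧ g ≠ 1 with hInv
  set T := (Finset.univ : Finset G).filter fun g => g ^ 3 = 1 with hT
  have hcard : Inv.card + T.card = Fintype.card G := by
    rw [← Finset.card_univ, ← Finset.card_union_of_disjoint]
    · congr 1
      ext g
      simp only [hInv, hT, Finset.mem_union, Finset.mem_filter, Finset.mem_univ, true_and, iff_true]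
      rcases h g with e | e
      · by_cases g1 : g = 1
        · right; rw [g1, one_pow]
        · exact Or.inl ⟨e, g1⟩
      · exact Or.inr e
    · rw [Finset.disjoint_left]
      intro g hg hg'
      simp only [hInv, hT, Finset.mem_filter, Finset.mem_univ, true_and] at hg hg'
      rw [pow_succ, hg.1, one_mul] at hg'
      exact hg.2 hg'
  set J := (Finset.univ : Finset G).image fun g => g * i * g⁻¹ with hJ
  have hJI : J ⊆ Inv := by
    intro b hb
    obtain ⟨g, -, rfl⟩ := Finset.mem_image.1 hb
    simp only [hInv, Finset.mem_filter, Finset.mem_univ, true_and, conj_pow, hi, mul_one,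
      mul_inv_cancel]
    exact fun e => hi1 (by rwa [mul_inv_eq_one, mul_eq_left] at e)
  have hG2 : Fintype.card G ≤ 2 * J.card := by
    rw [← Finset.card_univ]
    refine Finset.card_le_mul_card_image _ 2 fun b hb => ?_
    obtain ⟨g, -, rfl⟩ := Finset.mem_image.1 hb
    refine le_trans (Finset.card_le_card (t := ({g, g * i} : Finset G)) fun k hk => ?_)
      Finset.card_le_two
    obtain ⟨-, hk⟩ := Finset.mem_filter.1 hk
    have hc : Commute i (g⁻¹ * k) := by
      show i * (g⁻¹ * k) = g⁻¹ * k * i
      calc i * (g⁻¹ * k) = g⁻¹ * (g * i * g⁻¹) * k := by group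
        _ = g⁻¹ * (k * i * k⁻¹) * k := by rw [hk]
        _ = g⁻¹ * k * i := by group
    by_cases e1 : g⁻¹ * k = 1
    · rw [inv_mul_eq_one] at e1; simp [e1]
    by_cases e2 : g⁻¹ * k = i
    · rw [inv_mul_eq_iff_eq_mul] at e2; simp [e2]
    exact absurd hc (hA i (g⁻¹ * k) hi (cent i _ hi hi1 hc) hi1 e1 (Ne.symm e2))
  have hsub : ∀ a ∈ Inv, Inv.image (fun b => a * b) ⊆ T := by
    intro a ha b hb
    obtain ⟨c, hc, rfl⟩ := Finset.mem_image.1 hb
    simp only [hInv, hT, Finset.mem_filter, Finset.mem_univ, true_and] at ha hc ⊢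
    rcases h (a * c) with e | e
    · have hac := comm_of_sq a c ha.1 hc.1 e
      by_cases eq : a = c
      · subst eq; rw [← pow_two a, ha.1, one_pow]
      · exact absurd hac (hA a c ha.1 hc.1 ha.2 hc.2 eq)
    · exact e
  have hcI : ∀ a, (Inv.image fun b => a * b).card = Inv.card := fun a =>
    Finset.card_image_of_injective _ (mul_right_injective a)
  have heqT : ∀ a ∈ Inv, Inv.image (fun b => a * b) = T := by
    intro a ha
    refine Finset.eq_of_subset_of_card_le (hsub a ha) ?_
    have := Finset.card_le_card hJI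
    have := Finset.card_le_card (hsub a ha)
    rw [hcI] at this ⊢
    omega
  have hiI : i ∈ Inv := by simp [hInv, hi, hi1]
  have hmul : ∀ t1 ∈ T, ∀ t2 ∈ T, t1 * t2 ∈ T := by
    intro t1 ht1 t2 ht2
    rw [← heqT i hiI] at ht1
    obtain ⟨a, ha, rfl⟩ := Finset.mem_image.1 ht1
    rw [← heqT a ha] at ht2
    obtain ⟨b, hb, rfl⟩ := Finset.mem_image.1 ht2
    have ha' := (Finset.mem_filter.1 ha).2.1
    rw [show i * a * (a * b) = i * (a * a) * b by group, ← pow_two a, ha', mul_one]
    exact hsub i hiI (Finset.mem_image_of_mem _ hb)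
  have hTm : ∀ g, g ∈ T ↔ g ^ 3 = 1 := fun g => by simp [hT]
  let K : Subgroup G :=
    { carrier := {g | g ^ 3 = 1}
      one_mem' := one_pow 3
      mul_mem' := fun {a b} ha hb => (hTm _).1 (hmul a ((hTm a).2 ha) b ((hTm b).2 hb))
      inv_mem' := fun {a} (ha : a ^ 3 = 1) => by show a⁻¹ ^ 3 = 1; rw [inv_pow, ha, inv_one] }
  haveI hK : K.Normal := ⟨fun v (hv : v ^ 3 = 1) g => by
    show (g * v * g⁻¹) ^ 3 = 1; rw [conj_pow, hv, mul_one, mul_inv_cancel]⟩
  have hKs : Group.IsSolvable K := three fun k => Subtype.ext k.2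
  have hQ : Group.IsSolvable (G ⧸ K) := by
    have hsq : ∀ q : G ⧸ K, q ^ 2 = 1 := fun q => by
      obtain ⟨g, rfl⟩ := QuotientGroup.mk'_surjective K q
      rw [← map_pow, QuotientGroup.mk'_apply, QuotientGroup.eq_one_iff]
      show (g ^ 2) ^ 3 = 1
      rcases h g with e | e
      · rw [e, one_pow]
      · rw [← pow_mul, mul_comm, pow_mul, e, one_pow]
    refine Group.isSolvable_of_comm fun a b => ?_
    have hab := hsq (a * b)
    have inv' : ∀ x : G ⧸ K, x⁻¹ = x := fun x => inv_eq_of_mul_eq_one_left (by rw [← pow_two]; exact hsq x)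
    rw [← inv' (a * b), mul_inv_rev, inv', inv']
  exact (Group.isSolvable_iff_subgroup_quotient K).2 ⟨hKs, hQ⟩

end Cfsg.Agent.H44
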