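import Cfsg.Agent.H44.OrbitTree
import Cfsg.Agent.H44.LowerBound

/-!
Bounds for subgroups of the group of the code from fixed points and invariant sets, and the
fixed points of elements of prime order.
-/

set_option autoImplicit false

namespace Cfsg.Agent.H44

open Cfsg Cfsg.Agent.Golay
open scoped Pointwise

/-- Order of the pointwise stabiliser of `k ≤ 5` points. -/
def pwCard (k : ℕ) : ℕ := [244823040, 10200960, 443520, 20160, 960, 48].getD k 0

/-- Mask of the first `k` base points. -/
def baseMask : ℕ → ℕ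
  | 0 => 0
  | k + 1 => baseMask k ||| 2 ^ [23, 0, 1, 2, 3].getD k 0

lemma pw_cert :
    ((List.range 6).all fun k => checkChain [] (baseMask k) (m24Chain.drop k) &&
      (chainCard (m24Chain.drop k) == pwCard k) && (List.range 24).all fun i =>
        (!(baseMask k).testBit i) || ([23, 0, 1, 2, 3].take k).contains i) = true := by
  decide +kernel

lemma card_stab_baseMask {k : ℕ} (hk : k ≤ 5) : Nat.card (stabGrp [] (baseMask k)) = pwCard k := by
  have h := List.all_eq_true.1 pw_cert k (List.mem_range.2 (by omega))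
  simp only [Bool.and_eq_true, beq_iff_eq] at h
  rw [card_stabGrp h.1.1, h.1.2]

/-- A group fixing `k ≤ 5` points has order dividing the order of their pointwise stabiliser. -/
theorem card_dvd_pwCard {H : Subgroup (Equiv.Perm GolayPt)} (hH : H ≤ M24) (F : Finset GolayPt)
    (hF : F.card ≤ 5) (hfix : ∀ σ ∈ H, ∀ p ∈ F, σ p = p) : Nat.card H ∣ pwCard F.card := by
  set k := F.card with hk
  let a : Fin k → GolayPt := fun i => ((F.equivFinOfCardEq rfl).symm i).1
  have ha : Function.Injective a := Subtype.val_injective.comp (Equiv.injective _)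
  let b : Fin k → GolayPt := fun i => pt ([23, 0, 1, 2, 3].getD i.1 0)
  have hnd : ∀ i < 5, ∀ j < 5, [23, 0, 1, 2, 3].getD i 0 = [23, 0, 1, 2, 3].getD j 0 →
      i = j := by decide
  have hlt : ∀ i < 5, [23, 0, 1, 2, 3].getD i 0 < 24 := by decide
  have hb : Function.Injective b := fun i j h => Fin.ext (hnd i (by omega) j (by omega)
    ((pt_inj (hlt i (by omega)) (hlt j (by omega))).1 h))
  obtain ⟨g, hg⟩ := exists_M24_map_points hF ha hb
  have hmem : ∀ σ ∈ H, (g : Equiv.Perm GolayPt) * σ * (g : Equiv.Perm GolayPt)⁻¹ ∈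
      stabGrp [] (baseMask k) := by
    intro σ hσ
    refine ⟨mul_mem (mul_mem g.2 (hH hσ)) (inv_mem g.2), fun e he => by simp at he, fun p hp => ?_⟩
    have hi : ∃ i : Fin k, p = b i := by
      have h := List.all_eq_true.1 pw_cert k (List.mem_range.2 (by omega))
      simp only [Bool.and_eq_true, List.all_eq_true, List.mem_range] at h
      have h' := h.2 (idx p) (idx_lt p)
      rw [mem_ptSet.1 hp, Bool.not_true, Bool.false_or, List.contains_iff_mem,
        List.mem_iff_getElem] at h'
      obtain ⟨i, hi, he⟩ := h'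
      rw [List.length_take] at hi
      refine ⟨⟨i, lt_of_lt_of_le hi (min_le_left _ _)⟩, ?_⟩
      rw [← pt_idx p, ← he, List.getElem_take]
      show _ = pt ([23, 0, 1, 2, 3].getD i 0)
      rw [List.getD_eq_getElem _ _ (lt_of_lt_of_le hi (min_le_right _ _))]
    obtain ⟨i, rfl⟩ := hi
    rw [← hg i, Equiv.Perm.mul_apply, Equiv.Perm.mul_apply, Equiv.Perm.coe_inv,
      Equiv.symm_apply_apply, hfix σ hσ _ (Subtype.prop _)]
  rw [← card_stab_baseMask hF]
  let f : H →* stabGrp [] (baseMask k) :=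
    { toFun := fun σ => ⟨(g : Equiv.Perm GolayPt) * σ * (g : Equiv.Perm GolayPt)⁻¹, hmem σ σ.2⟩
      map_one' := Subtype.ext (by simp)
      map_mul' := fun x y => Subtype.ext (by simp [mul_assoc]) }
  refine Subgroup.card_dvd_of_injective f fun x y h => ?_
  have := congrArg Subtype.val h
  exact Subtype.ext (mul_left_cancel (mul_right_cancel this))

lemma pwCard_pos {k : ℕ} (hk : k ≤ 5) : 0 < pwCard k := by
  rw [← card_stab_baseMask hk]
  exact Nat.card_pos

/-- Bound from an invariant set. -/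
theorem card_le_of_invariant : ∀ (k : ℕ) (H : Subgroup (Equiv.Perm GolayPt)), H ≤ M24 →
    ∀ (F T : Finset GolayPt), Disjoint F T → F.card + k ≤ 5 → k ≤ T.card →
      (∀ σ ∈ H, ∀ p ∈ F, σ p = p) → (∀ σ ∈ H, ∀ p ∈ T, σ p ∈ T) →
      Nat.card H ≤ T.card.descFactorial k * pwCard (F.card + k)
  | 0, H, hH, F, T, _, hF, _, hfix, _ => by
    rw [Nat.descFactorial_zero, one_mul, Nat.add_zero]
    exact Nat.le_of_dvd (pwCard_pos (by omega)) (card_dvd_pwCard hH F (by omega) hfix)
  | k + 1, H, hH, F, T, hd, hF, hT, hfix, hinv => by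
    obtain ⟨a, ha⟩ := Finset.card_pos.1 (by omega : 0 < T.card)
    have haF : a ∉ F := Finset.disjoint_right.1 hd ha
    set K := H ⊓ MulAction.stabilizer (Equiv.Perm GolayPt) a with hK
    have h := card_le_of_invariant k K (inf_le_left.trans hH) (insert a F) (T.erase a)
      (Finset.disjoint_left.2 fun z hz hz' => by
        rw [Finset.mem_erase] at hz'
        rcases Finset.mem_insert.1 hz with rfl | hz
        · exact hz'.1 rfl
        · exact Finset.disjoint_left.1 hd hz hz'.2)
      (by rw [Finset.card_insert_of_notMem haF]; omega)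
      (by rw [Finset.card_erase_of_mem ha]; omega)
      (fun σ hσ p hp => by
        rcases Finset.mem_insert.1 hp with rfl | hp
        · exact hσ.2
        · exact hfix σ hσ.1 p hp)
      (fun σ hσ p hp => by
        rw [Finset.mem_erase] at hp ⊢
        refine ⟨fun e => hp.1 (σ.injective ?_), hinv σ hσ.1 p hp.2⟩
        rw [e]; exact hσ.2.symm)
    rw [Finset.card_insert_of_notMem haF, Finset.card_erase_of_mem ha] at h
    rw [← card_stabilizer_mul H K a hK]
    have horb : (MulAction.orbit H a).ncard ≤ T.card := by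
      rw [← Set.ncard_coe_finset]
      refine Set.ncard_le_ncard ?_ (Finset.finite_toSet _)
      rintro _ ⟨σ, rfl⟩
      exact hinv σ σ.2 a ha
    obtain ⟨m, hm⟩ : ∃ m, T.card = m + 1 := ⟨T.card - 1, by omega⟩
    rw [hm, Nat.add_sub_cancel] at h
    rw [hm, Nat.succ_descFactorial_succ, show F.card + (k + 1) = F.card + 1 + k by omega]
    calc _ ≤ (m.descFactorial k * pwCard (F.card + 1 + k)) * (m + 1) :=
          Nat.mul_le_mul h (horb.trans hm.le)
      _ = _ := by ring

/-- The fixed points of a permutation. -/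
def fixSet (σ : Equiv.Perm GolayPt) : Finset GolayPt := Finset.univ.filter fun p => σ p = p

lemma mem_fixSet {σ : Equiv.Perm GolayPt} {p : GolayPt} : p ∈ fixSet σ ↔ σ p = p := by
  simp [fixSet]

/-- An element whose order does not divide the pointwise order fixes fewer points. -/
theorem card_fixSet_lt {σ : Equiv.Perm GolayPt} (hσ : σ ∈ M24) {k : ℕ} (hk : k ≤ 5)
    (h : ¬ orderOf σ ∣ pwCard k) : (fixSet σ).card < k := by
  by_contra hcon
  obtain ⟨F, hF, hFc⟩ := Finset.exists_subset_card_eq (not_lt.1 hcon)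
  apply h
  rw [← Nat.card_zpowers, ← hFc]
  refine card_dvd_pwCard (Subgroup.zpowers_le.2 hσ) F (by omega) fun τ hτ p hp => ?_
  obtain ⟨n, rfl⟩ := hτ
  exact Equiv.Perm.zpow_apply_eq_self_of_apply_eq_self (mem_fixSet.1 (hF hp)) n

/-- Fixed points of an element of prime order on an invariant set. -/
theorem card_modEq_fixed {σ : Equiv.Perm GolayPt} {p : ℕ} (hp : p.Prime) (hσ : orderOf σ = p)
    (S : Finset GolayPt) (hS : ∀ z ∈ S, σ z ∈ S) :
    S.card % p = (S ∩ fixSet σ).card % p := by
  have hS' : ∀ τ : Subgroup.zpowers σ, ∀ z ∈ S, (τ : Equiv.Perm GolayPt) z ∈ S := by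
    intro τ z hz
    obtain ⟨n, hn⟩ := (mem_powers_iff_mem_zpowers).2 τ.2
    rw [← hn]
    clear hn
    induction n with
    | zero => simpa using hz
    | succ n ih => simpa [pow_succ', Equiv.Perm.mul_apply] using hS _ ih
  let _ : MulAction (Subgroup.zpowers σ) ↥S :=
    { smul := fun τ z => ⟨(τ : Equiv.Perm GolayPt) z.1, hS' τ z.1 z.2⟩
      one_smul := fun z => Subtype.ext rfl
      mul_smul := fun a b z => Subtype.ext rfl }
  haveI := Fact.mk hp
  have hP : IsPGroup p (Subgroup.zpowers σ) :=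
    IsPGroup.of_card (n := 1) (by rw [Nat.card_zpowers, hσ, pow_one])
  have key := hP.card_modEq_card_fixedPoints ↥S
  rw [Nat.card_eq_fintype_card, Fintype.card_coe] at key
  rw [key]
  congr 1
  rw [← Fintype.card_coe, ← Nat.card_eq_fintype_card]
  refine Nat.card_congr
    { toFun := fun z => ⟨z.1.1, Finset.mem_inter.2 ⟨z.1.2, mem_fixSet.2 ?_⟩⟩
      invFun := fun z => ⟨⟨z.1, (Finset.mem_inter.1 z.2).1⟩, ?_⟩
      left_inv := fun z => rfl
      right_inv := fun z => rfl }
  · exact congrArg Subtype.val (z.2 ⟨σ, Subgroup.mem_zpowers σ⟩)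
  · rintro ⟨τ, n, rfl⟩
    exact Subtype.ext (Equiv.Perm.zpow_apply_eq_self_of_apply_eq_self
      (mem_fixSet.1 (Finset.mem_inter.1 z.2).2) n)

/-- A subgroup of odd index contains a conjugate of every 2-subgroup. -/
theorem exists_conj_ge {P : Type*} [Group P] [Finite P] {G H V : Subgroup P} (hV : IsPGroup 2 V)
    (hVG : V ≤ G) (hHG : H ≤ G) (hodd : ∃ n, Nat.card G = Nat.card H * n ∧ n % 2 = 1) :
    ∃ g ∈ G, ∀ v ∈ V, g⁻¹ * v * g ∈ H := by
  haveI := Fact.mk Nat.prime_two
  obtain ⟨n, hn, hn2⟩ := hodd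
  let Q := H.subgroupOf G
  have hQ : Nat.card (↥G ⧸ Q) = n := by
    have h := Subgroup.card_mul_index Q
    rw [Nat.card_congr (Subgroup.subgroupOfEquivOfLe hHG).toEquiv, hn] at h
    exact Nat.eq_of_mul_eq_mul_left Nat.card_pos h
  let _ : MulAction V (↥G ⧸ Q) := MulAction.compHom _ (Subgroup.inclusion hVG)
  obtain ⟨x, hx⟩ := hV.nonempty_fixed_point_of_prime_not_dvd_card (↥G ⧸ Q)
    (by rw [hQ]; omega)
  obtain ⟨g, rfl⟩ := QuotientGroup.mk_surjective x
  refine ⟨g, g.2, fun v hv => ?_⟩
  have h : ((Subgroup.inclusion hVG ⟨v, hv⟩ * g : G) : ↥G ⧸ Q) = (g : ↥G ⧸ Q) := hx ⟨v, hv⟩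
  rw [eq_comm, QuotientGroup.eq, Subgroup.mem_subgroupOf] at h
  simpa [mul_assoc] using h

end Cfsg.Agent.H44
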