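import Cfsg.Agent.Golay.Code
import Cfsg.Agent.Golay.CodeFacts

/-! The punctured length-23 code. -/

set_option autoImplicit false

namespace Cfsg.Agent.H44

open Cfsg

/-- Dropping the extra coordinate. -/
def punct (w : GolayPt → ZMod 2) : ZMod 23 → ZMod 2 := fun x => w (some x)

/-- The punctured code, as the statements write it. -/
def punctCode : Set (ZMod 23 → ZMod 2) :=
  {u | ∃ w ∈ golayCode, ∀ x : ZMod 23, u x = w (some x)}

theorem punctCode_eq : punctCode = punct '' (golayCode : Set (GolayPt → ZMod 2)) := by
  ext u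
  constructor
  · rintro ⟨w, hw, h⟩; exact ⟨w, hw, (funext h).symm⟩
  · rintro ⟨w, hw, rfl⟩; exact ⟨w, hw, fun _ => rfl⟩

theorem support_punct (w : GolayPt → ZMod 2) :
    (Finset.univ.filter fun x => punct w x ≠ 0).map Function.Embedding.some =
      (support₂ w).erase none := by
  ext p
  rcases p with _ | x <;> simp [punct, support₂]
  all_goals exact Finset.mem_filter.trans (by simp)

theorem hammingNorm_punct (w : GolayPt → ZMod 2) :
    hammingNorm (punct w) = ((support₂ w).erase none).card := by
  rw [← support_punct, Finset.card_map]; rfl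

theorem punct_norm_ge {w : GolayPt → ZMod 2} (hw : w ∈ golayCode) (h0 : w ≠ 0) :
    7 ≤ hammingNorm (punct w) := by
  rw [hammingNorm_punct]
  have h : (support₂ w).card ≠ 0 := by
    rw [Ne, Finset.card_eq_zero]
    intro h
    exact h0 (Golay.support₂_injective (h.trans (by ext; simp [support₂])))
  have := Finset.pred_card_le_card_erase (s := support₂ w) (a := none)
  rcases Golay.card_support hw with e | e | e | e | e <;> omega

theorem punct_sub (v w : GolayPt → ZMod 2) : punct (v - w) = punct v - punct w := rfl

theorem punct_injOn : Set.InjOn punct (golayCode : Set (GolayPt → ZMod 2)) := by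
  intro v hv w hw h
  by_contra hne
  have := punct_norm_ge (sub_mem hv hw) (sub_ne_zero.2 hne)
  rw [punct_sub, h, sub_self, hammingNorm_zero] at this
  omega

theorem punctCode_dist {c c' : ZMod 23 → ZMod 2} (hc : c ∈ punctCode) (hc' : c' ∈ punctCode)
    (hne : c ≠ c') : 7 ≤ hammingNorm (c - c') := by
  rw [punctCode_eq] at hc hc'
  obtain ⟨v, hv, rfl⟩ := hc
  obtain ⟨w, hw, rfl⟩ := hc'
  rw [← punct_sub]
  exact punct_norm_ge (sub_mem hv hw) (sub_ne_zero.2 fun h => hne (by rw [h]))

theorem ncard_punctCode : punctCode.ncard = 4096 := by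
  rw [punctCode_eq, punct_injOn.ncard_image]
  exact Golay.card_golayCode

/-- Number of punctured code words of a given weight, read off the list of masks. -/
theorem ncard_punct_weight (k : ℕ) :
    {u | u ∈ punctCode ∧ hammingNorm u = k}.ncard =
      (Golay.codeList.filter fun m => Golay.popCnt (m &&& (2 ^ 23 - 1)) == k).length := by
  set l := Golay.codeList.filter fun m => Golay.popCnt (m &&& (2 ^ 23 - 1)) == k with hl
  have hmask : Golay.ptSet (2 ^ 23 - 1) = (Finset.univ : Finset GolayPt).erase none := by
    decide +kernel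
  have hn : ∀ w : GolayPt → ZMod 2,
      hammingNorm (punct w) = Golay.popCnt (Golay.wordMask w &&& (2 ^ 23 - 1)) := by
    intro w
    rw [hammingNorm_punct, ← Golay.card_ptSet, Golay.ptSet_and, Golay.ptSet_wordMask, hmask]
    congr 1
    ext p; simp [and_comm]
  have e : {u | u ∈ punctCode ∧ hammingNorm u = k} =
      (fun m => punct (Golay.maskWord m)) '' {m | m ∈ l} := by
    ext u
    simp only [hl, List.mem_filter, Set.mem_setOf_eq, Set.mem_image, beq_iff_eq, punctCode_eq,
      SetLike.mem_coe]
    constructor
    · rintro ⟨⟨w, hw, rfl⟩, hk⟩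
      exact ⟨Golay.wordMask w, ⟨Golay.mem_golayCode_iff.1 hw, (hn w).symm.trans hk⟩,
        by rw [Golay.maskWord_wordMask]⟩
    · rintro ⟨m, ⟨hm, hk⟩, rfl⟩
      have hw : Golay.maskWord m ∈ golayCode := Golay.mem_golayCode_iff.2 (by
        rw [Golay.wordMask_maskWord (Golay.codeList_lt hm)]; exact hm)
      refine ⟨⟨_, hw, rfl⟩, ?_⟩
      rw [hn, Golay.wordMask_maskWord (Golay.codeList_lt hm), hk]
  have hinj : Set.InjOn (fun m => punct (Golay.maskWord m)) {m | m ∈ l} := by
    intro a ha b hb hab
    have ha' : a ∈ Golay.codeList := (List.mem_filter.1 ha).1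
    have hb' : b ∈ Golay.codeList := (List.mem_filter.1 hb).1
    have := punct_injOn (Golay.mem_golayCode_iff.2 (by
        rw [Golay.wordMask_maskWord (Golay.codeList_lt ha')]; exact ha'))
      (Golay.mem_golayCode_iff.2 (by
        rw [Golay.wordMask_maskWord (Golay.codeList_lt hb')]; exact hb')) hab
    rw [← Golay.wordMask_maskWord (Golay.codeList_lt ha'), this,
      Golay.wordMask_maskWord (Golay.codeList_lt hb')]
  rw [e, hinj.ncard_image, show {m | m ∈ l} = (l.toFinset : Set ℕ) by ext; simp,
    Set.ncard_coe_finset, List.toFinset_card_of_nodup (Golay.codeList_nodup.filter _)]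

/-- Words of bounded weight correspond to small subsets. -/
theorem card_words_norm_eq {α : Type*} [Fintype α] [DecidableEq α] (k : ℕ) :
    (Finset.univ.filter fun v : α → ZMod 2 => hammingNorm v = k).card =
      (Fintype.card α).choose k := by
  rw [← Finset.card_univ, ← Finset.card_powersetCard]
  refine Finset.card_nbij (fun v => support₂ v) (fun v hv => ?_) (fun v _ w _ h =>
    Golay.support₂_injective h) (fun s hs => ?_)
  · exact Finset.mem_powersetCard.2 ⟨Finset.subset_univ _, (Finset.mem_filter.1 hv).2⟩
  · refine ⟨fun a => if a ∈ s then 1 else 0, ?_, ?_⟩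
    · simp only [Finset.coe_filter, Finset.mem_univ, true_and, Set.mem_setOf_eq]
      rw [← (Finset.mem_powersetCard.1 hs).2]
      unfold hammingNorm
      congr 1; ext a; simp
    · ext a; simp [support₂]

end Cfsg.Agent.H44
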