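import Cfsg.Agent.H44.OrbitTree
import Cfsg.Agent.H44.QuartetData

/-!
Kernel certificates for the list of quartets of the base dodecad.
-/

set_option autoImplicit false

namespace Cfsg.Agent.H44

open Cfsg Cfsg.Agent.Golay

/-- Membership in a list of numbers, by a bare recursor. -/
noncomputable def memN (l : List ℕ) (a : ℕ) : Bool :=
  List.rec false (fun b _ ih => Nat.beq a b || ih) l

lemma memN_iff {l : List ℕ} {a : ℕ} : memN l a = true ↔ a ∈ l := by
  induction l with
  | nil => simp [memN]
  | cons b t ih =>
    have h : memN (b :: t) a = (Nat.beq a b || memN t a) := rfl
    rw [h, Bool.or_eq_true, ih, Nat.beq_eq, List.mem_cons]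

/-- Two triples unite to a hexad. -/
noncomputable def compat (t u : ℕ) : Bool := Nat.beq (t &&& u) 0 && memN hexSixData (t ||| u)

/-- A number attached to a list of masks. -/
def qCode (q : List ℕ) : ℕ := (q.map fun t => t * t).sum

/-- The quartets of the base dodecad. -/
def qList : List (List ℕ) := quartetData

lemma hexSix_cert :
    (((octadList.filter fun o => popCnt (o &&& squareMask) == 6).map fun o => o &&& squareMask).all
      (memN hexSixData)) = true ∧
    (hexSixData.all fun h => octadList.any fun o => (o &&& squareMask == h) && (popCnt h == 6))
      = true := by
  decide +kernel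

lemma triple_cert :
    ((List.range 24).all fun i => (List.range 24).all fun j => (List.range 24).all fun k =>
      (!(squareMask.testBit i && squareMask.testBit j && squareMask.testBit k) ||
        i == j || i == k || j == k || tripleData.contains (2 ^ i ||| 2 ^ j ||| 2 ^ k))) = true ∧
    (tripleData.all fun t => decide (t < 2 ^ 24) && (popCnt t == 3) && (t &&& squareMask == t))
      = true := by
  decide +kernel

lemma adj_cert :
    (adjData.map fun e => e.1) = tripleData ∧
    (adjData.all fun e => (hexSixData.filter fun h => e.1 &&& h == e.1).all fun h =>
      memN e.2 (h ^^^ e.1)) = true := by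
  decide +kernel

lemma pair_cert :
    (adjData.all fun e => e.2.all fun u =>
      (qList.filter fun q => memN q e.1).any fun q => memN q u &&
        e.2.all fun w => memN q w || !(compat u w)) = true := by
  decide +kernel

lemma list_cert :
    (qList.all fun q => (q.length == 4) && (q.all (memN tripleData)) &&
      q.all fun t => q.all fun u => (t == u) || compat t u) = true ∧
    (qList.all fun q => isIncr q) = true ∧ isIncr (qList.map qCode) = true ∧
    qList.length = 220 := by
  decide +kernel

end Cfsg.Agent.H44
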