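import Cfsg.Agent.H44.Quartets

/-!
Orbits of the dodecad stabiliser and of a quartet stabiliser on quartets.
-/

set_option autoImplicit false

namespace Cfsg.Agent.H44

open Cfsg Cfsg.Agent.Golay
open scoped Pointwise

/-- Two lists have the same members. -/
def sameSet (l l' : List ℕ) : Bool := l.all l'.contains && l'.all l.contains

/-- Check steps `(child, parent, generator)` between indices of the quartet list. -/
def checkQSteps (gens : List ℕ) : List ℕ → List (ℕ × ℕ × ℕ) → Bool
  | _, [] => true
  | known, (c, p, i) :: rest =>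
      decide (i < gens.length) && known.contains p &&
        sameSet ((qList.getD p []).map (tblImg (gens.getD i 0))) (qList.getD c []) &&
        checkQSteps gens (c :: known) rest

lemma qFin_eq_of_sameSet {l l' : List ℕ} (h : sameSet l l' = true) : qFin l = qFin l' := by
  simp only [sameSet, Bool.and_eq_true, List.all_eq_true, List.contains_iff_mem] at h
  ext s
  simp only [qFin, List.mem_toFinset, List.mem_map]
  exact ⟨fun ⟨a, ha, e⟩ => ⟨a, h.1 a ha, e⟩, fun ⟨a, ha, e⟩ => ⟨a, h.2 a ha, e⟩⟩

theorem reach_of_checkQSteps {H : Subgroup (Equiv.Perm GolayPt)} {gens : List ℕ}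
    (hg : ∀ t ∈ gens, validT t = true ∧ mkPerm t ∈ H) (R : Finset (Finset GolayPt)) :
    ∀ (known : List ℕ) (L : List (ℕ × ℕ × ℕ)), checkQSteps gens known L = true →
      (∀ m ∈ known, ∃ σ ∈ H, σ • R = qFin (qList.getD m [])) →
      ∀ c ∈ known ++ L.map (fun s => s.1), ∃ σ ∈ H, σ • R = qFin (qList.getD c [])
  | known, [], _, hk, c, hc => hk c (by simpa using hc)
  | known, (a, p, i) :: rest, h, hk, c, hc => by
    simp only [checkQSteps, Bool.and_eq_true, decide_eq_true_eq, List.contains_iff_mem] at h
    obtain ⟨⟨⟨hi, hp⟩, hC⟩, hrest⟩ := h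
    refine reach_of_checkQSteps hg R (a :: known) rest hrest ?_ c ?_
    · intro m hm
      rcases List.mem_cons.1 hm with rfl | hm
      · obtain ⟨σ, hσ, hσr⟩ := hk p hp
        have ht : gens.getD i 0 ∈ gens := by
          rw [List.getD_eq_getElem _ _ hi]; exact List.getElem_mem hi
        obtain ⟨hv, hm'⟩ := hg _ ht
        refine ⟨mkPerm (gens.getD i 0) * σ, mul_mem hm' hσ, ?_⟩
        rw [mul_smul, hσr, ← qFin_map hv, qFin_eq_of_sameSet hC]
      · exact hk m hm
    · simp only [List.mem_append, List.map_cons, List.mem_cons] at hc ⊢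
      rcases hc with hc | hc | hc
      · exact Or.inl (Or.inr hc)
      · exact Or.inl (Or.inl hc)
      · exact Or.inr hc

lemma qList_index {q : List ℕ} (hq : q ∈ qList) :
    ∃ i < qList.length, qList.getD i [] = q := by
  obtain ⟨i, hi, rfl⟩ := List.mem_iff_getElem.1 hq
  exact ⟨i, hi, List.getD_eq_getElem _ _ hi⟩

lemma qList_getD_mem {i : ℕ} (hi : i < qList.length) : qList.getD i [] ∈ qList := by
  rw [List.getD_eq_getElem _ _ hi]
  exact List.getElem_mem hi

/-- The reference quartet as a family of sets. -/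
def rootQ : Finset (Finset GolayPt) := qFin qRoot

lemma move_cert :
    checkQSteps quartetMoveGens [0] quartetMoveSteps = true ∧
    (quartetMoveGens.all (inStab [squareMask] 0)) = true ∧
    ((List.range qList.length).all fun i =>
      (0 :: quartetMoveSteps.map fun s => s.1).contains i) = true := by
  decide +kernel

theorem exists_move {Q : Finset (Finset GolayPt)} (hQ : Q ∈ quartets (ptSet squareMask)) :
    ∃ σ ∈ stabGrp [squareMask] 0, σ • rootQ = Q := by
  obtain ⟨c1, c2, c3⟩ := move_cert
  obtain ⟨q, hq, rfl⟩ := exists_qList_eq hQ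
  obtain ⟨i, hi, rfl⟩ := qList_index hq
  have hg : ∀ t ∈ quartetMoveGens, validT t = true ∧ mkPerm t ∈ stabGrp [squareMask] 0 := by
    intro t ht
    have h := List.all_eq_true.1 c2 t ht
    refine ⟨?_, mem_stabGrp_of_inStab h⟩
    simp only [inStab, Bool.and_eq_true] at h
    exact validT_of_inM24 h.1.1
  refine reach_of_checkQSteps hg rootQ [0] _ c1 ?_ i ?_
  · intro m hm
    rw [List.mem_singleton] at hm
    exact ⟨1, one_mem _, by rw [one_smul, hm]; rfl⟩
  · have := List.all_eq_true.1 c3 i (List.mem_range.2 hi)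
    simpa [List.contains_iff_mem] using this

/-- The stabiliser of the base dodecad and the reference quartet. -/
def quartetStab : Subgroup (Equiv.Perm GolayPt) :=
  stabGrp [squareMask] 0 ⊓ MulAction.stabilizer (Equiv.Perm GolayPt) rootQ

/-- A table fixes the base dodecad and the reference quartet. -/
def inQStab (t : ℕ) : Bool := inStab [squareMask] 0 t && sameSet (qRoot.map (tblImg t)) qRoot

lemma mem_quartetStab_of_inQStab {t : ℕ} (h : inQStab t = true) :
    validT t = true ∧ mkPerm t ∈ quartetStab := by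
  rw [inQStab, Bool.and_eq_true] at h
  have hm := mem_stabGrp_of_inStab h.1
  have hv : validT t = true := by
    have := h.1
    simp only [inStab, Bool.and_eq_true] at this
    exact validT_of_inM24 this.1.1
  refine ⟨hv, hm, ?_⟩
  show mkPerm t • qFin qRoot = qFin qRoot
  rw [← qFin_map hv, qFin_eq_of_sameSet h.2]

lemma orbit_cert :
    (quartetStabGens.all inQStab) = true ∧
    (quartetOrbitTrees.all fun c => checkQSteps quartetStabGens [c.2.1] c.2.2 &&
      (List.range qList.length).all fun i =>
        !(qKey (qList.getD i []) == c.1) || (c.2.1 :: c.2.2.map fun s => s.1).contains i) = true ∧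
    ((List.range qList.length).all fun i =>
      quartetOrbitTrees.any fun c => qKey (qList.getD i []) == c.1) = true := by
  decide +kernel

theorem exists_orbit_map {Q Q' : Finset (Finset GolayPt)} (hQ : Q ∈ quartets (ptSet squareMask))
    (hQ' : Q' ∈ quartets (ptSet squareMask)) (h : keyRel rootQ Q = keyRel rootQ Q') :
    ∃ σ ∈ quartetStab, σ • Q = Q' := by
  obtain ⟨c1, c2, c3⟩ := orbit_cert
  obtain ⟨q, hq, rfl⟩ := exists_qList_eq hQ
  obtain ⟨q', hq', rfl⟩ := exists_qList_eq hQ'
  rw [rootQ, keyRel_qFin hq, keyRel_qFin hq'] at h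
  obtain ⟨i, hi, rfl⟩ := qList_index hq
  obtain ⟨j, hj, rfl⟩ := qList_index hq'
  have hi' := List.all_eq_true.1 c3 i (List.mem_range.2 hi)
  simp only [List.any_eq_true, beq_iff_eq] at hi'
  obtain ⟨c, hc, hck⟩ := hi'
  have hc' := List.all_eq_true.1 c2 c hc
  simp only [Bool.and_eq_true, List.all_eq_true, List.mem_range, Bool.or_eq_true,
    Bool.not_eq_true', beq_eq_false_iff_ne, List.contains_iff_mem] at hc'
  obtain ⟨hsteps, hcov⟩ := hc'
  have hg : ∀ t ∈ quartetStabGens, validT t = true ∧ mkPerm t ∈ quartetStab := fun t ht =>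
    mem_quartetStab_of_inQStab (List.all_eq_true.1 c1 t ht)
  have hr := reach_of_checkQSteps hg (qFin (qList.getD c.2.1 [])) [c.2.1] c.2.2 hsteps (by
    intro m hm
    rw [List.mem_singleton] at hm
    exact ⟨1, one_mem _, by rw [hm, one_smul]⟩)
  obtain ⟨σ, hσ, hσi⟩ := hr i (by
    simpa using (hcov i hi).resolve_left (not_not_intro hck))
  obtain ⟨τ, hτ, hτj⟩ := hr j (by
    simpa using (hcov j hj).resolve_left (not_not_intro (h.symm.trans hck)))
  exact ⟨τ * σ⁻¹, mul_mem hτ (inv_mem hσ), by rw [← hσi, mul_smul, inv_smul_smul, hτj]⟩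

lemma count_cert :
    (qList.filter fun q => qKey q == 4246).length = 12 ∧
    (qList.filter fun q => qKey q == 1096).length = 27 ∧
    (qList.filter fun q => qKey q == 871).length = 72 ∧
    (qList.filter fun q => qKey q == 421).length = 108 ∧
    (qList.filter fun q => qKey q == 16396) = [qRoot] ∧
    (qList.all fun q => [16396, 4246, 1096, 871, 421].contains (qKey q)) = true := by
  decide +kernel

end Cfsg.Agent.H44
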