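import Cfsg.Agent.H44.QuartetOrbits
import Cfsg.Agent.H44.LowerBound

/-!
The stabiliser of a quartet in the dodecad stabiliser: order 432, an affine group of the plane
over the field of three elements, transitive on the dodecad.
-/

set_option autoImplicit false

namespace Cfsg.Agent.H44

open Cfsg Cfsg.Agent.Golay
open scoped Pointwise

/-- The plane. -/
abbrev Plane : Type := Fin 2 → ZMod 3

/-- The invariant triple outside the dodecad. -/
def outerTriple : ℕ := 8407040

/-- The invariant nine points outside the dodecad. -/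
def nineMask : ℕ := 8029344

/-- The point with given coordinates. -/
def ninePt (v : Plane) : GolayPt := pt (ninePosData.getD (3 * (v 0).val + (v 1).val) 0)

/-- The coordinates of a point. -/
def nineCoord (p : GolayPt) : Plane :=
  ![((ninePosData.idxOf (idx p) / 3 : ℕ) : ZMod 3), ((ninePosData.idxOf (idx p) % 3 : ℕ) : ZMod 3)]

/-- A map of the points in coordinates. -/
def planeMap (s : GolayPt → GolayPt) (v : Plane) : Plane := nineCoord (s (ninePt v))

/-- The linear part of a map of the points. -/
def linPart (s : GolayPt → GolayPt) : Matrix (Fin 2) (Fin 2) (ZMod 3) :=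
  fun i j => (planeMap s (Pi.single j 1) - planeMap s 0) i

/-- The map preserves the nine points and is affine on them. -/
def IsAffineOnNine (s : GolayPt → GolayPt) : Prop :=
  (∀ v : Plane, nineMask.testBit (idx (s (ninePt v))) = true) ∧
    ∀ v : Plane, planeMap s v = (linPart s).mulVec v + planeMap s 0

instance (s : GolayPt → GolayPt) : Decidable (IsAffineOnNine s) := by
  unfold IsAffineOnNine; infer_instance

lemma coord_cert :
    (∀ v : Plane, nineCoord (ninePt v) = v) ∧
    (∀ p : GolayPt, nineMask.testBit (idx p) = true → ninePt (nineCoord p) = p) := by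
  decide +kernel

lemma affine_one : IsAffineOnNine id ∧ linPart id = 1 := by decide +kernel

lemma affine_comp {s r : GolayPt → GolayPt} (hs : IsAffineOnNine s) (hr : IsAffineOnNine r) :
    IsAffineOnNine (s ∘ r) ∧ linPart (s ∘ r) = linPart s * linPart r := by
  have key : ∀ v, planeMap (s ∘ r) v = (linPart s * linPart r).mulVec v +
      ((linPart s).mulVec (planeMap r 0) + planeMap s 0) := by
    intro v
    have e : r (ninePt v) = ninePt (planeMap r v) := (coord_cert.2 _ (hr.1 v)).symm
    rw [planeMap, Function.comp_apply, e, ← planeMap, hs.2, hr.2, Matrix.mulVec_add,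
      Matrix.mulVec_mulVec, add_assoc]
  have h0 : planeMap (s ∘ r) 0 = (linPart s).mulVec (planeMap r 0) + planeMap s 0 := by
    rw [key, Matrix.mulVec_zero, zero_add]
  have hlin : linPart (s ∘ r) = linPart s * linPart r := by
    ext i j
    rw [linPart, key, h0, add_sub_cancel_right, Matrix.mulVec_single_one]
    rfl
  refine ⟨⟨fun v => ?_, fun v => by rw [key v, h0, hlin]⟩, hlin⟩
  have e : r (ninePt v) = ninePt (planeMap r v) := (coord_cert.2 _ (hr.1 v)).symm
  rw [Function.comp_apply, e]
  exact hs.1 _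

lemma stab_level_cert :
    checkLower 0 quartetStabLevels = true ∧ chainCard quartetStabLevels = 432 ∧
    (quartetStabLevels.all fun l => l.2.all fun t =>
      inQStab t && (tblImg t outerTriple == outerTriple) && decide (IsAffineOnNine (tblFun t)))
      = true ∧
    isRigid [squareMask, outerTriple] nineMask = true ∧
    quartetStabLevels.head?.map (fun l => (l.1, orbitMask l.2 l.1)) = some (0, squareMask) := by
  decide +kernel

lemma card_orbit_rootQ :
    MulAction.orbit ↥(stabGrp [squareMask] 0) rootQ = quartets (ptSet squareMask) := by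
  ext Q
  constructor
  · rintro ⟨σ, rfl⟩
    have h := smul_mem_quartets σ.2.1 (qFin_mem_quartets qRoot_mem)
    rw [σ.2.2.1 squareMask (by simp)] at h
    exact h
  · intro hQ
    obtain ⟨σ, hσ, h⟩ := exists_move hQ
    exact ⟨⟨σ, hσ⟩, h⟩

theorem card_quartetStab : Nat.card quartetStab = 432 := by
  have h1 : MulAction.stabilizer ↥(stabGrp [squareMask] 0) rootQ
      = quartetStab.subgroupOf (stabGrp [squareMask] 0) := by
    ext g
    simp [quartetStab, Subgroup.mem_subgroupOf, Subgroup.smul_def]
  have h2 := Subgroup.card_mul_index (MulAction.stabilizer ↥(stabGrp [squareMask] 0) rootQ)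
  rw [MulAction.index_stabilizer, card_orbit_rootQ, h1,
    Nat.card_congr (Subgroup.subgroupOfEquivOfLe
      (show quartetStab ≤ stabGrp [squareMask] 0 from inf_le_left)).toEquiv,
    card_stabGrp m12Chain_check.1, m12Chain_check.2.2.1] at h2
  have h3 : (quartets (ptSet squareMask)).ncard = 220 := by
    have h := ncard_quartets_filter (P := fun _ => True) (fun _ => true) fun _ _ => by simp
    rw [List.filter_true, list_cert.2.2.2] at h
    simpa using h
  rw [h3] at h2
  omega

/-- The tables generate the stabiliser. -/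
theorem quartetStab_eq_closure :
    Subgroup.closure {σ | ∃ l ∈ quartetStabLevels, ∃ t ∈ l.2, σ = mkPerm t} = quartetStab := by
  obtain ⟨c1, c2, c3, -⟩ := stab_level_cert
  refine Subgroup.eq_of_le_of_card_ge ((Subgroup.closure_le _).2 ?_) ?_
  · rintro _ ⟨l, hl, t, ht, rfl⟩
    have h := List.all_eq_true.1 (List.all_eq_true.1 c3 l hl) t ht
    simp only [Bool.and_eq_true] at h
    exact (mem_quartetStab_of_inQStab h.1.1).2
  · rw [card_quartetStab, ← c2]
    exact chainCard_le_card 0 _ c1 _ fun l hl t ht =>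
      Subgroup.subset_closure ⟨l, hl, t, ht, rfl⟩

theorem quartetStab_facts {σ : Equiv.Perm GolayPt} (hσ : σ ∈ quartetStab) :
    IsAffineOnNine σ ∧ σ ∈ stabGrp [squareMask, outerTriple] 0 := by
  obtain ⟨c1, -, c3, -⟩ := stab_level_cert
  rw [← quartetStab_eq_closure, ← Subgroup.mem_toSubmonoid,
    Subgroup.closure_toSubmonoid_of_finite] at hσ
  induction hσ using Submonoid.closure_induction with
  | mem x hx =>
    obtain ⟨l, hl, t, ht, rfl⟩ := hx
    have h := List.all_eq_true.1 (List.all_eq_true.1 c3 l hl) t ht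
    simp only [Bool.and_eq_true, decide_eq_true_eq, beq_iff_eq] at h
    obtain ⟨hv, hm⟩ := mem_quartetStab_of_inQStab h.1.1
    have e : ⇑(mkPerm t) = tblFun t := funext fun p => mkPerm_apply hv p
    refine ⟨e ▸ h.2, hm.1.1, fun x hx => ?_, fun p hp => hm.1.2.2 p hp⟩
    rcases List.mem_cons.1 hx with rfl | hx
    · exact hm.1.2.1 _ (by simp)
    · rw [List.mem_singleton] at hx
      rw [hx, ← ptSet_tblImg hv, h.1.2]
  | one => exact ⟨affine_one.1, one_mem _⟩
  | mul x y _ _ hx hy => exact ⟨(affine_comp hx.1 hy.1).1, mul_mem hx.2 hy.2⟩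

/-- The linear part, as a homomorphism. -/
def linHom : quartetStab →* Matrix (Fin 2) (Fin 2) (ZMod 3) where
  toFun σ := linPart ((σ : Equiv.Perm GolayPt) : GolayPt → GolayPt)
  map_one' := affine_one.2
  map_mul' σ τ := (affine_comp (quartetStab_facts σ.2).1 (quartetStab_facts τ.2).1).2

theorem card_ker_linHom_le : Nat.card linHom.toHomUnits.ker ≤ 9 := by
  have hinj : Function.Injective fun σ : linHom.toHomUnits.ker =>
      planeMap (((σ : quartetStab) : Equiv.Perm GolayPt) : GolayPt → GolayPt) 0 := by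
    intro σ τ h
    have hlin : ∀ r : linHom.toHomUnits.ker,
        linPart (((r : quartetStab) : Equiv.Perm GolayPt) : GolayPt → GolayPt) = 1 := fun r =>
      congrArg Units.val r.2
    have hs := quartetStab_facts (σ : quartetStab).2
    have ht := quartetStab_facts (τ : quartetStab).2
    have heq : ∀ p : GolayPt, nineMask.testBit (idx p) = true →
        ((σ : quartetStab) : Equiv.Perm GolayPt) p = ((τ : quartetStab) : Equiv.Perm GolayPt) p := by
      intro p hp
      have e := coord_cert.2 p hp
      rw [← e, ← coord_cert.2 _ (hs.1.1 _), ← coord_cert.2 _ (ht.1.1 _)]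
      congr 1
      show planeMap _ _ = planeMap _ _
      rw [hs.1.2, ht.1.2, hlin σ, hlin τ]
      simp only at h
      rw [h]
    have hbot : (((τ : quartetStab) : Equiv.Perm GolayPt))⁻¹ * ((σ : quartetStab) : _) ∈
        stabGrp [squareMask, outerTriple] nineMask := by
      have hmem := mul_mem (inv_mem ht.2) hs.2
      refine ⟨hmem.1, hmem.2.1, fun p hp => ?_⟩
      rw [Equiv.Perm.mul_apply, heq p (mem_ptSet.1 hp), ← Equiv.Perm.mul_apply, inv_mul_cancel]
      rfl
    rw [stabGrp_eq_bot stab_level_cert.2.2.2.1, Subgroup.mem_bot, inv_mul_eq_one] at hbot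
    exact Subtype.ext (Subtype.ext hbot.symm)
  refine (Nat.card_le_card_of_injective _ hinj).trans ?_
  simp [Nat.card_eq_fintype_card]

theorem card_ker_and_surjective :
    Nat.card linHom.toHomUnits.ker = 9 ∧ Function.Surjective linHom.toHomUnits := by
  haveI : Fact (Nat.Prime 3) := ⟨Nat.prime_three⟩
  have hGL : Nat.card (GL (Fin 2) (ZMod 3)) = 48 := by
    rw [Matrix.card_GL_field]
    simp [Fin.prod_univ_two]
  have h := Subgroup.card_mul_index linHom.toHomUnits.ker
  rw [Subgroup.index_ker, card_quartetStab] at h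
  have h1 := card_ker_linHom_le
  have h2 : Nat.card linHom.toHomUnits.range ≤ 48 :=
    hGL ▸ Nat.card_le_card_of_injective _ Subtype.val_injective
  have h3 : Nat.card linHom.toHomUnits.ker = 9 := by nlinarith
  refine ⟨h3, MonoidHom.range_eq_top.1 (Subgroup.eq_top_of_card_eq _ ?_)⟩
  rw [hGL]
  nlinarith

theorem exists_stab_point {p q : GolayPt} (hp : p ∈ ptSet squareMask)
    (hq : q ∈ ptSet squareMask) : ∃ σ ∈ quartetStab, σ p = q := by
  obtain ⟨c1, -, -, -, c5⟩ := stab_level_cert
  obtain ⟨l, hl, hlv⟩ := Option.map_eq_some_iff.1 c5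
  simp only [Prod.mk.injEq] at hlv
  obtain ⟨hb, hm⟩ := hlv
  have hll : l ∈ quartetStabLevels := List.mem_of_head? hl
  have key : ∀ z ∈ ptSet squareMask, ∃ σ ∈ quartetStab, σ (pt 0) = z := by
    intro z hz
    rw [mem_ptSet, ← hm] at hz
    obtain ⟨t, ht, hat⟩ := (testBit_orbitMask _ _ _).1 hz
    refine ⟨mkPerm t, ?_, ?_⟩
    · rw [← quartetStab_eq_closure]; exact Subgroup.subset_closure ⟨l, hll, t, ht, rfl⟩
    · rw [← hb, mkPerm_pt (checkLower_valid 0 _ c1 l hll t ht) (by omega), hat, pt_idx]
  obtain ⟨σ, hσ, h1⟩ := key p hp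
  obtain ⟨τ, hτ, h2⟩ := key q hq
  refine ⟨τ * σ⁻¹, mul_mem hτ (inv_mem hσ), ?_⟩
  rw [Equiv.Perm.mul_apply, ← h1, Equiv.Perm.coe_inv, Equiv.symm_apply_apply, h2]

/-- Move a dodecad and one of its quartets to the base configuration. -/
theorem exists_base_quartet {d : Finset GolayPt} (hd : d ∈ dodecads)
    {Q : Finset (Finset GolayPt)} (hQ : Q ∈ quartets d) :
    ∃ g ∈ M24, g • d = ptSet squareMask ∧ g • Q = rootQ := by
  obtain ⟨g, hg, hgd⟩ := exists_base_dodecad hd
  obtain ⟨σ, hσ, h⟩ := exists_move (hgd ▸ smul_mem_quartets hg hQ)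
  refine ⟨σ⁻¹ * g, mul_mem (inv_mem hσ.1) hg, ?_, ?_⟩
  · rw [mul_smul, hgd, inv_smul_eq_iff, hσ.2.1 squareMask (by simp)]
  · rw [mul_smul, inv_smul_eq_iff, h]

lemma mem_quartetStab {σ : Equiv.Perm GolayPt} :
    σ ∈ quartetStab ↔ σ ∈ M24 ∧ σ • ptSet squareMask = ptSet squareMask ∧ σ • rootQ = rootQ := by
  simp [quartetStab, mem_stabGrp, ptSet_zero, and_assoc]

/-- The stabiliser of a dodecad and a quartet is the conjugate of the base one. -/
lemma mem_stab_iff_conj {g : Equiv.Perm GolayPt} (hg : g ∈ M24) {d : Finset GolayPt}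
    (hgd : g • d = ptSet squareMask) {Q : Finset (Finset GolayPt)} (hgQ : g • Q = rootQ) (x : M24) :
    x ∈ MulAction.stabilizer M24 d ⊓ MulAction.stabilizer M24 Q ↔
      g * (x : Equiv.Perm GolayPt) * g⁻¹ ∈ quartetStab := by
  rw [mem_quartetStab, conj_smul_iff g (x : Equiv.Perm GolayPt) hgd,
    conj_smul_iff g (x : Equiv.Perm GolayPt) hgQ]
  exact ⟨fun h => ⟨mul_mem (mul_mem hg x.2) (inv_mem hg), h⟩, fun h => h.2⟩

end Cfsg.Agent.H44
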