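import Cfsg.Agent.H44.OrbitTree
import Cfsg.Agent.H44.QuartetCerts
import Cfsg.Prelude.Def_SporadicCombinatorics

/-!
The quartets of a dodecad: enumeration on the base dodecad and transport to every dodecad.
-/

set_option autoImplicit false

namespace Cfsg.Agent.H44

open Cfsg Cfsg.Agent.Golay
open scoped Pointwise

/-- A list of masks as a family of sets. -/
def qFin (q : List ℕ) : Finset (Finset GolayPt) := (q.map ptSet).toFinset

/-- The reference quartet. -/
def qRoot : List ℕ := qList.getD 0 []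

/-- Invariant of a quartet relative to a reference one. -/
def keyRel (Q₀ Q : Finset (Finset GolayPt)) : ℕ := ∑ t ∈ Q, ∑ u ∈ Q₀, 16 ^ (t ∩ u).card

def qKey (q : List ℕ) : ℕ :=
  (q.map fun t => (qRoot.map fun u => 16 ^ popCnt (t &&& u)).sum).sum

/-! ### Translation to masks -/

lemma mem_hexSix {h : Finset GolayPt} :
    h ∈ hexadsOn (ptSet squareMask) ↔ maskOf h ∈ hexSixData := by
  obtain ⟨c1, c2⟩ := hexSix_cert
  simp only [List.all_eq_true, memN_iff, List.contains_iff_mem, List.mem_map, List.mem_filter, beq_iff_eq,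
    List.any_eq_true, Bool.and_eq_true, forall_exists_index] at c1 c2
  constructor
  · rintro ⟨h6, o, ho, rfl⟩
    have e : o ∩ ptSet squareMask = ptSet (maskOf o &&& squareMask) := by
      rw [ptSet_and, ptSet_maskOf]
    rw [e] at h6 ⊢
    rw [card_ptSet] at h6
    rw [maskOf_ptSet (and_lt_full (maskOf_lt o))]
    exact c1 _ _ ⟨⟨mem_octads_iff.1 ho, h6⟩, rfl⟩
  · intro hm
    obtain ⟨o, ho, hoh, h6⟩ := c2 _ hm
    refine ⟨by rw [← popCnt_maskOf, h6], ptSet o, ptSet_mem_octads ho, ?_⟩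
    rw [← ptSet_and, hoh, ptSet_maskOf]

lemma mem_tripleData {t : Finset GolayPt} :
    maskOf t ∈ tripleData ↔ t.card = 3 ∧ t ⊆ ptSet squareMask := by
  obtain ⟨c1, c2⟩ := triple_cert
  constructor
  · intro h
    have h' := List.all_eq_true.1 c2 _ h
    simp only [Bool.and_eq_true, beq_iff_eq, popCnt_maskOf] at h'
    refine ⟨h'.1.2, ?_⟩
    have e := congrArg ptSet h'.2
    rw [ptSet_and, ptSet_maskOf] at e
    exact Finset.inter_eq_left.1 e
  · rintro ⟨h3, hs⟩
    obtain ⟨a, b, c, hab, hac, hbc, rfl⟩ := Finset.card_eq_three.1 h3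
    simp only [List.all_eq_true, List.mem_range, Bool.or_eq_true, beq_iff_eq,
      Bool.not_eq_true', List.contains_iff_mem] at c1
    have hmem : ∀ z ∈ ({a, b, c} : Finset GolayPt), squareMask.testBit (idx z) = true :=
      fun z hz => mem_ptSet.1 (hs hz)
    have := c1 (idx a) (idx_lt a) (idx b) (idx_lt b) (idx c) (idx_lt c)
    rw [hmem a (by simp), hmem b (by simp), hmem c (by simp)] at this
    simp only [Bool.and_self, Bool.true_eq_false, false_or, idx_injective.eq_iff, hab, hac, hbc]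
      at this
    convert this
    refine ptSet_injOn (maskOf_lt _) ?_ ?_
    · exact Nat.or_lt_two_pow (Nat.or_lt_two_pow (two_pow_idx_lt a) (two_pow_idx_lt b))
        (two_pow_idx_lt c)
    · rw [ptSet_maskOf, ptSet_or, ptSet_or, ptSet_two_pow (idx_lt a), ptSet_two_pow (idx_lt b),
        ptSet_two_pow (idx_lt c), pt_idx, pt_idx, pt_idx]
      ext z
      simp [or_assoc]

lemma tripleData_lt {t : ℕ} (h : t ∈ tripleData) : t < 2 ^ 24 := by
  have h' := List.all_eq_true.1 triple_cert.2 _ h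
  simp only [Bool.and_eq_true, decide_eq_true_eq] at h'
  exact h'.1.1

lemma compat_iff {t u : Finset GolayPt} (ht : t.card = 3) (hu : u.card = 3) :
    compat (maskOf t) (maskOf u) = true ↔ t ∪ u ∈ hexadsOn (ptSet squareMask) := by
  have hu' : maskOf t ||| maskOf u = maskOf (t ∪ u) :=
    ptSet_injOn (Nat.or_lt_two_pow (maskOf_lt t) (maskOf_lt u)) (maskOf_lt _)
      (by rw [ptSet_or, ptSet_maskOf, ptSet_maskOf, ptSet_maskOf])
  rw [compat, Bool.and_eq_true, memN_iff, hu', ← mem_hexSix, Nat.beq_eq]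
  refine ⟨fun h => h.2, fun h => ⟨?_, h⟩⟩
  have hc := Finset.card_union_add_card_inter t u
  rw [h.1, ht, hu] at hc
  refine ptSet_injOn (and_lt_full (maskOf_lt t)) (by norm_num) ?_
  rw [ptSet_and, ptSet_maskOf, ptSet_maskOf, ptSet_zero]
  exact Finset.card_eq_zero.1 (by omega)

/-! ### The enumeration -/

lemma symmDiff_union_left {α : Type*} [DecidableEq α] {a b : Finset α} (h : Disjoint a b) :
    symmDiff (a ∪ b) a = b := by
  ext z
  have : z ∈ a → z ∉ b := fun h1 => Finset.disjoint_left.1 h h1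
  simp only [Finset.mem_symmDiff, Finset.mem_union]
  tauto

lemma qList_facts {q : List ℕ} (hq : q ∈ qList) :
    q.length = 4 ∧ q.Nodup ∧ (∀ t ∈ q, t ∈ tripleData) ∧
      ∀ t ∈ q, ∀ u ∈ q, t ≠ u → compat t u = true := by
  have h := List.all_eq_true.1 list_cert.1 q hq
  simp only [Bool.and_eq_true, beq_iff_eq, List.all_eq_true, List.contains_iff_mem, memN_iff,
    Bool.or_eq_true] at h
  exact ⟨h.1.1, isIncr_nodup (List.all_eq_true.1 list_cert.2.1 q hq), h.1.2,
    fun t ht u hu hne => (h.2 t ht u hu).resolve_left hne⟩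

lemma mem_qFin {q : List ℕ} (hq : q ∈ qList) {t : Finset GolayPt} :
    t ∈ qFin q ↔ maskOf t ∈ q := by
  rw [qFin, List.mem_toFinset, List.mem_map]
  constructor
  · rintro ⟨m, hm, rfl⟩
    rwa [maskOf_ptSet (tripleData_lt ((qList_facts hq).2.2.1 m hm))]
  · exact fun h => ⟨_, h, ptSet_maskOf t⟩

lemma map_ptSet_nodup {q : List ℕ} (hq : q ∈ qList) : (q.map ptSet).Nodup :=
  (qList_facts hq).2.1.map_on fun a ha b hb h => ptSet_injOn
    (tripleData_lt ((qList_facts hq).2.2.1 a ha)) (tripleData_lt ((qList_facts hq).2.2.1 b hb)) h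

lemma card_qFin {q : List ℕ} (hq : q ∈ qList) : (qFin q).card = 4 := by
  rw [qFin, List.toFinset_card_of_nodup (map_ptSet_nodup hq), List.length_map, (qList_facts hq).1]

theorem qFin_mem_quartets {q : List ℕ} (hq : q ∈ qList) :
    qFin q ∈ quartets (ptSet squareMask) := by
  refine ⟨card_qFin hq, fun t ht => mem_tripleData.1 ((qList_facts hq).2.2.1 _ ((mem_qFin hq).1 ht)),
    fun t ht u hu hne => ?_⟩
  have h3 : ∀ v ∈ qFin q, v.card = 3 := fun v hv =>
    (mem_tripleData.1 ((qList_facts hq).2.2.1 _ ((mem_qFin hq).1 hv))).1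
  exact (compat_iff (h3 t ht) (h3 u hu)).1 ((qList_facts hq).2.2.2 _ ((mem_qFin hq).1 ht) _
    ((mem_qFin hq).1 hu) fun h => hne (maskOf_injective h))

/-- Two compatible triples lie in a listed quartet containing all triples compatible with both. -/
lemma exists_qList_of_pair {t u : Finset GolayPt} (ht : t.card = 3) (hts : t ⊆ ptSet squareMask)
    (hu : u.card = 3) (hus : u ⊆ ptSet squareMask)
    (h : t ∪ u ∈ hexadsOn (ptSet squareMask)) :
    ∃ q ∈ qList, t ∈ qFin q ∧ u ∈ qFin q ∧ ∀ w : Finset GolayPt, w.card = 3 →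
      w ⊆ ptSet squareMask → t ∪ w ∈ hexadsOn (ptSet squareMask) →
      u ∪ w ∈ hexadsOn (ptSet squareMask) → w ∈ qFin q := by
  obtain ⟨c1, c2⟩ := adj_cert
  have htm : maskOf t ∈ adjData.map fun e => e.1 := by
    rw [c1]; exact mem_tripleData.2 ⟨ht, hts⟩
  obtain ⟨e, he, hte⟩ := List.mem_map.1 htm
  have hadj : ∀ w : Finset GolayPt, w.card = 3 → w ⊆ ptSet squareMask →
      t ∪ w ∈ hexadsOn (ptSet squareMask) → maskOf w ∈ e.2 := by
    intro w hw hws hh
    have hd : Disjoint t w := by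
      have hc := Finset.card_union_add_card_inter t w
      rw [hh.1, ht, hw] at hc
      exact Finset.disjoint_iff_inter_eq_empty.2 (Finset.card_eq_zero.1 (by omega))
    have hsub : maskOf t &&& maskOf (t ∪ w) = maskOf t :=
      ptSet_injOn (and_lt_full (maskOf_lt t)) (maskOf_lt t)
        (by rw [ptSet_and, ptSet_maskOf, ptSet_maskOf, Finset.inter_eq_left]
            exact Finset.subset_union_left)
    have hx : maskOf (t ∪ w) ^^^ maskOf t = maskOf w :=
      ptSet_injOn (xor_lt_full (maskOf_lt _) (maskOf_lt t)) (maskOf_lt w)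
        (by rw [ptSet_xor, ptSet_maskOf, ptSet_maskOf, ptSet_maskOf]
            exact symmDiff_union_left hd)
    have h := List.all_eq_true.1 (List.all_eq_true.1 c2 e he) (maskOf (t ∪ w))
      (List.mem_filter.2 ⟨mem_hexSix.1 hh, by rw [hte, hsub]; exact beq_self_eq_true _⟩)
    rw [hte, hx] at h
    exact memN_iff.1 h
  have hp := List.all_eq_true.1 (List.all_eq_true.1 pair_cert e he) _ (hadj u hu hus h)
  simp only [List.any_eq_true, Bool.and_eq_true, memN_iff, List.all_eq_true, List.mem_filter,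
    Bool.or_eq_true, Bool.not_eq_true'] at hp
  obtain ⟨q, ⟨hq, h1⟩, h2, h3⟩ := hp
  rw [hte] at h1
  refine ⟨q, hq, (mem_qFin hq).2 h1, (mem_qFin hq).2 h2, fun w hw hws hh hh' => ?_⟩
  refine (mem_qFin hq).2 ((h3 _ (hadj w hw hws hh)).resolve_right ?_)
  rw [(compat_iff hu hw).2 hh']
  simp

theorem quartet_eq_of_pair {Q : Finset (Finset GolayPt)} (hQ : Q ∈ quartets (ptSet squareMask))
    {q : List ℕ} (hq : q ∈ qList) {t u : Finset GolayPt} (ht : t ∈ Q) (hu : u ∈ Q)
    (htq : t ∈ qFin q) (huq : u ∈ qFin q)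
    (hall : ∀ w : Finset GolayPt, w.card = 3 → w ⊆ ptSet squareMask →
      t ∪ w ∈ hexadsOn (ptSet squareMask) → u ∪ w ∈ hexadsOn (ptSet squareMask) → w ∈ qFin q) :
    Q = qFin q := by
  refine Finset.eq_of_subset_of_card_le (fun w hw => ?_) (by rw [card_qFin hq, hQ.1])
  rcases eq_or_ne w t with rfl | h1
  · exact htq
  rcases eq_or_ne w u with rfl | h2
  · exact huq
  exact hall w (hQ.2.1 w hw).1 (hQ.2.1 w hw).2 (hQ.2.2 t ht w hw (Ne.symm h1))
    (hQ.2.2 u hu w hw (Ne.symm h2))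

theorem exists_qList_eq {Q : Finset (Finset GolayPt)} (hQ : Q ∈ quartets (ptSet squareMask)) :
    ∃ q ∈ qList, Q = qFin q := by
  obtain ⟨t, ht, u, hu, hne⟩ := Finset.one_lt_card.1 (by rw [hQ.1]; norm_num : 1 < Q.card)
  obtain ⟨q, hq, h1, h2, h3⟩ := exists_qList_of_pair (hQ.2.1 t ht).1 (hQ.2.1 t ht).2
    (hQ.2.1 u hu).1 (hQ.2.1 u hu).2 (hQ.2.2 t ht u hu hne)
  exact ⟨q, hq, quartet_eq_of_pair hQ hq ht hu h1 h2 h3⟩

theorem quartets_eq_image : quartets (ptSet squareMask) = qFin '' {q | q ∈ qList} := by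
  ext Q
  constructor
  · intro hQ
    obtain ⟨q, hq, rfl⟩ := exists_qList_eq hQ
    exact ⟨q, hq, rfl⟩
  · rintro ⟨q, hq, rfl⟩
    exact qFin_mem_quartets hq

lemma qCode_qFin {q : List ℕ} (hq : q ∈ qList) :
    qCode q = ∑ t ∈ qFin q, maskOf t * maskOf t := by
  rw [qFin, List.sum_toFinset _ (map_ptSet_nodup hq), List.map_map, qCode]
  congr 1
  refine List.map_congr_left fun t ht => ?_
  simp [maskOf_ptSet (tripleData_lt ((qList_facts hq).2.2.1 t ht))]

lemma qFin_injOn : Set.InjOn qFin {q | q ∈ qList} := fun q hq q' hq' h =>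
  List.inj_on_of_nodup_map (isIncr_nodup list_cert.2.2.1) hq hq'
    (by rw [qCode_qFin hq, qCode_qFin hq', h])

/-- Count quartets of the base dodecad. -/
lemma ncard_quartets_filter {P : Finset (Finset GolayPt) → Prop} (p : List ℕ → Bool)
    (h : ∀ q ∈ qList, P (qFin q) ↔ p q = true) :
    {Q | Q ∈ quartets (ptSet squareMask) ∧ P Q}.ncard = (qList.filter p).length := by
  have hn : (qList.filter p).Nodup :=
    (List.Nodup.of_map _ (isIncr_nodup list_cert.2.2.1)).filter p
  rw [show {Q | Q ∈ quartets (ptSet squareMask) ∧ P Q} = qFin '' {q | q ∈ qList.filter p} from ?_]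
  · rw [(qFin_injOn.mono (show {q | q ∈ qList.filter p} ⊆ {q | q ∈ qList} from
      fun q hq => (List.mem_filter.1 hq).1)).ncard_image,
      show {q | q ∈ qList.filter p} = ((qList.filter p).toFinset : Set (List ℕ)) by ext; simp,
      Set.ncard_coe_finset, List.toFinset_card_of_nodup hn]
  · ext Q
    constructor
    · rintro ⟨hQ, hP⟩
      obtain ⟨q, hq, rfl⟩ := exists_qList_eq hQ
      exact ⟨q, List.mem_filter.2 ⟨hq, (h q hq).1 hP⟩, rfl⟩
    · rintro ⟨q, hq, rfl⟩
      obtain ⟨h1, h2⟩ := List.mem_filter.1 hq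
      exact ⟨qFin_mem_quartets h1, (h q h1).2 h2⟩

/-! ### Transport -/

lemma smul_mem_hexadsOn {σ : Equiv.Perm GolayPt} (hσ : σ ∈ M24) {d h : Finset GolayPt}
    (hh : h ∈ hexadsOn d) : σ • h ∈ hexadsOn (σ • d) := by
  obtain ⟨h6, o, ho, rfl⟩ := hh
  exact ⟨by rw [Finset.card_smul_finset, h6], σ • o, smul_mem_octads hσ ho,
    (Finset.smul_finset_inter).symm⟩

lemma smul_mem_quartets {σ : Equiv.Perm GolayPt} (hσ : σ ∈ M24) {d : Finset GolayPt}
    {Q : Finset (Finset GolayPt)} (hQ : Q ∈ quartets d) : σ • Q ∈ quartets (σ • d) := by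
  obtain ⟨h4, h3, hh⟩ := hQ
  refine ⟨by rw [Finset.card_smul_finset, h4], fun t ht => ?_, fun t ht u hu hne => ?_⟩
  · obtain ⟨t, ht', rfl⟩ := Finset.mem_smul_finset.1 ht
    exact ⟨by rw [Finset.card_smul_finset, (h3 t ht').1],
      Finset.smul_finset_subset_smul_finset (h3 t ht').2⟩
  · obtain ⟨t, ht', rfl⟩ := Finset.mem_smul_finset.1 ht
    obtain ⟨u, hu', rfl⟩ := Finset.mem_smul_finset.1 hu
    rw [← Finset.smul_finset_union]
    exact smul_mem_hexadsOn hσ (hh t ht' u hu' fun h => hne (h ▸ rfl))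

lemma smul_mem_quartets_iff {σ : Equiv.Perm GolayPt} (hσ : σ ∈ M24) {d : Finset GolayPt}
    {Q : Finset (Finset GolayPt)} : σ • Q ∈ quartets (σ • d) ↔ Q ∈ quartets d :=
  ⟨fun h => by simpa using smul_mem_quartets (inv_mem hσ) h, smul_mem_quartets hσ⟩

lemma exists_base_dodecad {d : Finset GolayPt} (hd : d ∈ dodecads) :
    ∃ g ∈ M24, g • d = ptSet squareMask := by
  obtain ⟨g, hg⟩ := exists_M24_map_dodecad hd squareDodecad_mem
  exact ⟨g, g.2, by rw [ptSet_squareMask]; exact hg⟩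

lemma qFin_map {T : ℕ} (hT : validT T = true) (q : List ℕ) :
    qFin (q.map (tblImg T)) = mkPerm T • qFin q := by
  ext s
  simp only [qFin, List.mem_toFinset, List.mem_map, List.map_map, Finset.mem_smul_finset,
    Function.comp_apply, ptSet_tblImg hT]
  constructor
  · rintro ⟨a, ha, rfl⟩; exact ⟨_, ⟨a, ha, rfl⟩, rfl⟩
  · rintro ⟨_, ⟨a, ha, rfl⟩, rfl⟩; exact ⟨a, ha, rfl⟩

lemma keyRel_smul (σ : Equiv.Perm GolayPt) (Q₀ Q : Finset (Finset GolayPt)) :
    keyRel (σ • Q₀) (σ • Q) = keyRel Q₀ Q := by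
  have hinj : ∀ R : Finset (Finset GolayPt),
      σ • R = R.image fun t => σ • t := fun R => rfl
  rw [keyRel, hinj Q, Finset.sum_image fun a _ b _ h => MulAction.injective σ h]
  refine Finset.sum_congr rfl fun t _ => ?_
  rw [hinj Q₀, Finset.sum_image fun a _ b _ h => MulAction.injective σ h]
  simp [card_inter_smul]

lemma qRoot_mem : qRoot ∈ qList := by decide +kernel

lemma keyRel_qFin {q : List ℕ} (hq : q ∈ qList) : keyRel (qFin qRoot) (qFin q) = qKey q := by
  rw [keyRel, qFin, qFin, List.sum_toFinset _ (map_ptSet_nodup hq), List.map_map, qKey]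
  congr 1
  refine List.map_congr_left fun t _ => ?_
  rw [Function.comp_apply, List.sum_toFinset _ (map_ptSet_nodup qRoot_mem), List.map_map]
  congr 1
  refine List.map_congr_left fun u _ => ?_
  rw [Function.comp_apply, ← ptSet_and, card_ptSet]

end Cfsg.Agent.H44
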