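import Cfsg.Prelude.Def_SporadicB

/-! Elementary facts on 3-transposition sets. -/

set_option autoImplicit false

namespace Cfsg.Agent.H44

variable {G : Type*} [Group G] {D : Set G}

theorem tt_mul_self (hD : IsThreeTranspositionSet D) {d : G} (hd : d ∈ D) : d * d = 1 := by
  have h := pow_orderOf_eq_one d
  rwa [hD.1 d hd, pow_two] at h

theorem tt_inv (hD : IsThreeTranspositionSet D) {d : G} (hd : d ∈ D) : d⁻¹ = d :=
  inv_eq_of_mul_eq_one_left (tt_mul_self hD hd)

theorem tt_ne_one (hD : IsThreeTranspositionSet D) {d : G} (hd : d ∈ D) : d ≠ 1 := by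
  intro h
  have h2 := hD.1 d hd
  rw [h, orderOf_one] at h2
  omega

theorem tt_cube (hD : IsThreeTranspositionSet D) {a b : G} (ha : a ∈ D) (hb : b ∈ D)
    (h : ¬ Commute a b) : (a * b) ^ 3 = 1 := by
  refine (hD.2 a ha b hb).resolve_left fun h2 => h ?_
  have h4 : a * b = (a * b)⁻¹ := by rw [eq_inv_iff_mul_eq_one, ← pow_two, h2]
  rw [mul_inv_rev, tt_inv hD ha, tt_inv hD hb] at h4
  exact h4

theorem tt_braid (hD : IsThreeTranspositionSet D) {a b : G} (ha : a ∈ D) (hb : b ∈ D)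
    (h : ¬ Commute a b) : a * b * a = b * a * b := by
  have e : (a * b * a) * (b * a * b) = 1 := by
    rw [← tt_cube hD ha hb h]; simp only [pow_succ, pow_zero, one_mul, mul_assoc]
  rw [eq_inv_of_mul_eq_one_left e, mul_inv_rev, mul_inv_rev, tt_inv hD ha, tt_inv hD hb, mul_assoc]

/-- Conjugation by a member. -/
theorem tt_conj_eq (hD : IsThreeTranspositionSet D) {a : G} (ha : a ∈ D) (b : G) :
    a * b * a⁻¹ = a * b * a := by
  rw [tt_inv hD ha]

theorem tt_invariant (hD : IsThreeTranspositionClass D) (g : G) {d : G} (hd : d ∈ D) :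
    g * d * g⁻¹ ∈ D := by
  obtain ⟨d₀, -, e⟩ := hD.2.1
  rw [e] at hd ⊢
  simp only [conjugatesOf, Set.mem_setOf_eq, isConj_iff] at hd ⊢
  obtain ⟨c, rfl⟩ := hd
  exact ⟨g * c, by group⟩

theorem tt_class_conj (hD : IsThreeTranspositionClass D) {a b : G} (ha : a ∈ D) (hb : b ∈ D) :
    ∃ g : G, g * a * g⁻¹ = b := by
  obtain ⟨d₀, -, e⟩ := hD.2.1
  rw [e] at ha hb
  simp only [conjugatesOf, Set.mem_setOf_eq, isConj_iff] at ha hb
  obtain ⟨c, rfl⟩ := ha
  obtain ⟨c', rfl⟩ := hb
  exact ⟨c' * c⁻¹, by group⟩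

theorem commute_conj_iff (g a b : G) :
    Commute (g * a * g⁻¹) (g * b * g⁻¹) ↔ Commute a b := by
  constructor
  · intro h
    have h' : g * a * g⁻¹ * (g * b * g⁻¹) = g * b * g⁻¹ * (g * a * g⁻¹) := h
    have e : g * (a * b) * g⁻¹ = g * (b * a) * g⁻¹ := by
      calc g * (a * b) * g⁻¹ = g * a * g⁻¹ * (g * b * g⁻¹) := by group
        _ = g * b * g⁻¹ * (g * a * g⁻¹) := h'
        _ = g * (b * a) * g⁻¹ := by group
    exact mul_left_cancel (mul_right_cancel e)
  · intro h
    show g * a * g⁻¹ * (g * b * g⁻¹) = g * b * g⁻¹ * (g * a * g⁻¹)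
    calc g * a * g⁻¹ * (g * b * g⁻¹) = g * (a * b) * g⁻¹ := by group
      _ = g * (b * a) * g⁻¹ := by rw [h.eq]
      _ = g * b * g⁻¹ * (g * a * g⁻¹) := by group

/-- In a 3-transposition class any two members are joined by a chain of non-commuting pairs. -/
theorem tt_noncommute_connected (hD : IsThreeTranspositionClass D) {a b : G} (ha : a ∈ D)
    (hb : b ∈ D) :
    Relation.ReflTransGen (fun p q => p ∈ D ∧ q ∈ D ∧ ¬ Commute p q) a b := by
  let R : G → G → Prop := fun p q => p ∈ D ∧ q ∈ D ∧ ¬ Commute p q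
  have step : ∀ d ∈ D, ∀ c ∈ D, Relation.ReflTransGen R c (d * c * d⁻¹) := by
    intro d hd c hc
    rw [tt_conj_eq hD.1 hd]
    by_cases h : Commute d c
    · rw [h.eq, mul_assoc, tt_mul_self hD.1 hd, mul_one]
    · have hm : d * c * d ∈ D := by
        rw [← tt_conj_eq hD.1 hd]; exact tt_invariant hD d hc
      refine (Relation.ReflTransGen.single ⟨hc, hd, fun e => h e.symm⟩).trans
        (Relation.ReflTransGen.single ⟨hd, hm, fun e => h ?_⟩)
      show d * c = c * d
      have e' : d * (d * c * d) = d * c * d * d := e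
      rw [← mul_assoc, ← mul_assoc, tt_mul_self hD.1 hd, one_mul, mul_assoc (d * c) d d,
        tt_mul_self hD.1 hd, mul_one] at e'
      exact e'.symm
  let S : Subgroup G :=
    { carrier := {g | ∀ c ∈ D, Relation.ReflTransGen R c (g * c * g⁻¹)}
      one_mem' := fun c _ => by rw [one_mul, inv_one, mul_one]
      mul_mem' := by
        intro g k hg hk c hc
        have h := (hk c hc).trans (hg _ (tt_invariant hD k hc))
        rwa [show g * (k * c * k⁻¹) * g⁻¹ = g * k * c * (g * k)⁻¹ by group] at h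
      inv_mem' := by
        intro g hg c hc
        have h := hg _ (tt_invariant hD g⁻¹ hc)
        rw [show g * (g⁻¹ * c * g⁻¹⁻¹) * g⁻¹ = c by group] at h
        haveI : Std.Symm R := ⟨fun p q hpq => ⟨hpq.2.1, hpq.1, fun e => hpq.2.2 e.symm⟩⟩
        exact Relation.ReflTransGen.symmetric.symm _ _ h }
  have hS : S = ⊤ := top_le_iff.1 (hD.2.2 ▸ (Subgroup.closure_le S).2 fun d hd => step d hd)
  obtain ⟨g, rfl⟩ := tt_class_conj hD ha hb
  have hg : g ∈ S := by rw [hS]; exact Subgroup.mem_top g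
  exact hg a ha

end Cfsg.Agent.H44
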