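import Cfsg.Agent.H44.TTBasic
import Cfsg.Agent.H44.PerfectSolvable

/-!
Block systems of a class of 3-transpositions in which two blocks either commute elementwise or
nowhere.  Such a system yields a solvable normal subgroup.
-/

set_option autoImplicit false

namespace Cfsg.Agent.H44

variable {G : Type*} [Group G]

/-- An invariant equivalence relation on `D` for which commutation of members of different
classes depends only on the classes. -/
structure TTBlocks (D : Set G) where
  r : G → G → Prop
  refl : ∀ {u}, u ∈ D → r u u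
  symm : ∀ {u v}, r u v → r v u
  trans : ∀ {u v w}, r u v → r v w → r u w
  conj : ∀ (g : G) {u v}, r u v → r (g * u * g⁻¹) (g * v * g⁻¹)
  mem : ∀ {u v}, r u v → u ∈ D ∧ v ∈ D
  const : ∀ {u v w}, r u v → w ∈ D → ¬ r u w → (Commute w u ↔ Commute w v)

namespace TTBlocks

variable {D : Set G} (hD : IsThreeTranspositionClass D) (S : TTBlocks D)

/-- The elements fixing every block. -/
def kernel : Subgroup G where
  carrier := {g | ∀ u ∈ D, S.r u (g * u * g⁻¹)}
  one_mem' := fun u hu => by rw [one_mul, inv_one, mul_one]; exact S.refl hu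
  mul_mem' := by
    intro g k hg hk u hu
    have h := S.trans (hk u hu) (hg _ (S.mem (hk u hu)).2)
    rwa [show g * (k * u * k⁻¹) * g⁻¹ = g * k * u * (g * k)⁻¹ by group] at h
  inv_mem' := by
    intro g hg u hu
    have h := S.conj g⁻¹ (hg u hu)
    rw [show g⁻¹ * (g * u * g⁻¹) * g⁻¹⁻¹ = u by group] at h
    exact S.symm h

include hD

theorem kernel_conj (g : G) {n : G} (hn : n ∈ S.kernel) : g * n * g⁻¹ ∈ S.kernel := by
  intro u hu
  have h := S.conj g (hn (g⁻¹ * u * g⁻¹⁻¹) (tt_invariant hD g⁻¹ hu))
  rw [show g * (g⁻¹ * u * g⁻¹⁻¹) * g⁻¹ = u by group,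
    show g * (n * (g⁻¹ * u * g⁻¹⁻¹) * n⁻¹) * g⁻¹ = g * n * g⁻¹ * u * (g * n * g⁻¹)⁻¹ by group] at h
  exact h

theorem mul_mem_kernel {u v : G} (h : S.r u v) : u * v ∈ S.kernel := by
  intro w hw
  obtain ⟨hu, hv⟩ := S.mem h
  have iu := tt_inv hD.1 hu
  have iv := tt_inv hD.1 hv
  have key : S.r (u * w * u) (v * w * v) := by
    by_cases hwu : S.r u w
    · have h1 := S.conj u hwu
      rw [show u * u * u⁻¹ = u by group, iu] at h1
      have h2 := S.conj v (S.trans (S.symm h) hwu)
      rw [show v * v * v⁻¹ = v by group, iv] at h2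
      exact S.trans (S.trans (S.symm h1) h) h2
    · have hc := S.const h hw hwu
      by_cases hcu : Commute w u
      · rw [← hcu.eq, mul_assoc, tt_mul_self hD.1 hu, mul_one, ← (hc.1 hcu).eq, mul_assoc,
          tt_mul_self hD.1 hv, mul_one]
        exact S.refl hw
      · rw [← tt_braid hD.1 hw hu hcu, ← tt_braid hD.1 hw hv fun e => hcu (hc.2 e)]
        have h1 := S.conj w h
        rwa [tt_conj_eq hD.1 hw, tt_conj_eq hD.1 hw] at h1
  have h1 := S.conj u key
  rw [iu, show u * (u * w * u) * u = (u * u) * w * (u * u) by group, tt_mul_self hD.1 hu, one_mul,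
    mul_one, show u * (v * w * v) * u = u * v * w * (v * u) by group] at h1
  rw [mul_inv_rev, iv, iu]
  exact h1

omit hD

/-- The subgroup of the kernel generated by the products of two members of the block of `u`. -/
def blockSub (u : G) : Subgroup S.kernel :=
  Subgroup.closure {n | ∃ a b, S.r u a ∧ S.r u b ∧ (n : G) = a * b}

include hD

theorem blockSub_normal (u : G) : (S.blockSub u).Normal := by
  refine ⟨fun n hn g => ?_⟩
  have hmap : (S.blockSub u).map (MulAut.conj g).toMonoidHom ≤ S.blockSub u := by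
    rw [blockSub, MonoidHom.map_closure, Subgroup.closure_le]
    rintro _ ⟨m, ⟨a, b, ha, hb, hab⟩, rfl⟩
    refine Subgroup.subset_closure ⟨(g : G) * a * (g : G)⁻¹, (g : G) * b * (g : G)⁻¹, ?_, ?_, ?_⟩
    · exact S.trans ha (g.2 a (S.mem ha).2)
    · exact S.trans hb (g.2 b (S.mem hb).2)
    · show ((g * m * g⁻¹ : S.kernel) : G) = _
      rw [Subgroup.coe_mul, Subgroup.coe_mul, Subgroup.coe_inv, hab]; group
  exact hmap (Subgroup.mem_map_of_mem _ hn)

omit hD

theorem blockSub_congr {u v : G} (h : S.r u v) : S.blockSub u = S.blockSub v := by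
  have key : ∀ a, S.r u a ↔ S.r v a := fun a =>
    ⟨fun ha => S.trans (S.symm h) ha, fun ha => S.trans h ha⟩
  simp only [blockSub, key]

include hD

/-- The product of two block members as an element of the kernel. -/
def pairElt {u a b : G} (ha : S.r u a) (hb : S.r u b) : S.kernel :=
  ⟨a * b, S.mul_mem_kernel hD (S.trans (S.symm ha) hb)⟩

/-- Commutation of blocks is symmetric in the members chosen. -/
theorem noncommute_of_blocks {u v a b : G} (hu : S.r u a) (hv : S.r v b) (hne : ¬ S.r u v)
    (hnc : ¬ Commute v u) : ¬ Commute b a := by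
  have h1 := S.const hu (S.mem hv).1 hne
  have hne2 : ¬ S.r v a := fun e => hne (S.trans hu (S.symm e))
  have h2 := S.const hv (S.mem hu).2 hne2
  exact fun e => hnc (h1.2 (h2.2 e.symm).symm)

/-- If two blocks do not commute, a perfect subgroup of one block subgroup lies in the other. -/
theorem perfect_le_of_noncommute [Finite G] {u v : G} (hu : u ∈ D) (hv : v ∈ D)
    (hne : ¬ S.r u v) (hnc : ¬ Commute v u) {P : Subgroup S.kernel} (hP : P ≤ S.blockSub u)
    (hPP : ⁅P, P⁆ = P) : P ≤ S.blockSub v := by
  haveI := S.blockSub_normal hD v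
  set M := S.blockSub v
  let π : S.kernel →* S.kernel ⧸ M := QuotientGroup.mk' M
  let Q : Set (S.kernel ⧸ M) :=
    {q | ∃ (b : G) (hb : S.r u b), π (S.pairElt hD (S.refl hu) hb) = q}
  have hone : (1 : S.kernel ⧸ M) ∈ Q := by
    refine ⟨u, S.refl hu, ?_⟩
    have : S.pairElt hD (S.refl hu) (S.refl hu) = (1 : S.kernel) := Subtype.ext (tt_mul_self hD.1 hu)
    rw [this, map_one]
  have hmul : ∀ p ∈ Q, ∀ q ∈ Q, p * q ∈ Q := by
    rintro _ ⟨w, hw, rfl⟩ _ ⟨b, hb, rfl⟩
    set a := v with ha
    have hwD := (S.mem hw).2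
    have iw := tt_inv hD.1 hwD
    have hau : ¬ Commute a u := hnc
    have hn : (w * u) ∈ S.kernel := S.mul_mem_kernel hD (S.symm hw)
    set a' := w * (u * a * u⁻¹) * w⁻¹ with ha'
    have hra : S.r a a' := by
      have h1 := hn a hv
      rwa [show w * u * a * (w * u)⁻¹ = a' by rw [ha']; group] at h1
    have ha'D := (S.mem hra).2
    have hnc' : ¬ Commute a' w := S.noncommute_of_blocks hD hw hra hne hau
    have hk : a' * w * a' = a * u * a := by
      rw [tt_braid hD.1 ha'D hwD hnc', ha', tt_inv hD.1 hu, iw,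
        show w * (w * (u * a * u) * w) * w = (w * w) * (u * a * u) * (w * w) by group,
        tt_mul_self hD.1 hwD, one_mul, mul_one, tt_braid hD.1 hv hu hau]
    set m : S.kernel := S.pairElt hD (u := a) hra (S.refl hv) with hm
    have hmM : m ∈ M := Subgroup.subset_closure ⟨a', a, hra, S.refl hv, rfl⟩
    have hmu : (m : G) * u * (m : G)⁻¹ = w := by
      show a' * a * u * (a' * a)⁻¹ = w
      rw [mul_inv_rev, tt_inv hD.1 hv, tt_inv hD.1 ha'D,
        show a' * a * u * (a * a') = a' * (a * u * a) * a' by group, ← hk,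
        show a' * (a' * w * a') * a' = (a' * a') * w * (a' * a') by group,
        tt_mul_self hD.1 ha'D, one_mul, mul_one]
    set b' := (m : G) * b * (m : G)⁻¹ with hb'
    have hub' : S.r u b' := S.trans hw (hmu ▸ S.conj (m : G) hb)
    refine ⟨b', hub', ?_⟩
    have hπm : π m = 1 := by rw [QuotientGroup.mk'_apply, QuotientGroup.eq_one_iff]; exact hmM
    have e : S.pairElt hD (S.refl hu) hub' =
        S.pairElt hD (S.refl hu) hw * (m * S.pairElt hD (S.refl hu) hb * m⁻¹) := by
      apply Subtype.ext
      show u * b' = u * w * ((m : G) * (u * b) * (m : G)⁻¹)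
      calc u * b' = u * (w * w) * b' := by rw [tt_mul_self hD.1 hwD, mul_one]
        _ = u * w * (((m : G) * u * (m : G)⁻¹) * b') := by rw [hmu]; group
        _ = u * w * ((m : G) * (u * b) * (m : G)⁻¹) := by rw [hb']; group
    rw [e, map_mul, map_mul, map_mul, hπm, map_inv, hπm, inv_one, one_mul, mul_one]
  have hinv : ∀ q ∈ Q, q⁻¹ ∈ Q := by
    intro q hq
    have hp : ∀ n : ℕ, q ^ n ∈ Q := by
      intro n
      induction n with
      | zero => rw [pow_zero]; exact hone
      | succ k ih => rw [pow_succ]; exact hmul _ ih _ hq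
    have : q⁻¹ = q ^ (orderOf q - 1) := by
      refine inv_eq_of_mul_eq_one_left ?_
      rw [← pow_succ, Nat.sub_add_cancel (orderOf_pos q), pow_orderOf_eq_one]
    rw [this]; exact hp _
  let QS : Subgroup (S.kernel ⧸ M) :=
    { carrier := Q
      one_mem' := hone
      mul_mem' := fun {a b} ha hb => hmul a ha b hb
      inv_mem' := fun {a} ha => hinv a ha }
  have hQS : Group.IsSolvable QS := by
    refine isSolvable_of_small_orders fun q => ?_
    obtain ⟨b, hb, hq⟩ := q.2
    rcases hD.1.2 u hu b (S.mem hb).2 with h | h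
    · left; apply Subtype.ext
      rw [Subgroup.coe_pow, ← hq, ← map_pow, show S.pairElt hD (S.refl hu) hb ^ 2 = 1 from Subtype.ext h,
        map_one]; rfl
    · right; apply Subtype.ext
      rw [Subgroup.coe_pow, ← hq, ← map_pow, show S.pairElt hD (S.refl hu) hb ^ 3 = 1 from Subtype.ext h,
        map_one]; rfl
  have himg : P.map π ≤ QS := by
    refine (Subgroup.map_mono hP).trans ?_
    rw [blockSub, MonoidHom.map_closure, Subgroup.closure_le]
    rintro _ ⟨n, ⟨a, b, ha, hb, hn⟩, rfl⟩
    have e : n = (S.pairElt hD (S.refl hu) ha)⁻¹ * S.pairElt hD (S.refl hu) hb := by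
      apply Subtype.ext
      show (n : G) = (u * a)⁻¹ * (u * b)
      rw [hn, mul_inv_rev, tt_inv hD.1 (S.mem ha).2]; group
    rw [e, map_mul, map_inv]
    exact hmul _ (hinv _ ⟨a, ha, rfl⟩) _ ⟨b, hb, rfl⟩
  have hbot := perfect_eq_bot himg (perfect_map π hPP)
  rwa [Subgroup.map_eq_bot_iff, QuotientGroup.ker_mk'] at hbot

/-- Perfect subgroups of one block subgroup lie in all of them. -/
theorem perfect_le_all [Finite G] {u v : G} (hu : u ∈ D) (hv : v ∈ D) {P : Subgroup S.kernel}
    (hP : P ≤ S.blockSub u) (hPP : ⁅P, P⁆ = P) : P ≤ S.blockSub v := by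
  induction tt_noncommute_connected hD hu hv with
  | refl => exact hP
  | @tail b c hab hbc ih =>
    by_cases h : S.r b c
    · rw [← S.blockSub_congr h]; exact ih hbc.1
    · exact S.perfect_le_of_noncommute hD hbc.1 hbc.2.1 h (fun e => hbc.2.2 e.symm) (ih hbc.1) hPP

omit hD

/-- A block whose members commute with each other generates an abelian subgroup. -/
theorem isSolvable_blockSub_of_commute (u : G)
    (hc : ∀ a b, S.r u a → S.r u b → Commute a b) : Group.IsSolvable (S.blockSub u) := by
  have hA : ∀ x ∈ S.blockSub u, ∀ y ∈ S.blockSub u, x * y = y * x := by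
    have hgen : ∀ y ∈ S.blockSub u, ∀ a, S.r u a → Commute a (y : G) := by
      intro y hy
      rw [blockSub] at hy
      induction hy using Subgroup.closure_induction with
      | mem y hy =>
        obtain ⟨b, c, hb, hc', e⟩ := hy
        intro a ha; rw [e]; exact (hc a b ha hb).mul_right (hc a c ha hc')
      | one => intro a _; exact Commute.one_right a
      | mul p q _ _ hp hq => intro a ha; exact (hp a ha).mul_right (hq a ha)
      | inv p _ hp => intro a ha; exact (hp a ha).inv_right
    intro x hx y hy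
    rw [blockSub] at hx
    induction hx using Subgroup.closure_induction with
    | mem x hx =>
      obtain ⟨a, b, ha, hb, e⟩ := hx
      apply Subtype.ext
      show (x : G) * y = y * x
      rw [e]; exact ((hgen y hy a ha).mul_left (hgen y hy b hb)).eq
    | one => rw [one_mul, mul_one]
    | mul p q _ _ hp hq => rw [mul_assoc, hq, ← mul_assoc, hp, mul_assoc]
    | inv p _ hp => exact (Commute.inv_left (a := p) (b := y) hp).eq
  exact Group.isSolvable_of_comm fun a b => Subtype.ext (hA a a.2 b b.2)

include hD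

/-- If two different blocks commute, all block subgroups are solvable. -/
theorem isSolvable_blockSub [Finite G] {b c : G} (hb : b ∈ D) (hc : c ∈ D) (hne : ¬ S.r b c)
    (hcom : Commute c b) (u : G) (hu : u ∈ D) : Group.IsSolvable (S.blockSub u) := by
  refine isSolvable_of_perfect_eq_bot fun P hP hPP => ?_
  have hB := S.perfect_le_all hD hu hb hP hPP
  have hC := S.perfect_le_all hD hu hc hP hPP
  have hgen : ∀ a d, S.r b a → S.r c d → Commute a d := by
    intro a d ha hd
    have h1 := (S.const ha hc hne).1 hcom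
    exact (S.const hd (S.mem ha).2 fun e => hne (S.trans ha (S.symm e))).1 h1.symm
  have hcomm : ∀ x ∈ S.blockSub b, ∀ y ∈ S.blockSub c, x * y = y * x := by
    have hy' : ∀ y ∈ S.blockSub c, ∀ a, S.r b a → Commute a (y : G) := by
      intro y hy
      rw [blockSub] at hy
      induction hy using Subgroup.closure_induction with
      | mem y hy =>
        obtain ⟨p, q, hp, hq, e⟩ := hy
        intro a ha; rw [e]; exact (hgen a p ha hp).mul_right (hgen a q ha hq)
      | one => intro a _; exact Commute.one_right a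
      | mul p q _ _ hp hq => intro a ha; exact (hp a ha).mul_right (hq a ha)
      | inv p _ hp => intro a ha; exact (hp a ha).inv_right
    intro x hx y hy
    rw [blockSub] at hx
    induction hx using Subgroup.closure_induction with
    | mem x hx =>
      obtain ⟨p, q, hp, hq, e⟩ := hx
      apply Subtype.ext
      show (x : G) * y = y * x
      rw [e]; exact ((hy' y hy p hp).mul_left (hy' y hy q hq)).eq
    | one => rw [one_mul, mul_one]
    | mul p q _ _ hp hq => rw [mul_assoc, hq, ← mul_assoc, hp, mul_assoc]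
    | inv p _ hp => exact (Commute.inv_left (a := p) (b := y) hp).eq
  rw [← hPP, Subgroup.commutator_eq_bot_iff_le_centralizer]
  exact fun x hx => Subgroup.mem_centralizer_iff.2 fun y hy => (hcomm x (hB hx) y (hC hy)).symm

/-- Without solvable normal subgroups, solvable block subgroups force singleton blocks. -/
theorem eq_of_rel [Finite G] (hsol : ∀ N : Subgroup G, N.Normal → Group.IsSolvable ↥N → N = ⊥)
    (hsolv : ∀ u ∈ D, Group.IsSolvable (S.blockSub u)) {u v : G} (h : S.r u v) : u = v := by
  set gens : Set G := {g | ∃ a b, S.r a b ∧ g = a * b} with hgens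
  have hLn : (Subgroup.closure gens).Normal := by
    refine ⟨fun n hn g => ?_⟩
    have hmap : (Subgroup.closure gens).map (MulAut.conj g).toMonoidHom ≤ Subgroup.closure gens := by
      rw [MonoidHom.map_closure, Subgroup.closure_le]
      rintro _ ⟨m, ⟨a, b, hab, rfl⟩, rfl⟩
      refine Subgroup.subset_closure ⟨g * a * g⁻¹, g * b * g⁻¹, S.conj g hab, ?_⟩
      show g * (a * b) * g⁻¹ = g * a * g⁻¹ * (g * b * g⁻¹)
      group
    exact hmap (Subgroup.mem_map_of_mem _ hn)
  have hsup : Group.IsSolvable (⨆ w : D, S.blockSub (w : G) : Subgroup S.kernel) :=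
    isSolvable_iSup _ (fun w => S.blockSub_normal hD _) fun w => hsolv _ w.2
  haveI := hsup
  have hle : Subgroup.closure gens ≤
      (⨆ w : D, S.blockSub (w : G) : Subgroup S.kernel).map S.kernel.subtype := by
    rw [Subgroup.closure_le]
    rintro _ ⟨a, b, hab, rfl⟩
    refine ⟨S.pairElt hD (S.refl (S.mem hab).1) hab, ?_, rfl⟩
    exact le_iSup (fun w : D => S.blockSub (w : G)) ⟨a, (S.mem hab).1⟩
      (Subgroup.subset_closure ⟨a, b, S.refl (S.mem hab).1, hab, rfl⟩)
  haveI : Group.IsSolvable
      ((⨆ w : D, S.blockSub (w : G) : Subgroup S.kernel).map S.kernel.subtype) :=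
    Group.isSolvable_of_surjective (MonoidHom.subgroupMap_surjective _ _)
  have hs : Group.IsSolvable (Subgroup.closure gens) :=
    Group.isSolvable_of_isSolvable_injective (Subgroup.inclusion_injective hle)
  have hbot := hsol _ hLn hs
  have huv : u * v ∈ Subgroup.closure gens := Subgroup.subset_closure ⟨u, v, h, rfl⟩
  rw [hbot, Subgroup.mem_bot] at huv
  rw [eq_inv_of_mul_eq_one_left huv, tt_inv hD.1 (S.mem h).2]

end TTBlocks

end Cfsg.Agent.H44
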