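import Cfsg.Prelude.Def_SporadicCombinatorics

/-! The length-12 ternary code: a basis, weights, and the hexads. -/

set_option autoImplicit false
set_option Elab.async false

namespace Cfsg.Agent.H44

/-- Basis of the ternary code, systematic at six information positions. -/
def ternRows : Fin 6 → Fin 12 → ZMod 3 :=
  ![![1, 0, 0, 0, 0, 1, 0, 0, 1, 1, 1, 2], ![0, 1, 0, 0, 0, 1, 0, 2, 2, 2, 0, 2],
    ![0, 0, 1, 0, 0, 1, 0, 1, 0, 2, 1, 1], ![0, 0, 0, 1, 0, 2, 0, 2, 1, 2, 1, 0],
    ![0, 0, 0, 0, 1, 2, 0, 1, 2, 0, 1, 2], ![0, 0, 0, 0, 0, 0, 1, 1, 1, 2, 2, 2]]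

/-- Position number of a cell of the 4 × 3 array. -/
def ternIdx (p : ArrayPt) : Fin 12 :=
  ![![0, 1, 2], ![3, 4, 5], ![6, 7, 8], ![9, 10, 11]] p.1 p.2

/-- The encoding map. -/
def ternEnc (a : Fin 6 → ZMod 3) : ArrayPt → ZMod 3 := fun p => ∑ j, a j * ternRows j (ternIdx p)

/-- The information positions. -/
def ternInfo : Fin 6 → ArrayPt := ![(0, 0), (0, 1), (0, 2), (1, 0), (1, 1), (2, 0)]

/-- The nine tetracode words. -/
def tetraWord (ab : ZMod 3 × ZMod 3) : Fin 4 → ZMod 3 :=
  fun i => ab.1 * ![0, 1, 1, 1] i + ab.2 * ![1, 0, 1, 2] i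

theorem mem_tetracode_iff (t : Fin 4 → ZMod 3) :
    t ∈ tetracode ↔ ∃ ab : ZMod 3 × ZMod 3, t = tetraWord ab := by
  rw [tetracode, Submodule.mem_span_pair]
  constructor
  · rintro ⟨a, b, rfl⟩; exact ⟨(a, b), rfl⟩
  · rintro ⟨⟨a, b⟩, rfl⟩; exact ⟨a, b, rfl⟩

/-- The decidable form of the defining conditions. -/
def ternCheck (x : ArrayPt → ZMod 3) : Prop :=
  (∀ i : Fin 4, ∑ r : ZMod 3, x (i, r) = ∑ r : ZMod 3, x (0, r)) ∧
    ∀ ab : ZMod 3 × ZMod 3, ∑ i : Fin 4, x (i, tetraWord ab i) = -∑ r : ZMod 3, x (0, r)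

instance (x : ArrayPt → ZMod 3) : Decidable (ternCheck x) := by unfold ternCheck; infer_instance

theorem mem_ternary_iff_check (x : ArrayPt → ZMod 3) :
    x ∈ ternaryGolayCode ↔ ternCheck x := by
  show IsTernaryGolayWord x ↔ _
  constructor
  · rintro ⟨s, hs, ht⟩
    refine ⟨fun i => by rw [hs i, hs 0], fun ab => ?_⟩
    rw [hs 0, neg_neg]; exact ht _ ((mem_tetracode_iff _).2 ⟨ab, rfl⟩)
  · rintro ⟨hs, ht⟩
    refine ⟨-∑ r : ZMod 3, x (0, r), fun i => by rw [hs i, neg_neg], fun t h => ?_⟩
    obtain ⟨ab, rfl⟩ := (mem_tetracode_iff t).1 h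
    exact ht ab

theorem ternEnc_info : ∀ a : Fin 6 → ZMod 3, ∀ j, ternEnc a (ternInfo j) = a j := by
  decide +kernel

theorem ternEnc_check0 : ∀ b : Fin 5 → ZMod 3, ternCheck (ternEnc (Fin.cons 0 b)) := by decide +kernel

theorem ternEnc_check1 : ∀ b : Fin 5 → ZMod 3, ternCheck (ternEnc (Fin.cons 1 b)) := by decide +kernel

theorem ternEnc_check2 : ∀ b : Fin 5 → ZMod 3, ternCheck (ternEnc (Fin.cons 2 b)) := by decide +kernel

theorem ternEnc_check (a : Fin 6 → ZMod 3) : ternCheck (ternEnc a) := by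
  rw [← Fin.cons_self_tail a]
  generalize Fin.tail a = b
  generalize a 0 = c
  fin_cases c
  exacts [ternEnc_check0 b, ternEnc_check1 b, ternEnc_check2 b]

/-- Words on the six non-information positions. -/
def ternRest (b : Fin 6 → ZMod 3) : ArrayPt → ZMod 3 := fun p =>
  ![![0, 0, 0], ![0, 0, b 0], ![0, b 1, b 2], ![b 3, b 4, b 5]] p.1 p.2

theorem ternRest_zero : ∀ b : Fin 6 → ZMod 3, ternCheck (ternRest b) → b = 0 := by decide +kernel

/-- A word of the code is determined by its information positions. -/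
theorem ternary_eq_enc {x : ArrayPt → ZMod 3} (hx : x ∈ ternaryGolayCode) :
    x = ternEnc (fun j => x (ternInfo j)) := by
  set a := fun j => x (ternInfo j) with ha
  set z := x - ternEnc a with hz
  have hzm : z ∈ ternaryGolayCode :=
    sub_mem hx ((mem_ternary_iff_check _).2 (ternEnc_check a))
  have h0 : ∀ j, z (ternInfo j) = 0 := fun j => by
    rw [hz, Pi.sub_apply, ternEnc_info, ha, sub_self]
  have hzr : z = ternRest ![z (1, 2), z (2, 1), z (2, 2), z (3, 0), z (3, 1), z (3, 2)] := by
    funext p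
    obtain ⟨i, r⟩ := p
    have := h0 0; have := h0 1; have := h0 2; have := h0 3; have := h0 4; have := h0 5
    fin_cases i <;> fin_cases r <;> first | rfl | assumption
  have hb := ternRest_zero _ (hzr ▸ (mem_ternary_iff_check z).1 hzm)
  rw [hb] at hzr
  have h00 : ternRest 0 = 0 := by decide +kernel
  rw [h00, hz, sub_eq_zero] at hzr
  exact hzr

theorem mem_ternary_iff_enc (x : ArrayPt → ZMod 3) :
    x ∈ ternaryGolayCode ↔ ∃ a, ternEnc a = x :=
  ⟨fun h => ⟨_, (ternary_eq_enc h).symm⟩, fun ⟨a, ha⟩ => ha ▸ (mem_ternary_iff_check _).2 (ternEnc_check a)⟩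

theorem ternEnc_injective : Function.Injective ternEnc := fun a b h => by
  funext j; rw [← ternEnc_info a j, h, ternEnc_info b j]

theorem ternEnc_weights : ∀ a : Fin 6 → ZMod 3, a = 0 ∨
    (ternarySupport (ternEnc a)).card = 6 ∨ (ternarySupport (ternEnc a)).card = 9 ∨
      (ternarySupport (ternEnc a)).card = 12 := by decide +kernel

/-- The number of code words of a given weight, as a finite computation. -/
theorem ncard_weight (k : ℕ) :
    {x : ArrayPt → ZMod 3 | x ∈ ternaryGolayCode ∧ (ternarySupport x).card = k}.ncard =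
      (Finset.univ.filter fun a => (ternarySupport (ternEnc a)).card = k).card := by
  rw [← Finset.card_image_of_injective _ ternEnc_injective, ← Set.ncard_coe_finset]
  congr 1
  ext x
  simp only [Finset.coe_image, Finset.coe_filter, Finset.mem_univ, true_and, Set.mem_image,
    Set.mem_setOf_eq, mem_ternary_iff_enc]
  constructor
  · rintro ⟨⟨a, rfl⟩, h⟩; exact ⟨a, h, rfl⟩
  · rintro ⟨a, h, rfl⟩; exact ⟨⟨a, rfl⟩, h⟩

theorem ternary_min_weight {x : ArrayPt → ZMod 3} (hx : x ∈ ternaryGolayCode) (h0 : x ≠ 0) :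
    (ternarySupport x).card = 6 ∨ (ternarySupport x).card = 9 ∨ (ternarySupport x).card = 12 := by
  obtain ⟨a, rfl⟩ := (mem_ternary_iff_enc x).1 hx
  rcases ternEnc_weights a with h | h
  · subst h; exact absurd (by funext p; simp [ternEnc]) h0
  · exact h

theorem mem_ternarySupport {x : ArrayPt → ZMod 3} {p : ArrayPt} :
    p ∈ ternarySupport x ↔ x p ≠ 0 := by simp [ternarySupport]

/-- Two weight-6 words whose supports share five points are equal or opposite. -/
theorem eq_or_neg_of_five_common {x y : ArrayPt → ZMod 3} (hx : x ∈ ternaryGolayCode)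
    (hy : y ∈ ternaryGolayCode) (cx : (ternarySupport x).card = 6) (cy : (ternarySupport y).card = 6)
    (h5 : 5 ≤ (ternarySupport x ∩ ternarySupport y).card) : x = y ∨ x = -y := by
  by_contra hne
  push Not at hne
  have h1 : 6 ≤ (ternarySupport (x - y)).card := by
    rcases ternary_min_weight (sub_mem hx hy) (sub_ne_zero.2 hne.1) with h | h | h <;> omega
  have h2 : 6 ≤ (ternarySupport (x + y)).card := by
    have : x + y ≠ 0 := fun h => hne.2 (eq_neg_of_add_eq_zero_left h)
    rcases ternary_min_weight (add_mem hx hy) this with h | h | h <;> omega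
  have sub1 : ternarySupport (x - y) ∪ ternarySupport (x + y) ⊆ ternarySupport x ∪ ternarySupport y := by
    intro p hp
    simp only [Finset.mem_union, mem_ternarySupport] at hp ⊢
    by_contra h
    push Not at h
    simp [h.1, h.2] at hp
  have sub2 : ternarySupport (x - y) ∩ ternarySupport (x + y) ⊆
      (ternarySupport x ∪ ternarySupport y) \ (ternarySupport x ∩ ternarySupport y) := by
    intro p hp
    simp only [Finset.mem_sdiff, Finset.mem_union, Finset.mem_inter, mem_ternarySupport] at hp ⊢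
    revert hp
    simp only [Pi.sub_apply, Pi.add_apply]
    generalize x p = u
    generalize y p = v
    revert u v
    decide
  have e1 := Finset.card_union_add_card_inter (ternarySupport (x - y)) (ternarySupport (x + y))
  have e2 := Finset.card_le_card sub1
  have e3 := Finset.card_le_card sub2
  rw [Finset.card_sdiff_of_subset Finset.inter_subset_union] at e3
  have e4 := Finset.card_union_add_card_inter (ternarySupport x) (ternarySupport y)
  omega

end Cfsg.Agent.H44
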