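import Cfsg.Agent.H44.Ternary

/-! The hexads of the length-12 ternary code form a Steiner system S(5, 6, 12). -/

set_option autoImplicit false

namespace Cfsg.Agent.H44

/-- The hexads of the ternary code, as a finset. -/
def ternHexads : Finset (Finset ArrayPt) :=
  ((Finset.univ.filter fun a => (ternarySupport (ternEnc a)).card = 6).image
    fun a => ternarySupport (ternEnc a))

theorem mem_ternHexads (h : Finset ArrayPt) :
    h ∈ ternHexads ↔ ∃ x ∈ ternaryGolayCode, ternarySupport x = h ∧ h.card = 6 := by
  simp only [ternHexads, Finset.mem_image, Finset.mem_filter, Finset.mem_univ, true_and]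
  constructor
  · rintro ⟨a, ha, rfl⟩; exact ⟨_, (mem_ternary_iff_enc _).2 ⟨a, rfl⟩, rfl, ha⟩
  · rintro ⟨x, hx, rfl, hc⟩
    obtain ⟨a, rfl⟩ := (mem_ternary_iff_enc x).1 hx
    exact ⟨a, hc, rfl⟩

theorem ternHexads_card : ternHexads.card = 132 := by
  have h264 : (Finset.univ.filter fun a => (ternarySupport (ternEnc a)).card = 6).card = 264 := by
    decide +kernel
  have h2 : ∀ h ∈ ternHexads,
      ((Finset.univ.filter fun a => (ternarySupport (ternEnc a)).card = 6).filter
        fun a => ternarySupport (ternEnc a) = h).card = 2 := by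
    intro h hh
    obtain ⟨a, ha, rfl⟩ := Finset.mem_image.1 hh
    have ha' := (Finset.mem_filter.1 ha).2
    have hneg : ∀ c : Fin 6 → ZMod 3, ternEnc (-c) = -ternEnc c := by
      intro c; funext p; simp [ternEnc]
    have hne : a ≠ -a := by
      intro e
      have : a = 0 := by
        funext j
        have hj := congrFun e j
        simp only [Pi.neg_apply] at hj
        show a j = (0 : ZMod 3)
        generalize a j = u at hj ⊢
        revert u; decide
      subst this
      revert ha'
      decide +kernel
    refine Eq.trans ?_ (Finset.card_pair hne)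
    congr 1
    ext b
    simp only [Finset.mem_filter, Finset.mem_univ, true_and, Finset.mem_insert, Finset.mem_singleton]
    constructor
    · rintro ⟨hb, he⟩
      have h5 : 5 ≤ (ternarySupport (ternEnc b) ∩ ternarySupport (ternEnc a)).card := by
        rw [he, Finset.inter_self]; omega
      rcases eq_or_neg_of_five_common ((mem_ternary_iff_enc _).2 ⟨b, rfl⟩)
        ((mem_ternary_iff_enc _).2 ⟨a, rfl⟩) hb ha' h5 with e | e
      · exact Or.inl (ternEnc_injective e)
      · exact Or.inr (ternEnc_injective (e.trans (hneg a).symm))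
    · have hs : ternarySupport (ternEnc (-a)) = ternarySupport (ternEnc a) := by
        ext p; simp [mem_ternarySupport, hneg]
      rintro (rfl | rfl)
      · exact ⟨ha', rfl⟩
      · exact ⟨by rw [hs]; exact ha', hs⟩
  have := Finset.card_eq_sum_card_image (fun a => ternarySupport (ternEnc a))
    (Finset.univ.filter fun a => (ternarySupport (ternEnc a)).card = 6)
  rw [h264, show Finset.image (fun a => ternarySupport (ternEnc a))
    (Finset.univ.filter fun a => (ternarySupport (ternEnc a)).card = 6) = ternHexads from rfl,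
    Finset.sum_congr rfl h2, Finset.sum_const, smul_eq_mul] at this
  omega

/-- A packing of the right size is a Steiner system. -/
theorem packing_existsUnique {α : Type*} [Fintype α] [DecidableEq α] (H : Finset (Finset α))
    (k t : ℕ) (hk : ∀ h ∈ H, h.card = k)
    (huniq : ∀ h ∈ H, ∀ h' ∈ H, ∀ s : Finset α, s.card = t → s ⊆ h → s ⊆ h' → h = h')
    (hcount : H.card * k.choose t = (Fintype.card α).choose t) (s : Finset α) (hs : s.card = t) :
    ∃! h, h ∈ H ∧ s ⊆ h := by
  have hd : (H : Set (Finset α)).PairwiseDisjoint fun h => h.powersetCard t := by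
    intro h hh h' hh' hne
    refine Finset.disjoint_left.2 fun u uh uh' => hne ?_
    rw [Finset.mem_powersetCard] at uh uh'
    exact huniq h hh h' hh' u uh.2 uh.1 uh'.1
  have hcover : H.biUnion (fun h => h.powersetCard t) = (Finset.univ : Finset α).powersetCard t := by
    refine Finset.eq_of_subset_of_card_le (fun u hu => ?_) (le_of_eq ?_)
    · obtain ⟨h, -, hu⟩ := Finset.mem_biUnion.1 hu
      exact Finset.mem_powersetCard.2 ⟨u.subset_univ, (Finset.mem_powersetCard.1 hu).2⟩
    · rw [Finset.card_biUnion hd, Finset.sum_congr rfl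
        (fun h hh => by rw [Finset.card_powersetCard, hk h hh]), Finset.sum_const,
        Finset.card_powersetCard, Finset.card_univ, smul_eq_mul, hcount]
  have hmem : s ∈ (Finset.univ : Finset α).powersetCard t :=
    Finset.mem_powersetCard.2 ⟨s.subset_univ, hs⟩
  rw [← hcover] at hmem
  obtain ⟨h, hh, hsh⟩ := Finset.mem_biUnion.1 hmem
  have hsub := (Finset.mem_powersetCard.1 hsh).1
  exact ⟨h, ⟨hh, hsub⟩, fun h' h1 => huniq h' h1.1 h hh s hs h1.2 hsub⟩

/-- The hexads form a Steiner system S(5, 6, 12). -/
theorem ternHexads_unique (s : Finset ArrayPt) (hs : s.card = 5) :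
    ∃! h, h ∈ ternHexads ∧ s ⊆ h := by
  refine packing_existsUnique ternHexads 6 5 (fun h hh => ?_) (fun h hh k hk t ht th tk => ?_) ?_ s hs
  · obtain ⟨x, -, -, hc⟩ := (mem_ternHexads h).1 hh; exact hc
  · obtain ⟨x, hx, rfl, cx⟩ := (mem_ternHexads h).1 hh
    obtain ⟨y, hy, rfl, cy⟩ := (mem_ternHexads k).1 hk
    rcases eq_or_neg_of_five_common hx hy cx cy
      (ht ▸ Finset.card_le_card (Finset.subset_inter th tk)) with e | e <;> subst e
    · rfl
    · ext p; simp [mem_ternarySupport]
  · rw [ternHexads_card, Fintype.card_prod, Fintype.card_fin, ZMod.card]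
    decide

/-- Any two points lie in a common hexad. -/
theorem ternHexads_two (p q : ArrayPt) : ∃ h ∈ ternHexads, p ∈ h ∧ q ∈ h := by
  obtain ⟨s, hps, hs⟩ := Finset.exists_superset_card_eq (s := ({p, q} : Finset ArrayPt)) (n := 5)
    (le_trans Finset.card_le_two (by norm_num)) (by rw [Fintype.card_prod, Fintype.card_fin, ZMod.card]; norm_num)
  obtain ⟨h, ⟨hh, hsh⟩, -⟩ := ternHexads_unique s hs
  exact ⟨h, hh, hsh (hps (by simp)), hsh (hps (by simp))⟩

end Cfsg.Agent.H44
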