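import Cfsg.Agent.H44.TernaryAutData
import Cfsg.Agent.S0425
import Cfsg.Agent.S1592
import Cfsg.Agent.S1593

/-!
Every automorphism of the hexad system is the permutation part of a monomial automorphism of
the ternary code.
-/

set_option autoImplicit false

namespace Cfsg.Agent.H44

open scoped Pointwise

/-- A monomial map preserves the code. -/
def PreservesTern (σ : Equiv.Perm ArrayPt) (c : ArrayPt → (ZMod 3)ˣ) : Prop :=
  ∀ x ∈ ternaryGolayCode, monomialMap σ c x ∈ ternaryGolayCode

theorem PreservesTern.comp {σ τ : Equiv.Perm ArrayPt} {c d : ArrayPt → (ZMod 3)ˣ}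
    (h : PreservesTern σ c) (h' : PreservesTern τ d) :
    PreservesTern (σ * τ) (fun p => c p * d (σ.symm p)) := by
  intro x hx
  have e : monomialMap (σ * τ) (fun p => c p * d (σ.symm p)) x =
      monomialMap σ c (monomialMap τ d x) := by
    funext p
    simp only [monomialMap, Units.val_mul, mul_assoc]
    rfl
  rw [e]
  exact h _ (h' x hx)

theorem PreservesTern.one : PreservesTern 1 1 := fun x hx => by
  rw [show monomialMap (1 : Equiv.Perm ArrayPt) (1 : ArrayPt → (ZMod 3)ˣ) x = x from by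
    funext p; simp [monomialMap, Equiv.Perm.one_def]]
  exact hx

/-- The permutation parts form a group. -/
def monoPerms : Subgroup (Equiv.Perm ArrayPt) :=
  subgroupOfIdempotent {σ | ∃ c, PreservesTern σ c} ⟨1, 1, PreservesTern.one⟩ <| by
    refine Set.Subset.antisymm ?_ fun σ hσ => ⟨σ, hσ, 1, ⟨1, PreservesTern.one⟩, mul_one σ⟩
    rintro _ ⟨σ, ⟨c, hc⟩, τ, ⟨d, hd⟩, rfl⟩
    exact ⟨_, hc.comp hd⟩

theorem mem_monoPerms {σ : Equiv.Perm ArrayPt} : σ ∈ monoPerms ↔ ∃ c, PreservesTern σ c := Iff.rfl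

theorem exists_of_ok {t : ℕ × ℕ × ℕ} (h : MonoOK t) :
    ∃ σ ∈ monoPerms, ∀ i, σ (ternPtEquiv i) = ternPtEquiv (nibAt t.1 i) := by
  let s : Equiv.Perm (Fin 12) :=
    ⟨nibAt t.1, nibAt t.2.1, fun i => (h.1 i).1, fun i => (h.1 i).2⟩
  refine ⟨ternPtEquiv.permCongr s, ⟨bitSign t.2.2, fun x hx => ?_⟩, fun i => ?_⟩
  · obtain ⟨a, rfl⟩ := (mem_ternary_iff_enc x).1 hx
    have e : monomialMap (ternPtEquiv.permCongr s) (bitSign t.2.2) (ternEnc a) =
        ∑ j, a j • fun p => (bitSign t.2.2 p : ZMod 3) * ternRows j (nibAt t.2.1 (ternIdx p)) := by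
      funext p
      simp only [monomialMap, ternEnc, Finset.mul_sum, Finset.sum_apply, Pi.smul_apply, smul_eq_mul]
      refine Finset.sum_congr rfl fun j _ => ?_
      rw [show ternIdx ((ternPtEquiv.permCongr s).symm p) = nibAt t.2.1 (ternIdx p) from
        ternPtEquiv.symm_apply_apply _]
      ring
    rw [e]
    exact Submodule.sum_mem _ fun j _ =>
      Submodule.smul_mem _ _ ((mem_ternary_iff_check _).2 (h.2 j))
  · rw [Equiv.permCongr_apply, Equiv.symm_apply_apply]
    rfl

/-- The base points. -/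
def ternBase (i : Fin 5) : ArrayPt := ternPtEquiv ⟨i.1, by omega⟩

theorem exists_map_five {b : Fin 5 → ArrayPt} (hb : Function.Injective b) :
    ∃ σ ∈ monoPerms, ∀ i, σ (ternBase i) = b i := by
  suffices h : ∀ k ≤ 5, ∃ σ ∈ monoPerms, ∀ i : Fin 5, i.1 < k → σ (ternBase i) = b i by
    obtain ⟨σ, hσ, h⟩ := h 5 le_rfl
    exact ⟨σ, hσ, fun i => h i i.2⟩
  intro k hk
  induction k with
  | zero => exact ⟨1, monoPerms.one_mem, fun i hi => absurd hi (Nat.not_lt_zero _)⟩
  | succ k ih =>
    obtain ⟨g, hg, hgb⟩ := ih (by omega)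
    obtain ⟨j, hj⟩ : ∃ j, g (ternPtEquiv j) = b ⟨k, by omega⟩ :=
      ⟨ternPtEquiv.symm (g.symm (b ⟨k, by omega⟩)), by simp⟩
    have hkj : k ≤ j.1 := by
      by_contra hlt
      have h1 := hgb ⟨j.1, by omega⟩ (by simp only; omega)
      rw [show ternBase ⟨j.1, by omega⟩ = ternPtEquiv j from rfl, hj] at h1
      have := congrArg Fin.val (hb h1)
      simp only at this
      omega
    obtain ⟨hok, hkk, hlow⟩ := ternLevels_cert ⟨k, by omega⟩ j hkj
    obtain ⟨τ, hτ, hτb⟩ := exists_of_ok hok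
    refine ⟨g * τ, monoPerms.mul_mem hg hτ, fun i hi => ?_⟩
    rw [Equiv.Perm.mul_apply, show τ (ternBase i) = _ from hτb _]
    rcases Nat.lt_succ_iff_lt_or_eq.1 hi with h | h
    · rw [hlow ⟨i.1, by omega⟩ h]
      exact hgb i h
    · subst h
      exact (congrArg (fun z => g (ternPtEquiv z)) hkk).trans hj

theorem monoPerms_mem_aut {σ : Equiv.Perm ArrayPt} (hσ : σ ∈ monoPerms) :
    ∀ h ∈ ternHexads, σ • h ∈ ternHexads := by
  obtain ⟨c, hc⟩ := mem_monoPerms.1 hσ
  intro h hh
  obtain ⟨x, hx, rfl, hcard⟩ := (mem_ternHexads h).1 hh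
  have e : ternarySupport (monomialMap σ c x) = σ • ternarySupport x := by
    ext p
    rw [mem_ternarySupport, ← Finset.inv_smul_mem_iff, mem_ternarySupport]
    simp only [monomialMap, ne_eq, mul_eq_zero, Units.ne_zero, false_or]
    rfl
  exact (mem_ternHexads _).2 ⟨_, hc x hx, e, by rw [Finset.card_smul_finset, hcard]⟩

/-- The monomial permutation group is the automorphism group of the hexads. -/
theorem monoPerms_eq :
    monoPerms = setSystemAut
      {h : Finset ArrayPt | ∃ x ∈ ternaryGolayCode, ternarySupport x = h ∧ h.card = 6} := by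
  obtain ⟨⟨_, hcard⟩, -⟩ := S0425.result (α := ArrayPt)
    (by rw [Fintype.card_prod, Fintype.card_fin, ZMod.card]) (S1592.result.1)
  set B : Set (Finset ArrayPt) :=
    {h | ∃ x ∈ ternaryGolayCode, ternarySupport x = h ∧ h.card = 6} with hB
  have hBfin : B.Finite := Set.toFinite _
  have hle : monoPerms ≤ setSystemAut B := by
    intro σ hσ
    have hsub : ∀ h ∈ B, σ • h ∈ B := fun h hh =>
      (mem_ternHexads _).1 (monoPerms_mem_aut hσ h ((mem_ternHexads h).2 hh))
    refine MulAction.mem_stabilizer_iff.2 (Set.eq_of_subset_of_ncard_le ?_ ?_ hBfin)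
    · rintro _ ⟨h, hh, rfl⟩; exact hsub h hh
    · rw [Set.ncard_smul_set]
  have h5 : 95040 ≤ Nat.card monoPerms := by
    have hsurj : Function.Surjective (fun σ : monoPerms =>
        (⟨fun i => (σ : Equiv.Perm ArrayPt) (ternBase i),
          fun a b h => by
            have := congrArg Fin.val (ternPtEquiv.injective ((σ : Equiv.Perm ArrayPt).injective h))
            exact Fin.ext this⟩ : Fin 5 ↪ ArrayPt)) := fun b => by
      obtain ⟨σ, hσ, h⟩ := exists_map_five b.injective
      exact ⟨⟨σ, hσ⟩, Function.Embedding.ext h⟩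
    refine le_trans ?_ (Nat.card_le_card_of_surjective _ hsurj)
    rw [Nat.card_eq_fintype_card, Fintype.card_embedding_eq, Fintype.card_prod, Fintype.card_fin,
      ZMod.card, Fintype.card_fin]
    decide
  exact Subgroup.eq_of_le_of_card_ge hle (hcard.le.trans h5)

end Cfsg.Agent.H44
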