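import Cfsg.Agent.H44.Ternary

/-!
Monomial automorphisms of the ternary code: five levels of transversals showing that their
permutation parts are five-transitive.
-/

set_option autoImplicit false

namespace Cfsg.Agent.H44

/-- Entry `i` of a packed table of twelve positions. -/
def nibAt (t : ℕ) (i : Fin 12) : Fin 12 := ⟨t / 16 ^ i.1 % 16 % 12, Nat.mod_lt _ (by norm_num)⟩

/-- The positions of the array. -/
def ternPtEquiv : Fin 12 ≃ ArrayPt where
  toFun n := (⟨n.1 / 3, by omega⟩, (n.1 : ZMod 3))
  invFun := ternIdx
  left_inv := by unfold Function.LeftInverse; decide +kernel
  right_inv := by unfold Function.RightInverse Function.LeftInverse; decide +kernel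

/-- The sign at a position packed in a bit pattern. -/
def bitSign (c : ℕ) (p : ArrayPt) : (ZMod 3)ˣ := if c.testBit (ternIdx p).1 then -1 else 1

/-- A table with its inverse and signs preserves the code. -/
def MonoOK (t : ℕ × ℕ × ℕ) : Prop :=
  (∀ i, nibAt t.2.1 (nibAt t.1 i) = i ∧ nibAt t.1 (nibAt t.2.1 i) = i) ∧
    ∀ j : Fin 6, ternCheck fun p =>
      (bitSign t.2.2 p : ZMod 3) * ternRows j (nibAt t.2.1 (ternIdx p))

/-- Transversals: the `k`th list fixes positions below `k` and sends `k` to each later one. -/
def ternLevels : List (List (ℕ × ℕ × ℕ)) :=
  [
  [(205163983024656, 205163983024656, 0), (114875801285121, 114875801285121, 0), (171143312191746, 186601419583521, 0), (203987229090051, 200838984500001, 2764), (149235455697156, 167656838677281, 1940), (188533650432261, 188465698652961, 3428), (203028566319366, 203798352446241, 2514), (111366534013191, 95138016215841, 3102), (98289112523016, 129331828900641, 1224), (134738834825481, 151774303765281, 3746), (77607836262666, 106195122340641, 2824), (163099914215691, 8479751947041, 430)],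
  [(205163983024656, 205163983024656, 0), (148896472117536, 148896472117536, 0), (183040958800176, 118230153958176, 2764), (117199865061696, 134787001041696, 1940), (167587380142416, 148135453475616, 3428), (95969627808096, 113630368056096, 2514), (186389881889136, 100781785563936, 3102), (128339622961536, 164384360514336, 1224), (82852190560656, 184818442388256, 3746), (199520902390176, 195118630322976, 2824), (148040433476016, 27948870026016, 430)],
  [(205163983024656, 205163983024656, 0), (167926364906256, 167926364906256, 2764), (135818296632336, 184072505803536, 1940), (201938729903376, 203992259183376, 3428), (152511949514256, 169717554103056, 2514), (92816805144336, 97264529457936, 3102), (165301675304976, 111817503752976, 1224), (185219212847376, 135422825480976, 3746), (115772311677456, 143646984323856, 2824), (76520923278096, 42435747726096, 430)],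
  [(205163983024656, 205163983024656, 0), (147865428247056, 147865428247056, 0), (186605193351696, 171139535290896, 0), (199605510955536, 202694063505936, 6), (116911320035856, 99399427965456, 4090), (96304787325456, 129277051159056, 4092), (128266436579856, 115692283773456, 6), (82916315210256, 179793663050256, 4092), (167424912765456, 61273455280656, 4090)],
  [(205163983024656, 205163983024656, 0), (132399770186256, 132399770186256, 0), (183942805598736, 153208536773136, 6), (80841396400656, 95285065495056, 4090), (110731096240656, 164327252963856, 4092), (153208536773136, 183942805598736, 6), (164327252963856, 110731096240656, 4092), (95285065495056, 80841396400656, 4090)]]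

instance (t : ℕ × ℕ × ℕ) : Decidable (MonoOK t) := by unfold MonoOK; infer_instance

theorem ternLevels_cert :
    ∀ k : Fin 5, ∀ j : Fin 12, k.1 ≤ j.1 →
      MonoOK ((ternLevels.getD k.1 []).getD (j.1 - k.1) (0, 0, 0)) ∧
      nibAt ((ternLevels.getD k.1 []).getD (j.1 - k.1) (0, 0, 0)).1 ⟨k.1, by omega⟩ = j ∧
      ∀ i : Fin 12, i.1 < k.1 →
        nibAt ((ternLevels.getD k.1 []).getD (j.1 - k.1) (0, 0, 0)).1 i = i := by
  decide +kernel

end Cfsg.Agent.H44
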